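import Mathlib
import Cfsg.Agent.PERM.Ito14

/-!
# Simple groups with five non-trivial class sizes and two minimal ones: definitions
-/

set_option autoImplicit false

namespace CL.I5

open Subgroup Cfsg CL.CS CL.Ito

/-- the list of simple groups with `2`-nilpotent involution centralizers -/
def L4 (G : Type*) [Group G] : Prop :=
  (∃ (F : Type) (_ : Field F) (_ : Fintype F), 3 < Fintype.card F ∧
      Nonempty (G ≃* Matrix.ProjectiveSpecialLinearGroup (Fin 2) F)) ∨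
    Lie.IsoSuzuki G ∨ Nonempty (G ≃* ↥(alternatingGroup (Fin 7))) ∨
    (∃ (F : Type) (_ : Field F) (_ : Fintype F), Fintype.card F = 4 ∧
      Nonempty (G ≃* Matrix.ProjectiveSpecialLinearGroup (Fin 3) F))

variable {G : Type*} [Group G]

/-- the class sizes of `x` and `y` are the two minimal non-trivial class sizes -/
structure TH (x y : G) : Prop where
  hx : x ≠ 1
  hy : y ≠ 1
  co : (𝐂[x]).index.Coprime (𝐂[y]).index
  dv : ∀ g : G, g ≠ 1 → (𝐂[x]).index ∣ (𝐂[g]).index ∨ (𝐂[y]).index ∣ (𝐂[g]).index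
  headx : ∀ g : G, g ≠ 1 → (𝐂[g]).index ∣ (𝐂[x]).index → (𝐂[g]).index = (𝐂[x]).index
  heady : ∀ g : G, g ≠ 1 → (𝐂[g]).index ∣ (𝐂[y]).index → (𝐂[g]).index = (𝐂[y]).index

theorem TH.symm {x y : G} (h : TH x y) : TH y x :=
  ⟨h.hy, h.hx, h.co.symm, fun g hg => (h.dv g hg).symm, h.heady, h.headx⟩

theorem TH.of_index {x y x' : G} (h : TH x y) (h1 : x' ≠ 1) (e : (𝐂[x']).index = (𝐂[x]).index) :
    TH x' y :=
  ⟨h1, h.hy, e ▸ h.co, e ▸ h.dv, e ▸ h.headx, h.heady⟩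

/-- an element of prime order among the powers, with the same centralizer -/
theorem exists_prime_cen [Finite G] {x : G} (hx : x ≠ 1)
    (head : ∀ g : G, g ≠ 1 → (𝐂[g]).index ∣ (𝐂[x]).index → (𝐂[g]).index = (𝐂[x]).index) :
    ∃ x' ∈ zpowers x, (orderOf x').Prime ∧ 𝐂[x'] = 𝐂[x] := by
  obtain ⟨p, hp, hd⟩ := Nat.exists_prime_and_dvd (mt orderOf_eq_one_iff.1 hx)
  have h1 := orderOf_pow_orderOf_div (orderOf_pos x).ne' hd
  refine ⟨_, npow_mem_zpowers x _, h1.symm ▸ hp, (eq_of_le_of_index_eq (cen_le_cen_pow x _)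
    (head _ (fun e => hp.one_lt.ne' (by rw [← h1, e, orderOf_one])) (index_cen_pow_dvd _ _)).symm).symm⟩

/-- class sizes above the class size of an involution -/
def DI (G : Type*) [Group G] (c : ℕ) : Prop := ∀ t : G, orderOf t = 2 →
  (∀ y : G, (𝐂[t]).index ∣ (𝐂[y]).index → (𝐂[y]).index = (𝐂[t]).index ∨ (𝐂[y]).index = c) ∧
  ((𝐂[t]).index ≠ c → ∀ y : G, y ≠ 1 → (𝐂[y]).index ∣ (𝐂[t]).index → (𝐂[y]).index = (𝐂[t]).index)

/-- a Sylow `2`-subgroup centralizes only one conjugate of `x` -/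
def One (x : G) : Prop :=
  ∀ (T : Sylow 2 G) (g : G), (T : Subgroup G) ≤ 𝐂[x] → (T : Subgroup G) ≤ 𝐂[g * x * g⁻¹] → g ∈ 𝐂[x]

/-- an isolated element whose centralizer is a Hall subgroup of odd index -/
structure ISO (x : G) : Prop where
  hx : x ≠ 1
  odd : Odd (𝐂[x]).index
  hall : (𝐂[x]).index.Coprime (Nat.card 𝐂[x])
  head : ∀ g : G, g ≠ 1 → (𝐂[g]).index ∣ (𝐂[x]).index → (𝐂[g]).index = (𝐂[x]).index
  ev : ∀ g : G, g ≠ 1 → 2 ∣ Nat.card 𝐂[g] → (𝐂[x]).index ∣ (𝐂[g]).index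
  iso : ∀ x' : G, (𝐂[x']).index = (𝐂[x]).index → IsIsolated x'
  one : One x

/-- centralizers whose order is not prime to the odd Hall divisor `a` have order `a` or `a'` -/
structure KS (G : Type*) [Group G] (a a' u s : ℕ) : Prop where
  odd : Odd a
  hu : u.Prime
  hs : s.Prime
  su : s ≠ u
  sa : s ∣ a
  pow : ∃ k, 0 < k ∧ a = a' * u ^ k
  dvd : a ∣ Nat.card G
  hall : a.Coprime (Nat.card G / a)
  size : ∀ g : G, g ≠ 1 → ¬ (Nat.card 𝐂[g]).Coprime a → Nat.card 𝐂[g] = a ∨ Nat.card 𝐂[g] = a'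
  exB : ∃ y : G, y ≠ 1 ∧ Nat.card 𝐂[y] = a

/-- moreover no such element is real, and only `u`-elements have the large centralizer -/
structure K2 (G : Type*) [Group G] (a a' u s : ℕ) : Prop extends KS G a a' u s where
  nreal : ∀ g : G, g ≠ 1 → ¬ (Nat.card 𝐂[g]).Coprime a → ¬ IsConj g g⁻¹
  nB : ∀ h : G, h ≠ 1 → (orderOf h).Coprime u → Nat.card 𝐂[h] ≠ a

/-- the centralizer `A` of a Sylow `s`-subgroup -/
structure K3 (G : Type*) [Group G] (a a' u s : ℕ) [Fact s.Prime] : Prop extends K2 G a a' u s where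
  oddN : ∀ X : Subgroup G, X ≠ ⊥ → Nat.card X ∣ a → Odd (Nat.card (normalizer (X : Set G)))
  exS : ∀ g : G, g ≠ 1 → ¬ (Nat.card 𝐂[g]).Coprime a → ∃ S : Sylow s G, (S : Subgroup G) ≤ 𝐂[g]
  ne : ∀ S : Sylow s G, (S : Subgroup G) ≠ ⊥
  le : ∀ S : Sylow s G, (S : Subgroup G) ≤ centralizer ((S : Subgroup G) : Set G)
  cardA : ∀ S : Sylow s G, Nat.card (centralizer ((S : Subgroup G) : Set G)) = a'
  comm : ∀ S : Sylow s G, ∀ g ∈ centralizer ((S : Subgroup G) : Set G),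
    centralizer ((S : Subgroup G) : Set G) ≤ 𝐂[g]
  cen : ∀ S : Sylow s G, ∀ h ∈ centralizer ((S : Subgroup G) : Set G), h ≠ 1 →
    (orderOf h).Coprime u → 𝐂[h] = centralizer ((S : Subgroup G) : Set G)

/-- `N(S) / C(S)` is a non-trivial `u`-group -/
structure K4 (G : Type*) [Group G] (a a' u s : ℕ) [Fact s.Prime] : Prop extends K3 G a a' u s where
  idx : ∀ S : Sylow s G, ∃ j, 0 < j ∧ (centralizer ((S : Subgroup G) : Set G)).relIndex
    (normalizer ((S : Subgroup G) : Set G)) = u ^ j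
  exy : ∀ S : Sylow s G, ∃ y ∈ centralizer ((S : Subgroup G) : Set G), orderOf y = u ∧
    normalizer ((S : Subgroup G) : Set G) ≤ 𝐂[y]
  ext : ∀ S : Sylow s G, ∃ τ ∈ normalizer ((S : Subgroup G) : Set G),
    τ ∉ centralizer ((S : Subgroup G) : Set G) ∧ τ ^ u ∈ centralizer ((S : Subgroup G) : Set G) ∧
      ∃ k, τ ^ u ^ k = 1

end CL.I5
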