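import Mathlib
import Cfsg.Agent.PERM.I5.Defs

set_option autoImplicit false

namespace CL.I5

open Subgroup Cfsg CL.CS CL.Ito

variable {G : Type*} [Group G] [Finite G]

namespace DA

set_option linter.unusedSectionVars false

theorem card_dvd {A B : Subgroup G} (h : B.index ∣ A.index) : Nat.card A ∣ Nat.card B := by
  obtain ⟨k, hk⟩ := h
  refine ⟨k, Nat.eq_of_mul_eq_mul_right (Nat.pos_of_ne_zero (FiniteIndex.index_ne_zero (H := B))) ?_⟩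
  rw [B.card_mul_index, ← A.card_mul_index, hk]
  ring

theorem exz {r : ℕ} (hr : r.Prime) {P : Subgroup G} (hP : IsPGroup r P) (h : P ≠ ⊥) :
    ∃ z ∈ P, z ≠ 1 ∧ P ≤ 𝐂[z] ∧ ∃ k, z ^ r ^ k = 1 := by
  have := Fact.mk hr
  obtain ⟨⟨z, hz, hc⟩, h1⟩ := ne_bot_iff_exists_ne_one.1 (CL.Frob.center_ne_bot_of_isPGroup hP h)
  exact ⟨z, hz, fun e => h1 (Subtype.ext e), le_cen_iff.2 hc, pow_eq_one_of_mem_isPGroup hP hz⟩

theorem dvd_card {r k : ℕ} (hr : r.Prime) {z : G} (h1 : z ≠ 1) (hk : z ^ r ^ k = 1) {A : Subgroup G}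
    (h : z ∈ A) : r ∣ Nat.card A := by
  obtain ⟨j, -, hj⟩ := (Nat.dvd_prime_pow hr).1 (orderOf_dvd_of_pow_eq_one hk)
  refine Dvd.dvd.trans ?_ (A.orderOf_dvd_natCard h)
  rw [hj]
  exact dvd_pow_self _ fun e => h1 (orderOf_eq_one_iff.1 (by rw [hj, e, pow_zero]))

theorem cop {r k n : ℕ} (hr : r.Prime) {z : G} (hk : z ^ r ^ k = 1) (h : ¬ r ∣ n) :
    (orderOf z).Coprime n :=
  (((Nat.Prime.coprime_iff_not_dvd hr).2 h).pow_left k).coprime_dvd_left (orderOf_dvd_of_pow_eq_one hk)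

theorem mul_ne {g h : G} (h1 : g ≠ 1) (co : (orderOf g).Coprime (orderOf h)) : g * h ≠ 1 := fun e => by
  rw [eq_inv_of_mul_eq_one_right e, orderOf_inv, Nat.coprime_self, orderOf_eq_one_iff] at co
  exact h1 co

structure S (x y : G) (c d e : ℕ) : Prop extends TH x y where
  h5 : ∀ g : G, g ≠ 1 → (𝐂[g]).index = (𝐂[x]).index ∨ (𝐂[g]).index = (𝐂[y]).index ∨
      (𝐂[g]).index = c ∨ (𝐂[g]).index = d ∨ (𝐂[g]).index = e
  hc : ¬ (𝐂[y]).index ∣ c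
  hd : ¬ (𝐂[x]).index ∣ d
  hc' : (𝐂[x]).index ∣ c
  hd' : (𝐂[y]).index ∣ d
  he : (𝐂[x]).index ∣ e
  he' : (𝐂[y]).index ∣ e
  px : (orderOf x).Prime
  py : (orderOf y).Prime

variable {x y : G} {c d e : ℕ}

omit [Finite G] in
theorem S.sym (h : S x y c d e) : S y x d c e :=
  ⟨h.toTH.symm, fun g hg => by have := h.h5 g hg; tauto, h.hd, h.hc, h.hd', h.hc', h.he', h.he,
    h.py, h.px⟩

variable [IsSimpleGroup G] (hG : ¬ IsMulCommutative G) (h : S x y c d e)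
include hG h

theorem S.ne {g : G} (hg : g ∈ 𝐂[y]) (h1 : g ≠ 1) : (𝐂[g]).index ≠ (𝐂[x]).index := fun e =>
  not_commute_of_coprime hG h1 h.hy (e ▸ h.co) (mem_cen.1 hg)

theorem S.dvd : orderOf x ∣ (𝐂[y]).index := by
  by_contra hn
  have := Fact.mk h.px
  obtain ⟨P, hP⟩ := (isPGroup_zpowers (k := 1) (by rw [pow_one, pow_orderOf_eq_one]) :
    IsPGroup (orderOf x) (zpowers x)).exists_le_sylow
  obtain ⟨g, hg⟩ := exists_conj_mem_centralizer_sylow hn P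
  exact not_commute_of_coprime hG h.hx (y := g * y * g⁻¹) (by simpa using h.hy)
    (by rw [index_cen_conj]; exact h.co) (hg x (hP (mem_zpowers x)))

theorem S.ne' : orderOf x ≠ orderOf y := fun e =>
  h.px.one_lt.ne' (Nat.eq_one_of_dvd_coprimes h.co (e ▸ h.sym.dvd hG) (h.dvd hG))

theorem S.one {g : G} (hx : g ∈ 𝐂[x]) (hy : g ∈ 𝐂[y]) (h1 : g ≠ 1)
    (co : (orderOf g).Coprime (orderOf x)) :
    Nat.card ↥(𝐂[g] ⊓ 𝐂[x]) ∣ Nat.card ↥(𝐂[x] ⊓ 𝐂[y]) ∧ (𝐂[g]).index ≠ e := by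
  have hc := mem_cen.1 hx
  have e1 := cen_mul_of_coprime hc co
  have d1 := index_cen_dvd_mul_left hc co
  have d2 := index_cen_dvd_mul_right hc co
  have n1 : (𝐂[g * x]).index ≠ (𝐂[g]).index := fun e => h.ne hG
    ((eq_of_le_of_index_eq (e1.le.trans inf_le_left) e).ge.trans (e1.le.trans inf_le_right)
      (mem_cen_comm.1 hy) |> mem_cen_comm.1) h.hx rfl
  have n2 := h.ne hG hy h1
  have n3 := h.sym.ne hG hx h1
  have : (𝐂[g * x]).index = e := by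
    rcases h.h5 _ (mul_ne h1 co) with k | k | k | k | k
    · exact (n2 (h.headx g h1 (k ▸ d1))).elim
    · exact (n3 (h.heady g h1 (k ▸ d1))).elim
    · rcases h.h5 g h1 with l | l | l | l | l
      · exact (n2 l).elim
      · exact (n3 l).elim
      · exact (n1 (k.trans l.symm)).elim
      · exact (h.hc (h.hd'.trans (by rw [← l, ← k]; exact d1))).elim
      · exact (h.hc (h.he'.trans (by rw [← l, ← k]; exact d1))).elim
    · exact (h.hd (k ▸ d2)).elim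
    · exact k
  refine ⟨card_dvd ?_, fun l => n1 (this.trans l.symm)⟩
  rw [← e1, this, Nat.le_antisymm index_inf_le (Nat.le_of_dvd (Nat.pos_of_ne_zero
    FiniteIndex.index_ne_zero) (h.co.mul_dvd_of_dvd_of_dvd (index_dvd_of_le inf_le_left)
      (index_dvd_of_le inf_le_right)))]
  exact h.co.mul_dvd_of_dvd_of_dvd h.he h.he'

omit hG [IsSimpleGroup G] [Finite G] in
theorem S.nd {r : ℕ} (hr : r.Prime) (hb : r ∣ (𝐂[y]).index) : ¬ r ∣ (𝐂[x]).index := fun k =>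
  hr.one_lt.ne' (Nat.eq_one_of_dvd_coprimes h.co k hb)

theorem S.two {r : ℕ} (hr : r.Prime) (hb : r ∣ (𝐂[y]).index) (hp : r ≠ orderOf x) :
    ¬ r ∣ Nat.card ↥(𝐂[x] ⊓ 𝐂[y]) := fun hD => by
  have := Fact.mk hr
  have hp' : ¬ r ∣ orderOf x := fun k => hp ((Nat.prime_dvd_prime_iff_eq hr h.px).1 k)
  obtain ⟨T⟩ : Nonempty (Sylow r ↥(𝐂[x] ⊓ 𝐂[y])) := inferInstance
  have hQ := T.2.map (𝐂[x] ⊓ 𝐂[y]).subtype
  have hQD : (T : Subgroup ↥(𝐂[x] ⊓ 𝐂[y])).map (𝐂[x] ⊓ 𝐂[y]).subtype ≤ 𝐂[x] ⊓ 𝐂[y] :=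
    map_subtype_le _
  have cQ := (T : Subgroup ↥(𝐂[x] ⊓ 𝐂[y])).card_mul_index
  rw [← card_map_of_injective (𝐂[x] ⊓ 𝐂[y]).subtype_injective] at cQ
  have hn : (T : Subgroup ↥(𝐂[x] ⊓ 𝐂[y])).map (𝐂[x] ⊓ 𝐂[y]).subtype ≠ ⊥ := by
    rw [Ne, map_eq_bot_iff_of_injective _ (subtype_injective _)]
    exact T.ne_bot_of_dvd_card hD
  have hT := T.not_dvd_index
  generalize (T : Subgroup ↥(𝐂[x] ⊓ 𝐂[y])).map (𝐂[x] ⊓ 𝐂[y]).subtype = Q at hQ hQD cQ hn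
  obtain ⟨P, hQP, hPM⟩ := exists_sylow_le_of_not_dvd_index' (h.nd hr hb) hQ (hQD.trans inf_le_left)
  obtain ⟨g, hg, g1, hQg, k, hk⟩ := exz hr hQ hn
  obtain ⟨z, hz, z1, hPz, j, hj⟩ := exz hr P.2 (ne_bot_of_le_ne_bot hn hQP)
  have e1 : Q = (P : Subgroup G) ⊓ 𝐂[g] := by
    refine eq_of_le_of_card_ge (le_inf hQP hQg) (Nat.le_of_dvd Nat.card_pos ?_)
    have d1 := (card_dvd_of_le (inf_le_inf_right _ hPM |>.trans (inf_comm _ _).le)).trans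
      (h.one hG (hQD hg).1 (hQD hg).2 g1 (cop hr hk hp')).1
    obtain ⟨n, hn⟩ := (P.2.to_inf_left (K := 𝐂[g])).exists_card_eq
    rw [← cQ] at d1
    rw [hn] at d1 ⊢
    exact (((Nat.Prime.coprime_iff_not_dvd hr).2 hT).pow_left n).dvd_of_dvd_mul_right d1
  have hzD := hQD (e1.ge ⟨hz, mem_cen_comm.1 (hPz (hQP hg))⟩)
  obtain ⟨m, hm⟩ := (card_dvd_of_le (le_inf hPz hPM)).trans
    (h.one hG hzD.1 hzD.2 z1 (cop hr hj hp')).1
  refine P.not_dvd_index ?_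
  have e2 := (𝐂[x] ⊓ 𝐂[y]).card_mul_index
  rw [hm, ← (P : Subgroup G).card_mul_index, mul_assoc] at e2
  rw [← Nat.eq_of_mul_eq_mul_left Nat.card_pos e2]
  exact (hb.trans (index_dvd_of_le inf_le_right)).mul_left _

theorem S.three (hD : 𝐂[x] ⊓ 𝐂[y] ≠ ⊥) :
    ∃ g ∈ 𝐂[x] ⊓ 𝐂[y], g ≠ 1 ∧ (orderOf g).Coprime (orderOf x) := by
  have ex : ∀ t : ℕ, t.Prime → t ∣ Nat.card ↥(𝐂[x] ⊓ 𝐂[y]) →
      ∃ g ∈ 𝐂[x] ⊓ 𝐂[y], g ≠ 1 ∧ orderOf g = t := fun t ht hd => by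
    have := Fact.mk ht
    obtain ⟨g, hg⟩ := exists_prime_orderOf_dvd_card' t hd
    rw [← orderOf_coe] at hg
    exact ⟨g, g.2, fun e => ht.one_lt.ne' (by rw [← hg, e, orderOf_one]), hg⟩
  obtain ⟨t, ht, hd⟩ := Nat.exists_prime_and_dvd (mt card_eq_one.1 hD)
  obtain ⟨g, hg, g1, rfl⟩ := ex t ht hd
  by_cases hp : orderOf g = orderOf x
  · have := (h.sym.one hG hg.2 hg.1 g1 ((Nat.coprime_primes ht h.py).2 (hp ▸ h.ne' hG))).1
    rw [inf_comm (𝐂[y])] at this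
    obtain ⟨g', hg', g1', e⟩ := ex _ h.py
      ((Subgroup.orderOf_dvd_natCard _ (mem_inf.2 ⟨mem_cen_comm.1 hg.2, self_mem_cen y⟩)).trans this)
    exact ⟨g', hg', g1', e ▸ (Nat.coprime_primes h.py h.px).2 (h.ne' hG).symm⟩
  · exact ⟨g, hg, g1, (Nat.coprime_primes ht h.px).2 hp⟩

/-- multiply by a central element of a Sylow subgroup -/
theorem S.step {r : ℕ} (hr : r.Prime) (hb : r ∣ (𝐂[y]).index) {g : G} (h1 : g ≠ 1)
    (ho : ¬ r ∣ orderOf g) (hi : ¬ r ∣ (𝐂[g]).index) : ∃ z ∈ 𝐂[g], z ≠ 1 ∧ (∃ k, z ^ r ^ k = 1) ∧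
      ¬ r ∣ (𝐂[g] ⊓ 𝐂[z]).index ∧
      ((𝐂[g] ⊓ 𝐂[z]).index = (𝐂[x]).index ∨ (𝐂[g] ⊓ 𝐂[z]).index = c) := by
  have := Fact.mk hr
  obtain ⟨P, hP⟩ := exists_sylow_le_of_not_dvd_index hi
  obtain ⟨z, hz, z1, hPz, j, hj⟩ :=
    exz hr P.2 (P.ne_bot_of_dvd_card (hb.trans (index_dvd_card _)))
  have co := (cop hr hj ho).symm
  have n := not_dvd_index_of_sylow_le (le_inf hP hPz)
  refine ⟨z, hP hz, z1, ⟨j, hj⟩, n, ?_⟩
  rw [← cen_mul_of_coprime (mem_cen'.1 (hP hz)) co] at n ⊢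
  rcases h.h5 _ (mul_ne h1 co) with k | k | k | k | k
  · exact .inl k
  · exact (n (k ▸ hb)).elim
  · exact .inr k
  · exact (n (k ▸ hb.trans h.hd')).elim
  · exact (n (k ▸ hb.trans h.he')).elim

theorem S.four {g : G} (hg : g ∈ 𝐂[x] ⊓ 𝐂[y]) (h1 : g ≠ 1) : (𝐂[g]).index ≠ c := fun hc => by
  obtain ⟨r, hr, hp, hb⟩ := exists_prime_dvd_index hG h.hy (orderOf x)
  have n := h.two hG hr hb hp
  have rc : ¬ r ∣ c := by
    obtain ⟨z, hz, z1, ⟨j, hj⟩, n1, k | k⟩ := h.step hG hr hb h.hx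
      (fun k => hp ((Nat.prime_dvd_prime_iff_eq hr h.px).1 k)) (h.nd hr hb)
    · obtain ⟨g', hg', g1, co⟩ := h.three hG (ne_bot_iff_exists_ne_one.2
        ⟨⟨g, hg⟩, fun e => h1 (congrArg Subtype.val e)⟩)
      exact (n ((dvd_card hr z1 hj (mem_inf.2 ⟨mem_cen_comm.1
        (((eq_of_le_of_index_eq inf_le_left k).ge hg'.1).2), hz⟩)).trans
          (h.one hG hg'.1 hg'.2 g1 co).1)).elim
    · exact k ▸ n1
  obtain ⟨z, hz, z1, ⟨j, hj⟩, -, k | k⟩ := h.step hG hr hb h1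
    (fun k => n (k.trans (orderOf_dvd_natCard _ hg))) (hc ▸ rc)
  · exact h.ne hG hg.2 h1 (h.headx g h1 (k ▸ index_dvd_of_le inf_le_left))
  · have := (eq_of_le_of_index_eq inf_le_left (k.trans hc.symm)).ge.trans inf_le_right
    exact n (dvd_card hr z1 hj ⟨mem_cen_comm.1 (this (mem_cen_comm.1 hg.1)),
      mem_cen_comm.1 (this (mem_cen_comm.1 hg.2))⟩)

theorem S.bot : 𝐂[x] ⊓ 𝐂[y] = ⊥ := by
  by_contra hD
  obtain ⟨g, hg, g1, co⟩ := h.three hG hD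
  rcases h.h5 g g1 with k | k | k | k | k
  · exact h.ne hG hg.2 g1 k
  · exact h.sym.ne hG hg.1 g1 k
  · exact h.four hG hg g1 k
  · exact h.sym.four hG ⟨hg.2, hg.1⟩ g1 k
  · exact (h.one hG hg.1 hg.2 g1 co).2 k

end DA

theorem inf_eq_bot_of_dvd [IsSimpleGroup G] (hG : ¬ IsMulCommutative G) {x y : G} (H : TH x y)
    {c d e : ℕ} (h5 : ∀ g : G, g ≠ 1 → (𝐂[g]).index = (𝐂[x]).index ∨ (𝐂[g]).index = (𝐂[y]).index ∨
      (𝐂[g]).index = c ∨ (𝐂[g]).index = d ∨ (𝐂[g]).index = e)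
    (hc : ¬ (𝐂[y]).index ∣ c) (hc' : (𝐂[x]).index ∣ c) (hd : ¬ (𝐂[x]).index ∣ d)
    (hd' : (𝐂[y]).index ∣ d) (he : (𝐂[x]).index ∣ e) (he' : (𝐂[y]).index ∣ e) :
    𝐂[x] ⊓ 𝐂[y] = ⊥ := by
  obtain ⟨x', -, px, ex⟩ := exists_prime_cen H.hx H.headx
  obtain ⟨y', -, py, ey⟩ := exists_prime_cen H.hy H.heady
  have n : ∀ g : G, (orderOf g).Prime → g ≠ 1 := fun g hg e =>
    hg.one_lt.ne' (by rw [e, orderOf_one])
  have H' := ((H.of_index (n _ px) (by rw [ex])).symm.of_index (n _ py) (by rw [ey])).symm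
  rw [← ex, ← ey] at h5 ⊢
  rw [← ex] at hc' hd he
  rw [← ey] at hc hd' he'
  exact DA.S.bot hG ⟨H', h5, hc, hd, hc', hd', he, he', px, py⟩

end CL.I5
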