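import Mathlib
import Cfsg.Agent.PERM.I5.Defs

set_option autoImplicit false
set_option maxHeartbeats 200000

namespace CL.I5

open Subgroup Cfsg CL.CS CL.Ito

variable {G : Type*} [Group G] [Finite G]

namespace DB

theorem exz {H : Type*} [Group H] [Finite H] {r : ℕ} (hr : r.Prime) (hd : r ∣ Nat.card H) :
    ∃ h : H, h ≠ 1 ∧ (∃ k, h ^ r ^ k = 1) ∧ ¬ r ∣ (𝐂[h]).index := by
  have : Fact r.Prime := ⟨hr⟩
  obtain ⟨R⟩ : Nonempty (Sylow r H) := inferInstance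
  have : Nontrivial (R : Subgroup H) := by
    rw [Subgroup.nontrivial_iff_ne_bot]
    intro e
    apply R.not_dvd_index
    rw [e, Subgroup.index_bot]; exact hd
  have := R.isPGroup'.center_nontrivial
  obtain ⟨⟨z, hz⟩, z1⟩ := exists_ne (1 : center (R : Subgroup H))
  obtain ⟨k, hk⟩ := R.isPGroup' z
  refine ⟨z, fun e => z1 (Subtype.ext (Subtype.ext e)), ⟨k, by simpa using congrArg Subtype.val hk⟩,
    not_dvd_index_of_sylow_le (P := R) fun w hw => mem_cen.2 ?_⟩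
  exact congrArg Subtype.val (Subgroup.mem_center_iff.1 hz ⟨w, hw⟩)

omit [Finite G] in
theorem cop {g h : G} {q r j k : ℕ} (hq : q.Prime) (hr : r.Prime) (ne : q ≠ r) (hg : g ^ q ^ j = 1)
    (hh : h ^ r ^ k = 1) : (orderOf g).Coprime (orderOf h) :=
  Nat.Coprime.coprime_dvd_left (orderOf_dvd_of_pow_eq_one hg) (Nat.Coprime.coprime_dvd_right
    (orderOf_dvd_of_pow_eq_one hh) (Nat.Coprime.pow j k ((Nat.coprime_primes hq hr).2 ne)))

theorem dvd_idx [IsSimpleGroup G] (hG : ¬ IsMulCommutative G) {x y : G} (hx : x ≠ 1) (hy : y ≠ 1)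
    (co : (𝐂[x]).index.Coprime (𝐂[y]).index) (hp : (orderOf x).Prime) : orderOf x ∣ (𝐂[y]).index := by
  by_contra hn
  have : Fact (orderOf x).Prime := ⟨hp⟩
  obtain ⟨P, hP⟩ := (isPGroup_zpowers (p := orderOf x) (k := 1) (x := x) (by simp)).exists_le_sylow
  obtain ⟨g, hg⟩ := exists_conj_mem_centralizer_sylow hn P
  refine not_commute_of_coprime hG hx (y := g * y * g⁻¹) (by simpa using hy) (by rwa [index_cen_conj]) ?_
  exact hg x (hP (mem_zpowers x))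

theorem core [IsSimpleGroup G] (hG : ¬ IsMulCommutative G) {x y : G} (H : TH x y)
    (hp : (orderOf x).Prime) (hq : (orderOf y).Prime)
    {c d e : ℕ} (h5 : ∀ g : G, g ≠ 1 → (𝐂[g]).index = (𝐂[x]).index ∨ (𝐂[g]).index = (𝐂[y]).index ∨
      (𝐂[g]).index = c ∨ (𝐂[g]).index = d ∨ (𝐂[g]).index = e)
    (hc : ¬ (𝐂[y]).index ∣ c) (hd : ¬ (𝐂[x]).index ∣ d) (he : ¬ (𝐂[y]).index ∣ e) :
    𝐂[x] ⊓ 𝐂[y] = ⊥ := by
  by_contra hD
  have hZ := center_eq_bot hG
  have gt : ∀ g : G, g ≠ 1 → (𝐂[g]).index ≠ 1 := fun g hg e =>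
    hg (by have := index_cen_eq_one_iff.1 e; rwa [hZ, Subgroup.mem_bot] at this)
  have ab : ¬ (𝐂[x]).index ∣ (𝐂[y]).index := fun h => gt x H.hx (Nat.Coprime.eq_one_of_dvd H.co h)
  have ba : ¬ (𝐂[y]).index ∣ (𝐂[x]).index := fun h => gt y H.hy (Nat.Coprime.eq_one_of_dvd H.co.symm h)
  have pb := dvd_idx hG H.hx H.hy H.co hp
  have qa := dvd_idx hG H.hy H.hx H.co.symm hq
  have nb : ∀ r : ℕ, r.Prime → r ∣ (𝐂[y]).index → r ≠ orderOf y := fun r hr h e =>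
    hr.one_lt.ne' (Nat.eq_one_of_dvd_coprimes H.co (e ▸ qa) h)
  have mb : ∀ g : G, g ≠ 1 → (𝐂[y]).index ∣ (𝐂[g]).index →
      (𝐂[g]).index = (𝐂[y]).index ∨ (𝐂[g]).index = d := by
    intro g hg h
    rcases h5 g hg with e | e | e | e | e
    · exact absurd (e ▸ h) ba
    · exact Or.inl e
    · exact absurd (e ▸ h) hc
    · exact Or.inr e
    · exact absurd (e ▸ h) he
  have ma : ∀ g : G, g ≠ 1 → (𝐂[x]).index ∣ (𝐂[g]).index →
      (𝐂[g]).index = (𝐂[x]).index ∨ (𝐂[g]).index = c ∨ (𝐂[g]).index = e := by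
    intro g hg h
    rcases h5 g hg with e | e | e | e | e
    · exact Or.inl e
    · exact absurd (e ▸ h) ab
    · exact Or.inr (Or.inl e)
    · exact absurd (e ▸ h) hd
    · exact Or.inr (Or.inr e)
  have nxy : ¬ Commute x y := not_commute_of_coprime hG H.hx H.hy H.co
  have na : ∀ g : G, g ≠ 1 → Commute g y → (𝐂[g]).index ≠ (𝐂[x]).index := fun g hg h e =>
    not_commute_of_coprime hG hg H.hy (e ▸ H.co) h
  have nbb : ∀ g : G, g ≠ 1 → Commute g x → (𝐂[g]).index ≠ (𝐂[y]).index := fun g hg h e =>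
    not_commute_of_coprime hG hg H.hx (e ▸ H.co.symm) h
  have yq : y ^ orderOf y ^ 1 = 1 := by simp
  have xp : x ^ orderOf x ^ 1 = 1 := by simp
  have : Fact (orderOf y).Prime := ⟨hq⟩
  -- (1)
  have hDq : IsPGroup (orderOf y) ↥(𝐂[x] ⊓ 𝐂[y]) := by
    rw [IsPGroup.iff_card]
    refine ⟨_, Nat.eq_prime_pow_of_unique_prime_dvd Nat.card_pos.ne' fun {t} ht hdv => ?_⟩
    by_contra ne
    have : Fact t.Prime := ⟨ht⟩
    obtain ⟨⟨g, gx, gy⟩, ho⟩ := exists_prime_orderOf_dvd_card' t hdv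
    have ho' : orderOf g = t := by rw [← ho]; exact (Subgroup.orderOf_mk _ _).symm
    have g1 : g ≠ 1 := fun e => ht.one_lt.ne' (by rw [← ho', e, orderOf_one])
    have cy : Commute g y := mem_cen.1 gy
    have cx : Commute g x := mem_cen.1 gx
    have co : (orderOf g).Coprime (orderOf y) := by rw [ho']; exact (Nat.coprime_primes ht hq).2 ne
    have e1 := cen_mul_of_coprime cy co
    have n1 : g * y ≠ 1 := ne_one_of_le hZ H.hy (e1 ▸ inf_le_right)
    have d1 := index_cen_dvd_mul_left cy co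
    have lt : 𝐂[g * y] < 𝐂[g] := by
      rw [e1]
      refine lt_of_le_of_ne inf_le_left fun e => nxy ?_
      have : x ∈ 𝐂[g] ⊓ 𝐂[y] := by rw [e]; exact mem_cen'.2 cx
      exact mem_cen.1 this.2
    rcases mb _ n1 (index_cen_dvd_mul_right cy co) with e2 | e2
    · exact nbb g g1 cx (H.heady g g1 (e2 ▸ d1))
    · rcases H.dv g g1 with h | h
      · exact hd (e2 ▸ h.trans d1)
      · rcases mb g g1 h with e3 | e3
        · exact nbb g g1 cx e3
        · exact index_ne_of_lt lt (e2.trans e3.symm)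
  -- (2)
  have : Nontrivial ↥(𝐂[x] ⊓ 𝐂[y]) := (Subgroup.nontrivial_iff_ne_bot _).2 hD
  have := hDq.center_nontrivial
  obtain ⟨⟨⟨g, gD⟩, gz⟩, g1'⟩ := exists_ne (1 : center ↥(𝐂[x] ⊓ 𝐂[y]))
  have g1 : g ≠ 1 := fun e => g1' (Subtype.ext (Subtype.ext e))
  have Dg : 𝐂[x] ⊓ 𝐂[y] ≤ 𝐂[g] := fun w hw =>
    mem_cen.2 (congrArg Subtype.val (Subgroup.mem_center_iff.1 gz ⟨w, hw⟩))
  obtain ⟨j, hj⟩ := hDq ⟨g, gD⟩
  have gq : g ^ orderOf y ^ j = 1 := by simpa using congrArg Subtype.val hj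
  have cy : Commute g y := mem_cen.1 gD.2
  have cx : Commute g x := mem_cen.1 gD.1
  have co : (orderOf g).Coprime (orderOf x) := cop hq hp (nb _ hp pb).symm gq xp
  have e1 := cen_mul_of_coprime cx co
  have n1 : g * x ≠ 1 := ne_one_of_le hZ H.hx (e1 ▸ inf_le_right)
  have d1 := index_cen_dvd_mul_left cx co
  have i1 := index_cen_mul_of_coprime cx co
  have dab : (𝐂[g * x]).index ∣ (𝐂[x]).index * (𝐂[y]).index := by
    have h1 : (𝐂[g * x]).index ∣ (𝐂[x] ⊓ 𝐂[y]).index :=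
      Subgroup.index_dvd_of_le (e1 ▸ le_inf Dg inf_le_left)
    have h2 : (𝐂[x]).index * (𝐂[y]).index ∣ (𝐂[x] ⊓ 𝐂[y]).index :=
      Nat.Coprime.mul_dvd_of_dvd_of_dvd H.co (Subgroup.index_dvd_of_le inf_le_left)
        (Subgroup.index_dvd_of_le inf_le_right)
    have h3 := Nat.le_antisymm (Subgroup.index_inf_le (H := 𝐂[x]) (K := 𝐂[y]))
      (Nat.le_of_dvd (Nat.pos_of_ne_zero Subgroup.index_ne_zero_of_finite) h2)
    exact h3 ▸ h1
  have mul_ce : ∀ w : G, w ≠ 1 → (𝐂[x]).index ∣ (𝐂[w]).index → (𝐂[g]).index ∣ (𝐂[w]).index →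
      (𝐂[w]).index = c ∨ (𝐂[w]).index = e := fun w hw h h' =>
    (ma w hw h).resolve_left fun e => na g g1 cy (H.headx g g1 (e ▸ h'))
  have ce1 := mul_ce _ n1 (index_cen_dvd_mul_right cx co) d1
  have bgx : ¬ (𝐂[y]).index ∣ (𝐂[g * x]).index := by
    rcases ce1 with e | e <;> rw [e] <;> assumption
  have ag : (𝐂[x]).index ∣ (𝐂[g]).index := (H.dv g g1).resolve_right fun h => bgx (h.trans d1)
  have ce0 := mul_ce g g1 ag dvd_rfl
  have m1 : (𝐂[x]).relIndex 𝐂[g] ≠ 1 := fun e =>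
    nxy (mem_cen'.1 (Subgroup.relIndex_eq_one.1 e (mem_cen'.2 cy)))
  have gpos := index_cen_pos g
  have ne01 : (𝐂[g * x]).index ≠ (𝐂[g]).index := fun e => m1 (by
    rw [i1] at e
    exact Nat.eq_of_mul_eq_mul_right gpos (e.trans (one_mul _).symm))
  obtain ⟨r, hr, rm⟩ := Nat.exists_prime_and_dvd m1
  have rb : r ∣ (𝐂[y]).index := by
    obtain ⟨k, hk⟩ := ag
    rw [i1, hk, mul_left_comm] at dab
    exact (rm.mul_right k).trans (Nat.dvd_of_mul_dvd_mul_left (index_cen_pos x) dab)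
  -- (3)
  obtain ⟨⟨h, hH⟩, h1', ⟨k, hk'⟩, nr⟩ := exz (H := 𝐂[g]) hr (rm.trans (Subgroup.relIndex_dvd_card _ _))
  rw [index_cen_mk hH] at nr
  have h1 : h ≠ 1 := fun e => h1' (Subtype.ext e)
  have hk : h ^ r ^ k = 1 := by simpa using congrArg Subtype.val hk'
  have ch : Commute g h := mem_cen'.1 hH
  have co2 : (orderOf g).Coprime (orderOf h) := cop hq hr (nb r hr rb).symm gq hk
  have i2 := index_cen_mul_of_coprime ch co2
  have d2 := index_cen_dvd_mul_left ch co2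
  have n2 : g * h ≠ 1 := ne_one_of_le hZ g1 (cen_mul_of_coprime ch co2 ▸ inf_le_left)
  have ce2 := mul_ce _ n2 (ag.trans d2) d2
  have ne21 : (𝐂[g * h]).index ≠ (𝐂[g * x]).index := fun e => nr (by
    rw [i1, i2] at e
    rw [Nat.eq_of_mul_eq_mul_right gpos e]; exact rm)
  have e20 : (𝐂[g * h]).index = (𝐂[g]).index := by omega
  have le : 𝐂[g] ≤ 𝐂[h] := by
    rw [i2] at e20
    exact Subgroup.relIndex_eq_one.1 (Nat.eq_of_mul_eq_mul_right gpos (e20.trans (one_mul _).symm))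
  have hy : Commute h y := mem_cen'.1 (le (mem_cen'.2 cy))
  have co3 : (orderOf h).Coprime (orderOf y) := cop hr hq (nb r hr rb) hk yq
  have d3 := index_cen_dvd_mul_left hy co3
  have n3 : h * y ≠ 1 := ne_one_of_le hZ H.hy (cen_mul_of_coprime hy co3 ▸ inf_le_right)
  rcases H.dv h h1 with hh | hh
  · rcases mb _ n3 (index_cen_dvd_mul_right hy co3) with e | e
    · exact ab (e ▸ hh.trans d3)
    · exact hd (e ▸ hh.trans d3)
  · exact bgx ((hh.trans (Subgroup.index_dvd_of_le le)).trans d1)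

end DB

theorem inf_eq_bot_of_not_dvd [IsSimpleGroup G] (hG : ¬ IsMulCommutative G) {x y : G} (H : TH x y)
    {c d e : ℕ} (h5 : ∀ g : G, g ≠ 1 → (𝐂[g]).index = (𝐂[x]).index ∨ (𝐂[g]).index = (𝐂[y]).index ∨
      (𝐂[g]).index = c ∨ (𝐂[g]).index = d ∨ (𝐂[g]).index = e)
    (hc : ¬ (𝐂[y]).index ∣ c) (hd : ¬ (𝐂[x]).index ∣ d) (he : ¬ (𝐂[y]).index ∣ e) :
    𝐂[x] ⊓ 𝐂[y] = ⊥ := by
  obtain ⟨x', -, hp, ex⟩ := exists_prime_cen H.hx H.headx
  obtain ⟨y', -, hq, ey⟩ := exists_prime_cen H.hy H.heady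
  have x1 : x' ≠ 1 := fun e => hp.one_lt.ne' (by rw [e, orderOf_one])
  have y1 : y' ≠ 1 := fun e => hq.one_lt.ne' (by rw [e, orderOf_one])
  have H' : TH x' y' := ((H.of_index x1 (by rw [ex])).symm.of_index y1 (by rw [ey])).symm
  rw [← ex, ← ey] at h5 ⊢
  rw [← ex] at hd
  rw [← ey] at hc he
  exact DB.core hG H' hp hq h5 hc hd he

end CL.I5
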