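import Mathlib
import Cfsg.Agent.PERM.I5.Defs

set_option autoImplicit false

namespace CL.I5

open Subgroup Cfsg CL.CS CL.Ito

variable {G : Type*} [Group G] [Finite G]

namespace DIS

variable {c : ℕ} (h : DI G c)
include h

theorem idx {s t : G} (ht : orderOf t = 2) (hst : 𝐂[s] < 𝐂[t]) : (𝐂[s]).index = c :=
  ((h t ht).1 s (index_dvd_of_le hst.le)).resolve_left (index_ne_of_lt hst)

theorem idx_eq {s z w t : G} (hz : orderOf z = 2) (ht : orderOf t = 2) (h1 : 𝐂[s] < 𝐂[z])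
    (h2 : 𝐂[w] < 𝐂[t]) : (𝐂[s]).index = (𝐂[w]).index :=
  (idx h hz h1).trans (idx h ht h2).symm

theorem loc {s t : G} (ht : orderOf t = 2) (hst : 𝐂[s] < 𝐂[t]) (y : G)
    (hy : (𝐂[t]).index ∣ (𝐂[y]).index) :
    (𝐂[y]).index = (𝐂[t]).index ∨ (𝐂[y]).index = (𝐂[s]).index :=
  ((h t ht).1 y hy).imp_right (·.trans (idx h ht hst).symm)

theorem loc' {s t : G} (ht : orderOf t = 2) (hst : 𝐂[s] < 𝐂[t]) (y : G) (hle : 𝐂[y] ≤ 𝐂[t]) :
    𝐂[y] = 𝐂[t] ∨ (𝐂[y]).relIndex 𝐂[t] = (𝐂[s]).relIndex 𝐂[t] :=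
  (loc h ht hst y (index_dvd_of_le hle)).imp (eq_of_le_of_index_eq hle) fun e =>
    Nat.eq_of_mul_eq_mul_right (index_cen_pos t) (by
      rw [relIndex_mul_index hst.le, relIndex_mul_index hle, e])

theorem head {s t : G} (ht : orderOf t = 2) (hst : 𝐂[s] < 𝐂[t]) {y : G} (hy1 : y ≠ 1)
    (hy : (𝐂[y]).index ∣ (𝐂[t]).index) : (𝐂[y]).index = (𝐂[t]).index :=
  (h t ht).2 (fun e => index_ne_of_lt hst ((idx h ht hst).trans e.symm)) y hy1 hy

theorem isSolvable (hZ : center G = ⊥) {t : G} (ht : orderOf t = 2) : Group.IsSolvable 𝐂[t] := by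
  have hZ' : t ∉ center G := by
    rw [hZ, mem_bot]
    rintro rfl
    simp at ht
  have hk : t ^ 2 ^ 1 = 1 := by rw [pow_one, ← ht, pow_orderOf_eq_one]
  by_cases h1 : ∃ s, 𝐂[s] < 𝐂[t]
  · obtain ⟨s, hs⟩ := h1
    exact isSolvable_of_index Nat.prime_two (index_local hk hZ' rfl fun y _ => loc' h ht hs y)
  · exact isSolvable_of_index (m := 0) Nat.prime_two (index_local hk hZ' rfl fun y _ hy =>
      .inl (hy.lt_or_eq.resolve_left fun e => h1 ⟨y, e⟩))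

theorem mem_core (hZ : center G = ⊥) {s t : G} {k : ℕ} (hs : s ^ 2 ^ k = 1) (ht : orderOf t = 2)
    (hst : 𝐂[s] < 𝐂[t]) (w : 𝐂[t]) (hw : Odd (orderOf w)) : w ∈ pPrimeCore 2 𝐂[t] := by
  have ht1 : t ≠ 1 := by rintro rfl; simp at ht
  have hZ' : ∀ {y : G}, y ∉ center G ↔ y ≠ 1 := by simp [hZ]
  obtain ⟨hA, u, a, hu, hm⟩ := relIndex_eq_pow hZ hst (hZ'.2 ht1) (fun y _ => loc h ht hst y)
    fun y hy => head h ht hst (hZ'.1 hy)
  have h1 := index_local (r := 2) (k := 1) (by rw [← ht, pow_one, pow_orderOf_eq_one]) (hZ'.2 ht1) rfl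
    fun y _ => loc' h ht hst y
  refine mem_of_forall_primePow_mem fun y hy q j hq hj => ?_
  have hyo : Odd (orderOf y) := hw.of_dvd_nat (orderOf_dvd_of_mem_zpowers hy)
  by_cases h2 : 2 ∣ (𝐂[y]).index
  swap
  · exact mem_core_of_odd_index hyo h2
  have hyZ : y ∉ center 𝐂[t] := fun e => by simp [index_cen_eq_one_iff.2 e] at h2
  have h3 := (h1 y (Nat.coprime_two_right.2 hyo) hyZ).trans hm
  obtain rfl : 2 = u := (Nat.prime_dvd_prime_iff_eq Nat.prime_two hu).1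
    (Nat.prime_two.dvd_of_dvd_pow (h3 ▸ h2))
  have hq2 : q ≠ 2 := by
    rintro rfl
    exact hyZ (mem_of_pow_mem_of_coprime ((Nat.coprime_two_right.2 hyo).pow_right j)
      (by rw [pow_orderOf_eq_one]; exact one_mem _) (hj ▸ one_mem _))
  have := Fact.mk hq
  refine mem_core_of_pCore_le hq hq2 hj fun r hr => ?_
  have := Fact.mk hr
  by_cases hr2 : r = 2
  swap
  · exact le_cen_of_normal_isPGroup (fun e => hr2 ((Nat.prime_dvd_prime_iff_eq hr Nat.prime_two).1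
      (hr.dvd_of_dvd_pow (h3 ▸ e)))) (isPGroup_pCore r _)
  subst hr2
  let S : 𝐂[t] := ⟨s, hst.le (self_mem_cen s)⟩
  obtain ⟨R, hR⟩ := exists_sylow_le_of_not_dvd_index (p := q) (H := 𝐂[S]) fun e => hq2 (by
    rw [index_cen_mk, hm] at e
    exact (Nat.prime_dvd_prime_iff_eq hq Nat.prime_two).1 (hq.dvd_of_dvd_pow e))
  obtain ⟨g, hg⟩ := exists_conj_mem_sylow R hj
  set y' := g * y * g⁻¹ with hy'
  have h4 : Commute s (y' : G) := congrArg Subtype.val (mem_cen'.1 (hR hg)).eq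
  have h5 : (y' : G) ^ q ^ j = 1 := by
    rw [← coe_pow, hy', conj_pow, hj]; simp
  have h6 := cen_mul_of_coprime h4 (coprime_of_pows Nat.prime_two hq hq2.symm hs h5)
  have h7 : 𝐂[s] ≤ 𝐂[(y' : G)] := by
    have h8 : 𝐂[s * y'] ≤ 𝐂[s] := h6.trans_le inf_le_left
    refine inf_eq_left.1 (h6.symm.trans (eq_of_le_of_index_eq h8 ?_))
    exact (loc h ht hst _ (index_dvd_of_le (h8.trans hst.le))).resolve_left
      (index_ne_of_lt (h8.trans_lt hst))
  have h8 : pCore 2 𝐂[t] ≤ 𝐂[y'] := by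
    rw [← cen_zpowers y']
    refine thompson_p_times_q (zpowers S) (zpowers y') _ (isPGroup_zpowers (Subtype.ext hs))
      (by rw [Nat.card_zpowers]; exact coprime_of_pow_of_ne Nat.prime_two hq hq2 (Subtype.ext h5))
      (isPGroup_pCore 2 _) (by rw [cen_zpowers]; exact zpowers_le.2 (mem_cen_comm.1 (hR hg)))
      le_normalizer_of_normal le_normalizer_of_normal fun v hv => ?_
    rw [cen_zpowers] at hv ⊢
    exact mem_cen.2 (Subtype.ext (mem_cen.1 (h7 (mem_cen.2 (congrArg Subtype.val (mem_cen.1 hv.2).eq)))))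
  intro v hv
  have h9 := mem_cen.1 (h8 ((inferInstance : (pCore 2 𝐂[t]).Normal).conj_mem v hv g))
  exact mem_cen.2 ((MulAut.conj g).injective (by simpa [hy'] using h9.eq))

theorem not_bad (hZ : center G = ⊥) : ¬ Bad G := by
  rintro ⟨x, y, hx, hy, ho, hc⟩
  have h1 : ¬ Odd (orderOf (x * y)) := fun e => by
    have := e.of_dvd_nat (orderOf_pow_dvd 2)
    rw [ho] at this
    exact absurd this (by decide)
  have hxc : x ∈ 𝐂[(x * y) ^ 2] := mem_cen.2 hc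
  have hyc : y ∈ 𝐂[(x * y) ^ 2] :=
    (mul_mem_cancel_left hxc).1 (cen_le_cen_pow _ 2 (self_mem_cen (x * y)))
  rcases (cen_le_cen_pow (x * y) 2).lt_or_eq with e | e
  · have h2 := fun w => mem_core h hZ (k := 2) (by
      rw [pow_two 2, pow_mul, ← orderOf_dvd_iff_pow_eq_one, ho]) ho e w
    exact h1 (by simpa using odd_of_mem_core (mul_mem (h2 ⟨x, hxc⟩ (by simpa)) (h2 ⟨y, hyc⟩ (by simpa))))
  · have h2 : Commute x y := by
      simpa using (Commute.refl x).inv_right.mul_right (mem_cen.1 (e.ge hxc))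
    exact h1 ((hx.mul hy).of_dvd_nat h2.orderOf_mul_dvd_mul_orderOf)

end DIS

theorem DI.simple [IsSimpleGroup G] (hG : ¬ IsMulCommutative G) {c : ℕ} (h : DI G c) : L4 G := by
  have hZ := center_eq_bot hG
  have hO := DIS.not_bad h hZ
  have hs : ∀ t : G, orderOf t = 2 → Group.IsSolvable 𝐂[t] := fun t ht =>
    DIS.isSolvable h hZ ht
  by_cases hr : PRankLE 2 2 G
  · rcases CL.ABG.rank_two_of_solvable hG hr hs with ⟨F, _, _, -, h1, e⟩ | ⟨F, _, _, h1, ⟨e⟩⟩ |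
      ⟨F, _, _, q, h1, h2, ⟨e⟩⟩ | ⟨F, _, _, h1, ⟨e⟩⟩ | ⟨⟨e⟩⟩ | h1
    · exact Or.inl ⟨F, _, _, by omega, e⟩
    · exact absurd (bad_psl3 h1 e) hO
    · exact absurd (bad_psu3_odd h1 h2 e) hO
    · exact absurd (bad_psu3_even (n := 2) le_rfl h1 e) hO
    · exact Or.inr (Or.inr (Or.inl ⟨e⟩))
    · exact absurd (bad_M11 h1.2) hO
  by_cases hse : ∃ M : Subgroup G, IsStronglyEmbedded M
  · obtain ⟨M, hM⟩ := hse
    obtain ⟨t, Q, hS, -⟩ := CL.Bender.setup_of_simple hG hM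
    obtain ⟨n, hn, h1⟩ := CL.PS.suzuki_simple hS
    have h4 : 4 ≤ 2 ^ n := Nat.pow_le_pow_right two_pos hn
    obtain ⟨F, _, _, _, e, h1⟩ | h1 | ⟨F, _, _, e, ⟨h1⟩⟩ := h1
    · exact Or.inl ⟨F, _, _, by omega, h1⟩
    · exact Or.inr (Or.inl h1.1)
    · exact absurd (bad_psu3_even hn e h1) hO
  have h1 : ∀ t : G, orderOf t = 2 → pPrimeCore 2 𝐂[t] = ⊥ := fun t ht =>
    TwoNil.core_eq_bot hG hr hse (fun t ht => CL.PC.isPConstrained_of_isSolvable (hs t ht)) ht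
  obtain ⟨s, hs2, hs1⟩ : ∃ s : G, orderOf (s ^ 2) = 2 ∧ 𝐂[s] ≠ 𝐂[s ^ 2] := by
    by_contra! h0
    exact hse (exists_stronglyEmbedded h0 hG (CL.SFM.even_card_of_not_prankLE hr).two_dvd hs h1)
  replace hs1 := (cen_le_cen_pow s 2).lt_of_ne hs1
  have h2 : ∀ {A : Subgroup G}, ¬ IsPGroup 2 A → ∃ w : A, Odd (orderOf w) ∧ w ≠ 1 := fun {A} hA => by
    by_contra! h0
    refine hA (IsPGroup.of_card (Nat.eq_prime_pow_of_unique_prime_dvd Nat.card_pos.ne'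
      fun {r} hr hd => by_contra fun e => ?_))
    have := Fact.mk hr
    obtain ⟨w, hw⟩ := exists_prime_orderOf_dvd_card' r hd
    rw [h0 w (hw ▸ hr.odd_of_ne_two e), orderOf_one] at hw
    exact hr.one_lt.ne hw
  have h3 : IsPGroup 2 𝐂[s ^ 2] := by_contra fun e =>
    let ⟨w, hw, hw1⟩ := h2 e
    hw1 (mem_bot.1 (h1 _ hs2 ▸ DIS.mem_core h hZ (k := 2)
      (by rw [pow_two 2, pow_mul, ← orderOf_dvd_iff_pow_eq_one, hs2]) hs2 hs1 w hw))
  have hC : ∀ t : G, orderOf t = 2 → IsPGroup 2 𝐂[t] := fun t ht => by_contra fun e => by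
    obtain ⟨w, hw, hw1⟩ := h2 e
    have := hs t ht
    have h4 := cen_mul_of_coprime (mem_cen'.1 w.2) (by
      rw [ht, orderOf_coe]; exact Nat.coprime_two_left.2 hw)
    have h5 := DIS.idx_eq h (w := t * w) hs2 ht hs1 (h4.trans_lt
      (inf_le_left.lt_of_ne fun e => hw1 (mem_bot.1 (h1 t ht ▸ mem_core_of_odd_index hw (by
        simp [index_cen_eq_one_iff.2 (mem_center_subgroup.2 (inf_eq_left.1 e))])))))
    obtain ⟨k, hk⟩ := (h3.to_le hs1.le).exists_card_eq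
    have h6 := Subgroup.orderOf_dvd_natCard _ (h4.ge ⟨w.2, self_mem_cen _⟩)
    rw [← card_cen_eq h5, hk, orderOf_coe] at h6
    exact hw1 (orderOf_eq_one_iff.1 (Nat.eq_one_of_dvd_coprimes
      ((Nat.coprime_two_right.2 hw).pow_right k) dvd_rfl h6))
  rcases CL.CIT.simple hG hC with ⟨F, _, _, -, ⟨e⟩⟩ | h1 | h1
  · exact Or.inl ⟨F, _, _, TwoNil.three_lt_of_psl2 hG e, ⟨e⟩⟩
  · exact Or.inr (Or.inr (Or.inr h1))
  · exact Or.inr (Or.inl h1)


end CL.I5
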