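import Mathlib
import Cfsg.Agent.PERM.I5.Defs
import Cfsg.Agent.S2969
import Cfsg.Agent.TECH.SylIn

set_option autoImplicit false

namespace CL.I5

open Subgroup Cfsg CL.CS CL.Ito

variable {G : Type*} [Group G] [Finite G]

/- STUB OddZ (~60 lines). G solvable (Ito.isSolvable_of_index, p = 2), O = O(G) is a normal 2-complement
(Ito.hasNPC_of_odd_index / mem_core_of_odd_index); for w ∈ O the class size in O equals the class size in G
(odd index: G = O C(w)); Ito.exists_prime_of_isSolvable in O gives u0, x ∈ O is not central so u0 = p, and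
Ito.index_eq_pow_of_forall makes m a power of p, so m = 1. -/
theorem odd_two_false {m p : ℕ} (hm : Odd m)
    (h : ∀ w : G, Odd (orderOf w) → w ∉ center G → (𝐂[w]).index = m) {x : G} (hp : p.Prime)
    (hp2 : p ≠ 2) (hx : orderOf x = p) (hxZ : x ∉ center G) (hpm : ¬ p ∣ m) : False := by
  have := isSolvable_of_index Nat.prime_two (m := m) fun x hx => h x (Nat.coprime_two_right.1 hx)
  have od : ∀ w : G, Odd (orderOf w) → Odd (𝐂[w]).index := fun w hw => by
    by_cases c : w ∈ center G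
    · rw [index_cen_eq_one_iff.2 c]; exact odd_one
    · rwa [h w hw c]
  have mO : ∀ w : G, Odd (orderOf w) → w ∈ pPrimeCore 2 G := fun w hw =>
    mem_core_of_odd_index hw (od w hw).not_two_dvd_nat
  obtain ⟨a, ha⟩ := index_eq_pow_of_forall (u := 2) (H := pPrimeCore 2 G) fun w y k hw w2 e =>
    mO y (((hw.odd_of_ne_two w2).pow (n := k)).of_dvd_nat (orderOf_dvd_of_pow_eq_one e))
  have oO : ∀ w : pPrimeCore 2 G, Odd (orderOf w.1) := fun w => by
    rw [Subgroup.orderOf_coe]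
    exact (Nat.coprime_two_right.1 (coprime_card_pPrimeCore 2 G)).of_dvd_nat (orderOf_dvd_natCard w)
  have eq : ∀ w : pPrimeCore 2 G, (𝐂[w]).index = (𝐂[w.1]).index := fun w => by
    refine Nat.dvd_antisymm (index_cen_normal_dvd w) (Nat.Coprime.dvd_of_dvd_mul_right (n := (pPrimeCore 2 G).index)
      (ha ▸ (od _ (oO w)).coprime_two_right.pow_right a) ?_)
    rw [index_cen_subgroup, ← inf_relIndex_right, relIndex_mul_index inf_le_right]
    exact index_dvd_of_le inf_le_left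
  have nc : ∀ w : pPrimeCore 2 G, w ∈ center _ ↔ w.1 ∈ center G := fun w => by
    rw [← index_cen_eq_one_iff, eq, index_cen_eq_one_iff]
  obtain ⟨u, -, hu⟩ := exists_prime_of_isSolvable (G := pPrimeCore 2 G) (m := m) fun q w k _ _ n => by
    rw [eq, h _ (oO w) (mt (nc w).2 n)]
  have xO := mO x (hx ▸ hp.odd_of_ne_two hp2)
  obtain rfl : p = u := by_contra fun n => hxZ ((nc ⟨x, xO⟩).1 (hu p _ 1 hp n (Subtype.ext (by
    simp [← hx]))))
  obtain ⟨b, hb⟩ := index_eq_pow_of_forall (u := p) (H := 𝐂[(⟨x, xO⟩ : pPrimeCore 2 G)]) fun w y k hw n e =>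
    center_le_cen _ (hu w y k hw n e)
  rw [eq] at hb
  rcases b with _ | b
  · exact hxZ (index_cen_eq_one_iff.1 hb)
  · exact hpm (h x (oO ⟨x, xO⟩) hxZ ▸ hb ▸ dvd_pow_self p b.succ_ne_zero)

theorem OddZ.pz {x : G} {p : ℕ} (hx : orderOf x = p) : IsPGroup p (zpowers x) :=
  IsPGroup.of_card (n := 1) (by rw [Nat.card_zpowers, hx, pow_one])

theorem OddZ.syl {x : G} {p : ℕ} (hp : p.Prime) (hx : orderOf x = p) (hi : IsIsolated x)
    {Y : Subgroup G} (hY : x ∈ Y) : ∃ P, CL.MSS.SylIn p P Y ∧ P ≤ 𝐂[x] := by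
  have := Fact.mk hp
  obtain ⟨P, hP, l⟩ := CL.MSS.exists_sylIn_ge (OddZ.pz hx) (zpowers_le.2 hY)
  exact ⟨P, hP, le_normalizer.trans ((Cfsg.Agent.S2969.result x ⟨1, by rw [hx, pow_one]⟩ hi).1 P hP.pgroup
    (l (mem_zpowers x)))⟩

/- isolated elements (S2968, S2969; ~40 lines): the class size in a subgroup is prime to p, and two
conjugates inside a subgroup are conjugate in it (Sylow p of Y containing x centralizes x). -/
theorem iso_not_dvd {x : G} {p : ℕ} (hp : p.Prime) (hx : orderOf x = p) (hi : IsIsolated x)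
    {Y : Subgroup G} (hY : x ∈ Y) : ¬ p ∣ (𝐂[x]).relIndex Y := by
  have := Fact.mk hp
  obtain ⟨P, hP, l⟩ := OddZ.syl hp hx hi hY
  exact fun d => hP.not_dvd_relIndex (d.trans (relIndex_dvd_of_le_left Y l))

theorem iso_conj {x : G} {p : ℕ} (hp : p.Prime) (hx : orderOf x = p) (hi : IsIsolated x)
    {Y : Subgroup G} (hY : x ∈ Y) {g : G} (hg : g * x * g⁻¹ ∈ Y) :
    ∃ c ∈ Y, g * x * g⁻¹ = c * x * c⁻¹ := by
  have := Fact.mk hp
  obtain ⟨P, hP, l⟩ := OddZ.syl hp hx hi hY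
  obtain ⟨c, hc, k⟩ := hP.exists_conj_le (OddZ.pz (x := g * x * g⁻¹) (by
    rw [← hx]; exact (MulAut.conj g).orderOf_eq x)) (zpowers_le.2 hg)
  have m := mem_cen'.1 (l (k (CL.MSS.conj_mem_cj (mem_zpowers _))))
  rw [show c * (g * x * g⁻¹) * c⁻¹ = c * g * x * (c * g)⁻¹ by group] at m
  refine ⟨c⁻¹, inv_mem hc, ?_⟩
  conv_rhs => rw [← hi _ m]
  group

end CL.I5
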