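import Mathlib
import Cfsg.Agent.PERM.I5.OddZ

set_option autoImplicit false

namespace CL.I5

open Subgroup Cfsg CL.CS CL.Ito

variable {G : Type*} [Group G] [Finite G]

namespace MaxV

omit [Finite G] in
theorem pg {x : G} {k : ℕ} (h : x ^ 2 ^ k = 1) : IsPGroup 2 (zpowers x) := fun y => ⟨k, by
  obtain ⟨y, n, rfl⟩ := y
  apply Subtype.ext
  simp only [SubmonoidClass.coe_pow, OneMemClass.coe_one]
  rw [← zpow_natCast, ← zpow_mul, mul_comm, zpow_mul, zpow_natCast, h, one_zpow]⟩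

omit [Finite G] in
theorem pg_sup {V : Subgroup G} (hV : IsPGroup 2 V) {τ : G} (hn : τ ∈ normalizer (V : Set G))
    (h2 : ∃ k, τ ^ 2 ^ k = 1) : IsPGroup 2 (V ⊔ zpowers τ : Subgroup G) :=
  hV.to_sup_of_normal_left' (pg h2.choose_spec) (zpowers_le.2 hn)

/-- every `p`-subgroup centralizes a conjugate -/
theorem ex_conj {p : ℕ} [Fact p.Prime] {x : G} (h : ¬ p ∣ (𝐂[x]).index) {W : Subgroup G}
    (hW : IsPGroup p W) : ∃ g : G, W ≤ 𝐂[g * x * g⁻¹] := by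
  obtain ⟨P, hP⟩ := hW.exists_le_sylow
  obtain ⟨g, hg⟩ := exists_conj_mem_centralizer_sylow h P
  exact ⟨g, hP.trans (le_cen_iff.2 hg)⟩

/-- a non-Sylow `2`-subgroup has index `2` in a larger one -/
theorem ex_tau {V : Subgroup G} (hV : IsPGroup 2 V) (h : 2 ∣ V.index) :
    ∃ τ ∈ normalizer (V : Set G), τ ∉ V ∧ τ * τ ∈ V := by
  obtain ⟨n, hn⟩ := IsPGroup.iff_card.1 hV
  obtain ⟨K, hK, hVK⟩ := Sylow.exists_subgroup_card_pow_succ (p := 2) (n := n) (H := V)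
    (by rw [← V.card_mul_index, hn, pow_succ]; exact mul_dvd_mul_left _ h) hn
  have hi : (V.subgroupOf K).index = 2 := by
    have h1 := (V.subgroupOf K).card_mul_index
    rw [Nat.card_congr (subgroupOfEquivOfLe hVK).toEquiv, hn, hK, pow_succ] at h1
    exact Nat.eq_of_mul_eq_mul_left (by positivity) h1
  have hN := normal_of_index_eq_two hi
  obtain ⟨τ, hτ⟩ : ∃ τ : K, τ ∉ V.subgroupOf K := by
    by_contra hc
    push Not at hc
    rw [(eq_top_iff' _).2 hc, index_top] at hi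
    omega
  exact ⟨τ, (normal_subgroupOf_iff_le_normalizer hVK).1 hN τ.2, hτ, mul_self_mem_of_index_two hi τ⟩

omit [Finite G] in
/-- a real element of odd order has a class of even size -/
theorem two_dvd {w τ : G} (h : τ * w * τ⁻¹ = w⁻¹) (h2 : τ * τ ∈ 𝐂[w]) (hw : w⁻¹ ≠ w) :
    2 ∣ (𝐂[w]).index := by
  have hn : τ ∈ normalizer ((𝐂[w] : Subgroup G) : Set G) := by
    have := cen_conj τ w
    rw [h, cen_inv] at this
    exact mem_normalizer_iff_conj_image_eq.2 (by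
      conv_rhs => rw [this]
      rfl)
  by_contra hd
  have h1 : ¬ 2 ∣ (𝐂[w]).relIndex (normalizer ((𝐂[w] : Subgroup G) : Set G)) := fun hd' =>
    hd (hd'.trans (relIndex_dvd_index_of_le le_normalizer))
  have h3 := pow_index_mem ((𝐂[w]).subgroupOf (normalizer ((𝐂[w] : Subgroup G) : Set G))) ⟨τ, hn⟩
  obtain ⟨m, hm⟩ := Nat.odd_iff.2 (Nat.two_dvd_ne_zero.1 h1)
  rw [mem_subgroupOf, show ((𝐂[w]).subgroupOf (normalizer ((𝐂[w] : Subgroup G) : Set G))).index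
    = 2 * m + 1 from hm] at h3
  have h4 : (τ * τ) ^ m * τ ∈ 𝐂[w] := by
    rw [← pow_two, ← pow_mul, ← pow_succ]; exact h3
  have h5 : τ ∈ 𝐂[w] := (mul_mem_cancel_left (pow_mem h2 m)).1 h4
  exact hw (by rw [← h, (mem_cen.1 h5).eq, mul_inv_cancel_right])

/-- the centralizer of a real element `w` of odd prime order centralized by an involution lies in
the centralizer of a conjugate of `x` -/
theorem ex_cen {x : G} (H : ISO x) {p : ℕ} (hp : p.Prime) (hx : orderOf x = p)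
    (hev : ∀ g h : G, (𝐂[x]).index ∣ (𝐂[g]).index → (𝐂[x]).index ∣ (𝐂[h]).index →
      2 ∣ (𝐂[g]).index → 2 ∣ (𝐂[h]).index → (𝐂[g]).index = (𝐂[h]).index)
    {u w : G} (hu : orderOf u = 2) {r : ℕ} (hr : r.Prime) (hw : orderOf w = r) (huw : u ∈ 𝐂[w])
    (h2 : 2 ∣ (𝐂[w]).index) : ∃ g : G, 𝐂[w] ≤ 𝐂[g * x * g⁻¹] := by
  have := Fact.mk hr
  have hw1 : w ≠ 1 := fun e => hr.one_lt.ne' (by rw [← hw, e, orderOf_one])
  have hu1 : u ≠ 1 := fun e => by rw [e, orderOf_one] at hu; omega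
  have ha := H.ev w hw1 (hu ▸ orderOf_dvd_natCard _ huw)
  have hc : ∀ h ∈ 𝐂[w], (orderOf w).Coprime (orderOf h) → 𝐂[w] ≤ 𝐂[h] := fun h hh hco => by
    have hcm := mem_cen'.1 hh
    have h1 := index_cen_dvd_mul_left hcm hco
    have h3 := hev _ _ (ha.trans h1) ha (h2.trans h1) h2
    rw [cen_mul_of_coprime hcm hco] at h3
    exact (eq_of_le_of_index_eq inf_le_left h3).ge.trans inf_le_right
  have hra : ¬ r ∣ (𝐂[x]).index := fun hd => by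
    obtain ⟨k, hk⟩ := H.ev u hu1 (hu ▸ orderOf_dvd_natCard _ (self_mem_cen u))
    have h1 : Nat.card 𝐂[x] = k * Nat.card 𝐂[u] := by
      have e1 := (𝐂[x]).index_mul_card
      have e2 := (𝐂[u]).index_mul_card
      rw [hk, ← e1, mul_assoc] at e2
      exact (Nat.eq_of_mul_eq_mul_left (index_cen_pos x) e2).symm
    have h3 : r ∣ Nat.card 𝐂[x] :=
      h1 ▸ Dvd.dvd.mul_left (hw ▸ orderOf_dvd_natCard _ (mem_cen_comm.1 huw)) k
    exact hr.one_lt.ne' (Nat.eq_one_of_dvd_coprimes H.hall hd h3)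
  obtain ⟨g, hg⟩ := ex_conj hra (W := zpowers w)
    (IsPGroup.of_card (n := 1) (by rw [Nat.card_zpowers, hw, pow_one]))
  have hm : g * x * g⁻¹ ∈ 𝐂[w] := mem_cen_comm.1 (hg (mem_zpowers w))
  have ho : orderOf (g * x * g⁻¹) = p := by rw [← hx]; exact (MulAut.conj g).orderOf_eq x
  refine ⟨g, ?_⟩
  by_cases hrp : r = p
  · obtain ⟨k, hk⟩ := index_eq_pow_of_forall (G := 𝐂[w]) (u := r)
      (H := (𝐂[g * x * g⁻¹]).subgroupOf 𝐂[w]) (fun s y k hs hsr hy => by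
        refine mem_subgroupOf.2 (mem_cen_comm.1 (hc y y.2 ?_ hm))
        rw [hw]
        refine Nat.Coprime.coprime_dvd_right (orderOf_dvd_of_pow_eq_one (n := s ^ k)
          (congrArg Subtype.val hy)) (Nat.Coprime.pow_right _ ?_)
        exact (Nat.coprime_primes hr hs).2 (Ne.symm hsr))
    have h1 := iso_not_dvd hp ho (H.iso _ (index_cen_conj g x)) hm
    rw [relIndex, hk, hrp] at h1
    rcases k with _ | k
    · exact relIndex_eq_one.1 hk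
    · exact absurd (dvd_pow_self p k.succ_ne_zero) h1
  · exact hc _ hm (by rw [hw, ho]; exact (Nat.coprime_primes hr hp).2 hrp)

end MaxV

open MaxV in
/-- An involution centralizes at most one conjugate of `x`. -/
theorem ISO.eq_of_even {x : G} (H : ISO x) {p : ℕ} (hp : p.Prime) (hx : orderOf x = p)
    (hev : ∀ g h : G, (𝐂[x]).index ∣ (𝐂[g]).index → (𝐂[x]).index ∣ (𝐂[h]).index →
      2 ∣ (𝐂[g]).index → 2 ∣ (𝐂[h]).index → (𝐂[g]).index = (𝐂[h]).index)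
    {u : G} (hu : orderOf u = 2) {g₁ g₂ : G} (h1 : g₁ * x * g₁⁻¹ ∈ 𝐂[u]) (h2 : g₂ * x * g₂⁻¹ ∈ 𝐂[u]) :
    g₁ * x * g₁⁻¹ = g₂ * x * g₂⁻¹ := by
  by_contra hne
  have hodd : ¬ 2 ∣ (𝐂[x]).index := H.odd.not_two_dvd_nat
  obtain ⟨V, ⟨hV, huV, y₁, y₂, hy, hy1, hy2⟩, hmax⟩ := (Set.toFinite
    {V : Subgroup G | IsPGroup 2 V ∧ u ∈ V ∧ ∃ a b : G, a * x * a⁻¹ ≠ b * x * b⁻¹ ∧
      V ≤ 𝐂[a * x * a⁻¹] ∧ V ≤ 𝐂[b * x * b⁻¹]}).exists_maximal
    ⟨zpowers u, pg (k := 1) (by rw [pow_one, ← hu, pow_orderOf_eq_one]), mem_zpowers u, g₁, g₂, hne,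
      zpowers_le.2 (mem_cen_comm.1 h1), zpowers_le.2 (mem_cen_comm.1 h2)⟩
  have hVi : 2 ∣ V.index := by
    by_contra hd
    let T := MulAut.conj y₁⁻¹ • hV.toSylow hd
    have key : ∀ a : G, V ≤ 𝐂[a * x * a⁻¹] →
        (T : Subgroup G) ≤ 𝐂[y₁⁻¹ * a * x * (y₁⁻¹ * a)⁻¹] := fun a ha => by
      rw [show y₁⁻¹ * a * x * (y₁⁻¹ * a)⁻¹ = y₁⁻¹ * (a * x * a⁻¹) * y₁⁻¹⁻¹ by group, cen_conj]
      exact pointwise_smul_le_pointwise_smul_iff.2 ha
    have h3 := mem_cen.1 (H.one T (y₁⁻¹ * y₂) (by simpa using key y₁ hy1) (key y₂ hy2))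
    apply hy
    calc y₁ * x * y₁⁻¹ = y₁ * ((y₁⁻¹ * y₂) * x * (y₁⁻¹ * y₂)⁻¹) * y₁⁻¹ := by
          rw [h3.eq, mul_inv_cancel_right]
      _ = _ := by group
  have two : ∀ τ : G, τ * τ ∈ V → ∃ k, τ ^ 2 ^ k = 1 := fun τ h => by
    obtain ⟨k, hk⟩ := pow_eq_one_of_mem_isPGroup hV h
    exact ⟨k + 1, by rw [pow_succ', pow_mul, pow_two, hk]⟩
  have uniq : ∀ τ ∈ normalizer (V : Set G), τ ∉ V → τ * τ ∈ V → ∀ a b : G, V ≤ 𝐂[a * x * a⁻¹] →
      τ ∈ 𝐂[a * x * a⁻¹] → V ≤ 𝐂[b * x * b⁻¹] → τ ∈ 𝐂[b * x * b⁻¹] →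
      a * x * a⁻¹ = b * x * b⁻¹ := fun τ hn hτ h2 a b ha ha' hb hb' => by
    by_contra hab
    exact hτ (hmax ⟨pg_sup hV hn (two τ h2), mem_sup_left huV, a, b, hab,
      sup_le ha (zpowers_le.2 ha'), sup_le hb (zpowers_le.2 hb')⟩ le_sup_left
      (mem_sup_right (mem_zpowers τ)))
  obtain ⟨τ, hn, hτ, hτ2⟩ := ex_tau hV hVi
  obtain ⟨a, ha⟩ := ex_conj hodd (pg_sup hV hn (two τ hτ2))
  have ha1 : V ≤ 𝐂[a * x * a⁻¹] := le_sup_left.trans ha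
  have ha2 : τ ∈ 𝐂[a * x * a⁻¹] := ha (mem_sup_right (mem_zpowers τ))
  obtain ⟨b, hb, hab⟩ : ∃ b : G, V ≤ 𝐂[b * x * b⁻¹] ∧ a * x * a⁻¹ ≠ b * x * b⁻¹ := by
    by_cases e : a * x * a⁻¹ = y₁ * x * y₁⁻¹
    · exact ⟨y₂, hy2, e ▸ hy⟩
    · exact ⟨y₁, hy1, e⟩
  have ho : orderOf (a * x * a⁻¹) = p := by rw [← hx]; exact (MulAut.conj a).orderOf_eq x
  have e0 : b * a⁻¹ * (a * x * a⁻¹) * (b * a⁻¹)⁻¹ = b * x * b⁻¹ := by group
  obtain ⟨c, hc, hcb⟩ := iso_conj hp ho (H.iso _ (index_cen_conj a x)) (le_cen_iff.1 ha1)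
    (g := b * a⁻¹) (e0 ▸ le_cen_iff.1 hb)
  rw [e0] at hcb
  have hcV : ∀ v ∈ V, c * v * c⁻¹ = v := fun v hv => by
    rw [← mem_centralizer_iff.1 hc v hv, mul_inv_cancel_right]
  obtain ⟨σ, hσ⟩ : ∃ σ, σ = c * τ * c⁻¹ := ⟨_, rfl⟩
  have hcN := centralizer_le_normalizer (V : Set G) hc
  have sn : σ ∈ normalizer (V : Set G) := hσ ▸ mul_mem (mul_mem hcN hn) (inv_mem hcN)
  have sV : σ ∉ V := fun h => hτ (by
    have := hcV σ h
    rw [hσ] at this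
    rw [← (MulAut.conj c).injective (a₁ := c * τ * c⁻¹) (a₂ := τ) this, ← hσ]
    exact h)
  have s2 : σ * σ = τ * τ := by rw [← hcV _ hτ2, hσ]; group
  have sb : σ ∈ 𝐂[b * x * b⁻¹] := by
    rw [hcb, hσ, cen_conj]
    exact smul_mem_pointwise_smul _ _ _ ha2
  -- no conjugate is centralized by `V`, `τ` and `σ`
  have fin : ∀ d : G, V ≤ 𝐂[d * x * d⁻¹] → τ ∈ 𝐂[d * x * d⁻¹] → σ ∈ 𝐂[d * x * d⁻¹] → False :=
    fun d h1 h2 h3 => hab ((uniq τ hn hτ hτ2 a d ha1 ha2 h1 h2).trans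
      (uniq σ sn sV (s2 ▸ hτ2) d b h1 h3 hb sb))
  obtain ⟨g, hg⟩ : ∃ g, g = τ⁻¹ * σ := ⟨_, rfl⟩
  have gV : V ≤ 𝐂[g] := fun v hv => by
    have h1 := hcV _ (mem_normalizer_iff.1 hn v |>.1 hv)
    have h2 := hcV v hv
    refine mem_cen.2 ?_
    show v * g = g * v
    calc v * g = τ⁻¹ * (τ * v * τ⁻¹) * c * τ * c⁻¹ := by rw [hg, hσ]; group
      _ = τ⁻¹ * (c * (τ * v * τ⁻¹) * c⁻¹) * c * τ * c⁻¹ := by rw [h1]
      _ = g * (c * v * c⁻¹) := by rw [hg, hσ]; group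
      _ = g * v := by rw [h2]
  have gi : τ * g * τ⁻¹ = g⁻¹ := by
    rw [hg, mul_inv_rev, inv_inv, mul_inv_cancel_left, eq_inv_mul_iff_mul_eq, ← mul_assoc, s2,
      mul_inv_cancel_right]
  have sg : σ = τ * g := by rw [hg, mul_inv_cancel_left]
  by_cases h2g : ∀ r : ℕ, r.Prime → r ∣ orderOf g → r = 2
  · have hk := Nat.eq_prime_pow_of_unique_prime_dvd (orderOf_pos g).ne' fun {d} => h2g d
    have hW := pg_sup hV (centralizer_le_normalizer _ (le_cen_iff.1 gV))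
      ⟨_, by rw [← hk, pow_orderOf_eq_one]⟩
    have hN : τ ∈ normalizer ((V ⊔ zpowers g : Subgroup G) : Set G) := by
      refine mem_normalizer_fintype fun n hn' => ?_
      have : V ⊔ zpowers g ≤ (V ⊔ zpowers g).comap (MulAut.conj τ).toMonoidHom :=
        sup_le (fun v hv => mem_sup_left (mem_normalizer_iff.1 hn v |>.1 hv))
          (zpowers_le.2 (mem_sup_right (by
            show τ * g * τ⁻¹ ∈ _
            rw [gi]; exact inv_mem (mem_zpowers g))))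
      exact this hn'
    obtain ⟨d, hd⟩ := ex_conj hodd (pg_sup hW hN (two τ hτ2))
    have h1 := hd (mem_sup_right (mem_zpowers τ))
    exact fin d (le_sup_left.trans (le_sup_left.trans hd)) h1
      (sg ▸ mul_mem h1 (hd (mem_sup_left (mem_sup_right (mem_zpowers g)))))
  · push Not at h2g
    obtain ⟨r, hr, hrd, hr2⟩ := h2g
    have hw := orderOf_pow_orderOf_div (orderOf_pos g).ne' hrd
    generalize orderOf g / r = m at hw
    have wV : V ≤ 𝐂[g ^ m] := gV.trans (cen_le_cen_pow g m)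
    have wi : τ * g ^ m * τ⁻¹ = (g ^ m)⁻¹ := by rw [← conj_pow, gi, inv_pow]
    have wi' : σ * g ^ m * σ⁻¹ = (g ^ m)⁻¹ := by rw [← wi, sg]; group
    have hne' : (g ^ m)⁻¹ ≠ g ^ m := fun e => hr2 ((Nat.prime_dvd_prime_iff_eq hr Nat.prime_two).1
      (hw ▸ orderOf_dvd_of_pow_eq_one (by rw [pow_two]; exact inv_eq_iff_mul_eq_one.1 e)))
    obtain ⟨d, hd⟩ := ex_cen H hp hx hev hu hr hw (wV huV) (two_dvd wi (wV hτ2) hne')
    have key : ∀ t : G, t * g ^ m * t⁻¹ = (g ^ m)⁻¹ → t ∈ 𝐂[d * x * d⁻¹] := fun t ht => by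
      have h1 : t * (d * x * d⁻¹) * t⁻¹ ∈ 𝐂[g ^ m] := by
        rw [← cen_inv, ← ht, cen_conj]
        exact smul_mem_pointwise_smul _ _ _ (mem_cen_comm.1 (hd (self_mem_cen _)))
      exact mem_cen.2 (mul_inv_eq_iff_eq_mul.1
        (H.iso _ (index_cen_conj d x) t (mem_cen'.1 (hd h1))))
    exact fin d (wV.trans hd) (key τ wi) (key σ wi')

end CL.I5
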