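import Mathlib
import Cfsg.Agent.PERM.I5.MaxV

set_option autoImplicit false

namespace CL.I5

open Subgroup Cfsg CL.CS CL.Ito

variable {G : Type*} [Group G] [Finite G]

namespace Iso

omit [Finite G] in
theorem transfer {x y : G} (H : ISO x) (hy : y ≠ 1) (e : 𝐂[y] = 𝐂[x]) : ISO y :=
  ⟨hy, e ▸ H.odd, e ▸ H.hall, e ▸ H.head, e ▸ H.ev, e ▸ H.iso, fun T g h1 h2 => by
    rw [e] at h1 ⊢
    rw [cen_conj, e, ← cen_conj] at h2
    exact H.one T g h1 h2⟩

omit [Finite G] in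
theorem ne1 {t : G} (ht : orderOf t = 2) : t ≠ 1 := by
  rintro rfl
  simp at ht

theorem core [IsSimpleGroup G] (hG : ¬ IsMulCommutative G) {x : G} (H : ISO x) {p : ℕ}
    (hp : p.Prime) (hx : orderOf x = p) {c d e : ℕ}
    (h : ∀ g : G, g ≠ 1 → (𝐂[x]).index ∣ (𝐂[g]).index → (𝐂[g]).index = (𝐂[x]).index ∨
      (𝐂[g]).index = c ∨ (𝐂[g]).index = d ∨ (𝐂[g]).index = e) : False := by
  have hZ := center_eq_bot hG
  have hO := oddCore_eq_bot hG
  have hi2 : ∀ {t : G}, orderOf t = 2 → t ^ 2 ^ 1 = 1 := fun ht => by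
    rw [pow_one, ← ht, pow_orderOf_eq_one]
  have h2 : ¬ 2 ∣ (𝐂[x]).index := fun e => Nat.not_even_iff_odd.2 H.odd (even_iff_two_dvd.2 e)
  have h3 : ∀ t : G, orderOf t = 2 → (𝐂[t]).index ≠ (𝐂[x]).index := fun t ht e =>
    ne1 ht (mem_bot.1 (hZ.le (CL.BS.zstar_center ⟨ht, fun g hg => H.iso t e g hg⟩ hO)))
  have h4 : ∀ t : G, orderOf t = 2 → (𝐂[x]).index ∣ (𝐂[t]).index := fun t ht =>
    H.ev t (ne1 ht) (ht ▸ Subgroup.orderOf_dvd_natCard _ (self_mem_cen t))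
  have hp2 : p ≠ 2 := by
    rintro rfl
    exact h3 x hx rfl
  have hxo : Odd (orderOf x) := hx ▸ hp.odd_of_ne_two hp2
  have hev : 2 ∣ Nat.card G := by
    by_contra e
    have h5 : (⊤ : Subgroup G) ≤ pPrimeCore 2 G := le_pPrimeCore (by
      rw [card_top]
      exact ((Nat.Prime.coprime_iff_not_dvd Nat.prime_two).2 e).symm)
    exact H.hx (mem_bot.1 (hO.le (h5 (mem_top x))))
  by_cases hA : ∀ u : G, orderOf u = 2 → ∀ g₁ g₂ : G, g₁ * x * g₁⁻¹ ∈ 𝐂[u] → g₂ * x * g₂⁻¹ ∈ 𝐂[u] →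
      g₁ * x * g₁⁻¹ = g₂ * x * g₂⁻¹
  · have hse : IsStronglyEmbedded 𝐂[x] := by
      refine ⟨fun e => H.hx (mem_bot.1 (hZ.le (cen_eq_top_iff.1 e))), even_iff_two_dvd.2
        ((Nat.prime_two.dvd_mul.1 (card_mul_index 𝐂[x] ▸ hev)).resolve_right h2),
        fun g hg => Nat.not_even_iff_odd.1 fun e => hg ?_⟩
      obtain ⟨⟨u, hu, hu'⟩, ho⟩ := exists_prime_orderOf_dvd_card' 2 e.two_dvd
      rw [← orderOf_coe] at ho
      replace hu' : u ∈ 𝐂[g * x * g⁻¹] := by rw [cen_conj]; exact hu'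
      have h5 := hA u ho g 1 (mem_cen_comm.1 hu') (by simpa using mem_cen_comm.1 hu)
      rw [one_mul, inv_one, mul_one, mul_inv_eq_iff_eq_mul] at h5
      exact mem_cen.2 h5
    have : (zpowers (⟨x, self_mem_cen x⟩ : 𝐂[x])).Normal :=
      normal_of_le_center (zpowers_le.2 (mem_center_subgroup.2 le_rfl))
    exact H.hx (mem_bot.1 (hO.le (Agent.S1221.result _ hse ⟨⟨x, self_mem_cen x⟩, le_pPrimeCore (by
      rw [Nat.card_zpowers, ← orderOf_coe]; exact Nat.coprime_two_right.2 hxo) (mem_zpowers _), rfl⟩)))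
  push Not at hA
  obtain ⟨u, hu, g₁, g₂, h1, h1', hne⟩ := hA
  have hu0 : IsPGroup 2 (zpowers (⟨u, self_mem_cen u⟩ : 𝐂[u])) :=
    isPGroup_zpowers (k := 1) (Subtype.ext (by simpa using hi2 hu))
  obtain ⟨T₀, hT₀⟩ := hu0.exists_le_sylow
  obtain ⟨T, hT⟩ := (T₀.isPGroup'.map (𝐂[u]).subtype).exists_le_sylow
  obtain ⟨k, hk⟩ := exists_conj_mem_centralizer_sylow h2 T
  have hk' := le_cen_iff.2 hk
  have hyi := H.iso _ (index_cen_conj k x)
  have hyo : orderOf (k * x * k⁻¹) = p := by rw [← MulAut.conj_apply, MulEquiv.orderOf_eq, hx]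
  have hcj : ∀ g : G, Commute (k * x * k⁻¹) (g * x * g⁻¹) → g * x * g⁻¹ = k * x * k⁻¹ := fun g hg => by
    have h5 : g * x * g⁻¹ = (g * k⁻¹) * (k * x * k⁻¹) * (g * k⁻¹)⁻¹ := by group
    rw [h5] at hg ⊢
    exact hyi _ hg
  generalize k * x * k⁻¹ = y at hk' hyi hyo hcj
  have hyu : y ∈ 𝐂[u] := mem_cen_comm.1 (hk' (hT ⟨_, hT₀ (mem_zpowers _), rfl⟩))
  have hyZ : (⟨y, hyu⟩ : 𝐂[u]) ∉ center 𝐂[u] := fun e => by
    have h5 := mem_center_subgroup.1 e
    exact hne ((hcj g₁ (mem_cen'.1 (h5 h1))).trans (hcj g₂ (mem_cen'.1 (h5 h1'))).symm)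
  have hm2 : ¬ 2 ∣ (𝐂[y]).relIndex 𝐂[u] :=
    not_dvd_index_of_sylow_le (P := T₀) fun v hv => hk' (hT ⟨v, hv, rfl⟩)
  have hmp := iso_not_dvd hp hyo hyi hyu
  have hm1 : 1 < (𝐂[y]).relIndex 𝐂[u] := by
    rw [← index_cen_mk hyu]; exact one_lt_index_cen_iff.2 hyZ
  have hmul : ∀ w : G, w ∈ 𝐂[u] → Odd (orderOf w) →
      u * w ≠ 1 ∧ (𝐂[u * w]).index = (𝐂[w]).relIndex 𝐂[u] * (𝐂[u]).index := fun w hw ho => by
    refine ⟨fun e => ?_, index_cen_mul_of_coprime (mem_cen'.1 hw) (by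
      rw [hu]; exact Nat.coprime_two_left.2 ho)⟩
    rw [eq_inv_of_mul_eq_one_right e, orderOf_inv, hu] at ho
    exact absurd ho (by decide)
  obtain ⟨hy1, hy2⟩ := hmul y hyu (hyo ▸ hp.odd_of_ne_two hp2)
  generalize hm : (𝐂[y]).relIndex 𝐂[u] = m at hm2 hmp hm1 hy2
  have hc0 := index_cen_pos u
  have hlt : (𝐂[u]).index < m * (𝐂[u]).index := by nlinarith
  have hle := Nat.le_of_dvd hc0 (h4 u hu)
  have h5 : ∀ g : G, g ≠ 1 → (𝐂[x]).index ∣ (𝐂[g]).index → (𝐂[g]).index = (𝐂[x]).index ∨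
      (𝐂[g]).index = (𝐂[u]).index ∨ (𝐂[g]).index = m * (𝐂[u]).index ∨
      (𝐂[g]).index = c + d + e - (𝐂[u]).index - m * (𝐂[u]).index := fun g hg hd => by
    have h6 := h g hg hd
    have h7 := h u (ne1 hu) (h4 u hu)
    have h8 := h _ hy1 (hy2 ▸ (h4 u hu).mul_left m)
    have h9 := h3 u hu
    rw [hy2] at h8
    omega
  generalize c + d + e - (𝐂[u]).index - m * (𝐂[u]).index = e₀ at h5
  by_cases hc : 2 ∣ (𝐂[u]).index
  · obtain ⟨z, hz1, ⟨j, hj⟩, hz⟩ := exists_not_dvd Nat.prime_two hev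
    obtain ⟨i, -, hi⟩ := (Nat.dvd_prime_pow Nat.prime_two).1 (orderOf_dvd_of_pow_eq_one hj)
    have h10 : 2 ∣ orderOf z := hi ▸ dvd_pow_self 2 (by
      rintro rfl
      exact hz1 (orderOf_eq_one_iff.1 hi))
    have h11 := orderOf_pow_orderOf_div (orderOf_pos z).ne' h10
    have h12 : ¬ 2 ∣ (𝐂[z ^ (orderOf z / 2)]).index := fun e => hz (e.trans (index_cen_pow_dvd _ _))
    have h13 : ¬ 2 ∣ e₀ := by
      rcases h5 _ (ne1 h11) (h4 _ h11) with e | e | e | e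
      · exact (h3 _ h11 e).elim
      · exact (h12 (e ▸ hc)).elim
      · exact (h12 (e ▸ hc.mul_left m)).elim
      · exact e ▸ h12
    refine odd_two_false (G := 𝐂[u]) (m := m) (Nat.odd_iff.2 (by omega)) (fun w hw hwZ => ?_)
      (x := ⟨y, hyu⟩) hp hp2 (by rw [← orderOf_coe]; exact hyo) hyZ hmp
    obtain ⟨h6, h7⟩ := hmul w w.2 (by rwa [orderOf_coe])
    rw [← index_cen_subgroup] at h7
    have h8 : 2 ∣ (𝐂[u * w]).index := h7 ▸ hc.mul_left _
    rcases h5 _ h6 (h7 ▸ (h4 u hu).mul_left _) with e | e | e | e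
    · exact (h2 (e ▸ h8)).elim
    · rw [h7] at e
      exact (hwZ (index_cen_eq_one_iff.1 (Nat.eq_of_mul_eq_mul_right hc0 (by rw [e, one_mul])))).elim
    · rw [h7] at e
      exact Nat.eq_of_mul_eq_mul_right hc0 e
    · exact (h13 (e ▸ h8)).elim
  · have h6 : ∀ g : G, (𝐂[x]).index ∣ (𝐂[g]).index → 2 ∣ (𝐂[g]).index → (𝐂[g]).index = e₀ := by
      intro g hd hg
      have hg1 : g ≠ 1 := by
        rintro rfl
        rw [index_cen_one] at hg
        exact absurd hg (by decide)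
      rcases h5 g hg1 hd with e | e | e | e
      · exact (h2 (e ▸ hg)).elim
      · exact (hc (e ▸ hg)).elim
      · exact ((Nat.prime_two.dvd_mul.1 (e ▸ hg)).elim hm2 hc).elim
      · exact e
    exact hne (H.eq_of_even hp hx (fun g g' a b a' b' => (h6 g a a').trans (h6 g' b b').symm) hu h1 h1')

end Iso

/- STUB Iso (~130 lines). WLOG x of prime order p (exists_prime_cen; all fields depend on C(x) only; for `one`
use cen_conj). No involution has class size a = idx x (CL.BS.zstar_center as in Ito13.list_of_free h3), p ≠ 2.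
If no involution commutes with two conjugates of x, C(x) is strongly embedded: contradiction with S1221 (end of
list_of_free). So u an involution, x1 ≠ x2 conjugates in H = C(u). x' a conjugate centralizing a Sylow
2-subgroup of G that contains one of H; x' is not central in H (isolated), c0 = idx u ≠ a, d0 = idx (u x') = c0 m,
m > 1 odd, p ∤ m (iso_not_dvd); the multiples of a among the sizes are a, c0, d0 and at most one more, e0.
c0 odd: the even ones are all e0, ISO.eq_of_even. c0 even: a 2-central involution z has odd idx z ≠ a, so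
e0 = idx z is odd, idx (u w) ∈ {c0, d0} for w ∈ H of odd order: odd_two_false for H. -/
theorem ISO.false [IsSimpleGroup G] (hG : ¬ IsMulCommutative G) {x : G} (H : ISO x) {c d e : ℕ}
    (h : ∀ g : G, g ≠ 1 → (𝐂[x]).index ∣ (𝐂[g]).index → (𝐂[g]).index = (𝐂[x]).index ∨
      (𝐂[g]).index = c ∨ (𝐂[g]).index = d ∨ (𝐂[g]).index = e) : False := by
  obtain ⟨y, -, hp, e⟩ := exists_prime_cen H.hx H.head
  have hy : y ≠ 1 := fun e => hp.one_lt.ne' (by rw [e, orderOf_one])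
  exact Iso.core hG (Iso.transfer H hy e) hp rfl (c := c) (d := d) (e := _) (e ▸ h)

end CL.I5
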