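import Mathlib
import Cfsg.Agent.PERM.I5.Defs
import Cfsg.Agent.S4034

set_option autoImplicit false
set_option linter.unusedSectionVars false

namespace CL.I5

open Subgroup Cfsg CL.CS CL.Ito

variable {G : Type*} [Group G] [Finite G]

namespace KA

variable {a a' u s : ℕ}

theorem nc {g x : G} (hx : x ∈ 𝐂[g]) (h1 : x ≠ 1) (hd : orderOf x ∣ a) :
    ¬ (Nat.card 𝐂[g]).Coprime a := fun h =>
  h1 (orderOf_eq_one_iff.1 ((Nat.coprime_self _).1
    ((h.coprime_dvd_left (Subgroup.orderOf_dvd_natCard _ hx)).coprime_dvd_right hd)))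

theorem ne1 {x y : G} (h : (orderOf x).Coprime (orderOf y)) (hy : y ≠ 1) : x * y ≠ 1 := fun e => by
  rw [eq_inv_of_mul_eq_one_left e, orderOf_inv] at h
  exact hy (orderOf_eq_one_iff.1 ((Nat.coprime_self _).1 h))

theorem cop {x y : G} {j : ℕ} (h : (orderOf x).Coprime u) (hy : y ^ u ^ j = 1) :
    (orderOf x).Coprime (orderOf y) :=
  (h.pow_right j).coprime_dvd_right (orderOf_dvd_of_pow_eq_one hy)

theorem lt (H : KS G a a' u s) : a' < a ∧ a' ∣ a := by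
  obtain ⟨k, k0, e⟩ := H.pow
  have := H.odd.pos
  refine ⟨?_, _, e⟩
  rw [e] at this ⊢
  exact lt_mul_of_one_lt_right (Nat.pos_of_mul_pos_right this) (Nat.one_lt_pow k0.ne' H.hu.one_lt)

theorem nd (H : KS G a a' u s) {L : Subgroup G} {i : ℕ} (e : a = Nat.card L * u ^ i) :
    ¬ s ∣ L.index := fun h => by
  have e1 : L.index = u ^ i * (Nat.card G / a) := by
    refine Nat.eq_of_mul_eq_mul_left (Nat.card_pos (α := L)) ?_
    rw [L.card_mul_index, ← mul_assoc, ← e, Nat.mul_div_cancel' H.dvd]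
  rw [e1] at h
  rcases (H.hs.dvd_mul).1 h with h | h
  · exact H.su ((Nat.prime_dvd_prime_iff_eq H.hs H.hu).1 (H.hs.dvd_of_dvd_pow h))
  · exact H.hs.one_lt.ne' ((Nat.coprime_self _).1
      ((H.hall.coprime_dvd_left H.sa).coprime_dvd_right h))

theorem sz (H : K2 G a a' u s) {h : G} (h1 : h ≠ 1) (hc : (orderOf h).Coprime u)
    (hn : ¬ (Nat.card 𝐂[h]).Coprime a) : Nat.card 𝐂[h] = a' :=
  (H.size h h1 hn).resolve_left (H.nB h h1 hc)

theorem exL (H : K2 G a a' u s) : ∃ (L : Subgroup G) (i : ℕ), a = Nat.card L * u ^ i ∧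
    ¬ u ∣ Nat.card L ∧ ∀ x ∈ L, ∀ y ∈ L, x * y = y * x := by
  obtain ⟨y, y1, hy⟩ := H.exB
  obtain ⟨k, k0, e⟩ := H.pow
  have ya : orderOf y ∣ a := hy ▸ Subgroup.orderOf_dvd_natCard _ (self_mem_cen y)
  obtain ⟨j, hj⟩ : ∃ j, y ^ u ^ j = 1 := by
    obtain ⟨j, m, hm, em⟩ := Nat.exists_eq_pow_mul_and_not_dvd (orderOf_pos y).ne' u H.hu.ne_one
    refine ⟨j, by_contra fun k => H.nB _ k ?_ ?_⟩
    · refine (((Nat.Prime.coprime_iff_not_dvd H.hu).2 hm).symm).coprime_dvd_left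
        (orderOf_dvd_of_pow_eq_one ?_)
      rw [← pow_mul, ← em, pow_orderOf_eq_one]
    · have d := card_dvd_of_le (cen_le_cen_pow y (u ^ j))
      refine (H.size _ k (nc (cen_le_cen_pow y _ (self_mem_cen y)) y1 ya)).resolve_right fun e' => ?_
      rw [hy, e'] at d
      exact (lt H.toKS).1.not_ge (Nat.le_of_dvd (Nat.pos_of_dvd_of_pos (lt H.toKS).2 H.odd.pos) d)
  obtain ⟨L, ab, h1, i, h2⟩ := (Cfsg.Agent.S4034.result (G := 𝐂[y]) H.hu).1 fun x hx => by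
    rw [← Nat.card_coe_set_eq, card_carrier_eq_index]
    rw [← Subgroup.orderOf_coe] at hx
    have c := cop hx hj
    have e1 := card_cen_subgroup x
    rw [← cen_mul_of_coprime (mem_cen.1 x.2) c] at e1
    have e2 := (𝐂[x]).card_mul_index
    rw [hy, e1] at e2
    rcases H.size _ (ne1 c y1) (nc (inf_le_cen_mul _ _ ⟨mem_cen_comm.1 x.2, self_mem_cen y⟩) y1 ya)
      with e3 | e3
    · exact ⟨0, Nat.eq_of_mul_eq_mul_left H.odd.pos (by rwa [e3, ← mul_one a, mul_assoc, one_mul] at e2)⟩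
    · rw [e3, e] at e2
      exact ⟨k, Nat.eq_of_mul_eq_mul_left (Nat.pos_of_dvd_of_pos (lt H.toKS).2 H.odd.pos) e2⟩
  refine ⟨L.map (𝐂[y]).subtype, i, ?_, ?_, ?_⟩
  · rw [card_subtype, ← h2, L.card_mul_index, hy]
  · rwa [card_subtype]
  · rintro _ ⟨x, hx, rfl⟩ _ ⟨z, hz, rfl⟩
    rw [← map_mul, ← map_mul]
    exact congrArg _ (congrArg Subtype.val (ab.1.1 ⟨x, hx⟩ ⟨z, hz⟩))

theorem key [Fact s.Prime] (H : K2 G a a' u s) (S : Sylow s G) :
    ∃ h ∈ (S : Subgroup G), h ≠ 1 ∧ (S : Subgroup G) ≤ 𝐂[h] ∧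
      ∀ x ∈ 𝐂[h], ∀ y ∈ 𝐂[h], x * y = y * x := by
  have := Fact.mk H.hu
  obtain ⟨L, i, e, hu, ab⟩ := exL H
  obtain ⟨S₀, hS⟩ := exists_sylow_le_of_not_dvd_index (nd H.toKS e)
  obtain ⟨⟨h, hh⟩, h1⟩ := ne_bot_iff_exists_ne_one.1 (S₀.ne_bot_of_dvd_card (H.sa.trans H.dvd))
  replace h1 : h ≠ 1 := fun e => h1 (Subtype.ext e)
  have ho : orderOf h ∣ Nat.card L := Subgroup.orderOf_dvd_natCard _ (hS hh)
  have ha : orderOf h ∣ a := ho.trans ⟨_, e⟩
  have hc : (orderOf h).Coprime u :=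
    ((Nat.Prime.coprime_iff_not_dvd H.hu).2 hu).symm.coprime_dvd_left ho
  have c := sz H h1 hc (nc (self_mem_cen h) h1 ha)
  have LC : L ≤ 𝐂[h] := fun x hx => mem_cen.2 (ab x hx h (hS hh))
  have z : ∀ g ∈ 𝐂[h], ∀ j, g ^ u ^ j = 1 → 𝐂[h] ≤ 𝐂[g] := fun g hg j hj => by
    have c1 := (cop hc hj).symm
    have e1 := cen_mul_of_coprime (mem_cen.1 hg) c1
    have e2 := H.size _ (ne1 c1 h1) (nc (inf_le_cen_mul _ _ ⟨mem_cen_comm.1 hg, self_mem_cen h⟩) h1 ha)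
    rw [e1] at e2
    have := (lt H.toKS).1
    exact (eq_of_le_of_card_ge (inf_le_right : 𝐂[g] ⊓ 𝐂[h] ≤ _) (by omega)).ge.trans inf_le_left
  obtain ⟨n, -, hn⟩ : ∃ n ≤ i, (L.subgroupOf 𝐂[h]).index = u ^ n := by
    refine (Nat.dvd_prime_pow H.hu).1 (Nat.dvd_of_mul_dvd_mul_left (Nat.card_pos (α := L)) ?_)
    rw [← e, ← Nat.card_congr (subgroupOfEquivOfLe LC).toEquiv, card_mul_index, c]
    exact (lt H.toKS).2
  have dec : ∀ x ∈ 𝐂[h], ∃ p ∈ 𝐂[h], 𝐂[h] ≤ 𝐂[p] ∧ ∃ l ∈ L, x = p * l := fun x hx => by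
    obtain ⟨p, hp, l, hl, e'⟩ := exists_mul_sylow_of_index_eq_pow hn default ⟨x, hx⟩
    obtain ⟨j, hj⟩ := (default : Sylow u 𝐂[h]).2 ⟨p, hp⟩
    exact ⟨p, p.2, z p p.2 j (congrArg (fun t => (t.1 : G)) hj), l, hl, congrArg Subtype.val e'⟩
  have ab' : ∀ x ∈ 𝐂[h], ∀ y ∈ 𝐂[h], Commute x y := fun x hx y hy => by
    obtain ⟨p, -, cp, l, hl, rfl⟩ := dec x hx
    obtain ⟨q, -, cq, m, hm, rfl⟩ := dec y hy
    exact (mem_cen'.1 (cp hy)).mul_left ((mem_cen.1 (cq (LC hl))).mul_right (ab l hl m hm))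
  obtain ⟨g, rfl⟩ := MulAction.exists_smul_eq G S₀ S
  have m : ∀ x, x ∈ 𝐂[g * h * g⁻¹] ↔ g⁻¹ * x * g ∈ 𝐂[h] := fun x => by
    rw [cen_conj, mem_pointwise_smul_iff_inv_smul_mem]
    simp
  refine ⟨g * h * g⁻¹, smul_mem_pointwise_smul _ (MulAut.conj g) _ hh, by simpa using h1,
    fun x hx => (m x).2 (LC (hS ?_)), fun x hx y hy => ?_⟩
  · simpa using (mem_pointwise_smul_iff_inv_smul_mem (a := MulAut.conj g)).1 hx
  · have := (ab' _ ((m x).1 hx) _ ((m y).1 hy)).eq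
    calc x * y = g * (g⁻¹ * x * g * (g⁻¹ * y * g)) * g⁻¹ := by group
      _ = y * x := by rw [this]; group

theorem key' [Fact s.Prime] (H : K2 G a a' u s) (S : Sylow s G) :
    (S : Subgroup G) ≤ centralizer ((S : Subgroup G) : Set G) ∧
      Nat.card (centralizer ((S : Subgroup G) : Set G)) = a' ∧
      ∀ g ∈ centralizer ((S : Subgroup G) : Set G), centralizer ((S : Subgroup G) : Set G) ≤ 𝐂[g] := by
  obtain ⟨h, hh, h1, l, ab⟩ := key H S
  have e : centralizer ((S : Subgroup G) : Set G) = 𝐂[h] :=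
    le_antisymm (centralizer_le (Set.singleton_subset_iff.2 hh)) fun x hx y hy => ab y (l hy) x hx
  rw [e]
  obtain ⟨j, hj⟩ := S.2 ⟨h, hh⟩
  replace hj : h ^ s ^ j = 1 := congrArg Subtype.val hj
  obtain ⟨n, -, hn⟩ := (Nat.dvd_prime_pow H.hs).1 (orderOf_dvd_of_pow_eq_one hj)
  refine ⟨l, sz H h1 ?_ fun k => ?_, fun g hg x hx => mem_cen.2 (ab x hx g hg)⟩
  · rw [hn]
    exact ((Nat.coprime_primes H.hs H.hu).2 H.su).pow_left n
  · refine H.hs.one_lt.ne' ((Nat.coprime_self _).1 ((k.coprime_dvd_left ?_).coprime_dvd_right H.sa))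
    refine dvd_trans ?_ (Subgroup.orderOf_dvd_natCard _ (self_mem_cen h))
    rw [hn]
    exact dvd_pow_self s fun e => h1 (orderOf_eq_one_iff.1 (by rw [hn, e, pow_zero]))

end KA

open KA

/- STUB KA (~150 lines). oddN: an involution j ∈ N(X) does not commute with w ∈ X, w ≠ 1 (|C(w)| ∣ a odd) and
inverts w⁻¹ j w j⁻¹ ∈ X (`nreal`). exS: |C(g)| ∈ {a, a'} has the full s-part of |G| (`hall`, `pow`).
y from exB is a u-element (`nB` for a power). In K = C(y) (odd, solvable) u'-elements have class size 1 or u ^ k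
(C(y h) has order a or a'), so S4034 gives an abelian u-complement L of K; it contains a Sylow s-subgroup S of G
(conjugate to get all S). For h ∈ L of prime power order ≠ 1, |C(h)| = a', u-elements g of C(h) are central in
C(h) (C(g h) ≤ C(h) has order ≥ a'), L is a u-complement of C(h), so C(h) = Z L is abelian; hence
C(h) = C(h') for all such h, h' ∈ L, = C(S). -/
theorem K2.k3 {a a' u s : ℕ} [Fact s.Prime] (H : K2 G a a' u s) : K3 G a a' u s := by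
  refine ⟨H, fun X X0 hX => ?_, fun g g1 hg => ?_, fun S => S.ne_bot_of_dvd_card (H.sa.trans H.dvd),
    fun S => (key' H S).1, fun S => (key' H S).2.1, fun S => (key' H S).2.2, fun S h hh h1 hc => ?_⟩
  · rw [← Nat.not_even_iff_odd, even_iff_two_dvd]
    intro k
    have := Fact.mk Nat.prime_two
    obtain ⟨⟨j, hj⟩, oj⟩ := exists_prime_orderOf_dvd_card' 2 k
    rw [← Subgroup.orderOf_coe] at oj
    replace oj : orderOf j = 2 := oj
    have jj : j * j = 1 := by rw [← pow_two, ← oj, pow_orderOf_eq_one]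
    obtain ⟨⟨w, hw⟩, w1⟩ := ne_bot_iff_exists_ne_one.1 X0
    replace w1 : w ≠ 1 := fun e => w1 (Subtype.ext e)
    have n : ∀ x ∈ X, x ≠ 1 → ¬ (Nat.card 𝐂[x]).Coprime a := fun x hx x1 =>
      nc (self_mem_cen x) x1 ((Subgroup.orderOf_dvd_natCard _ hx).trans hX)
    have hx : w⁻¹ * (j * w * j⁻¹) ∈ X := mul_mem (inv_mem hw) ((mem_normalizer_iff.1 hj w).1 hw)
    by_cases e : w⁻¹ * (j * w * j⁻¹) = 1
    · have d := Subgroup.orderOf_dvd_natCard _ (mem_cen.2 (show j * w = w * j from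
        mul_inv_eq_iff_eq_mul.1 (inv_mul_eq_one.1 e).symm))
      refine Nat.not_even_iff_odd.2 H.odd (even_iff_two_dvd.2 (oj ▸ d.trans ?_))
      rcases H.size w w1 (n w hw w1) with c | c <;> rw [c]
      exact (lt H.toKS).2
    · refine H.nreal _ e (n _ hx e) (isConj_iff.2 ⟨j, ?_⟩)
      calc j * (w⁻¹ * (j * w * j⁻¹)) * j⁻¹ = j * w⁻¹ * j * w * (j * j)⁻¹ := by group
        _ = j * w⁻¹ * j * w := by rw [jj]; group
        _ = j * w⁻¹ * j⁻¹ * w := by rw [inv_eq_of_mul_eq_one_right jj]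
        _ = _ := by group
  · obtain ⟨k, -, e⟩ := H.pow
    rcases H.size g g1 hg with c | c
    · exact exists_sylow_le_of_not_dvd_index (nd H.toKS (i := 0) (by rw [c, pow_zero, mul_one]))
    · exact exists_sylow_le_of_not_dvd_index (nd H.toKS (i := k) (by rw [c, e]))
  · obtain ⟨-, c, l⟩ := key' H S
    refine (eq_of_le_of_card_ge (l h hh) (le_of_eq ?_)).symm
    rw [c]
    exact sz H h1 hc (nc (self_mem_cen h) h1
      ((c ▸ Subgroup.orderOf_dvd_natCard _ hh).trans (lt H.toKS).2))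

end CL.I5
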