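import Mathlib
import Cfsg.Agent.PERM.I5.Defs
import Cfsg.Agent.FGS.NSol1
import Cfsg.Agent.SOLV.MinNormal

set_option autoImplicit false

namespace CL.I5

open Subgroup Cfsg CL.CS CL.Ito

variable {G : Type*} [Group G] [Finite G]

namespace KAl

variable {a a' u s : ℕ} [Fact s.Prime]

/-- the centralizer of a Sylow subgroup -/
abbrev cA (S : Sylow s G) : Subgroup G := centralizer ((S : Subgroup G) : Set G)

/-- the normalizer of a Sylow subgroup -/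
abbrev cN (S : Sylow s G) : Subgroup G := normalizer ((S : Subgroup G) : Set G)

/-- outer elements -/
structure Out (u : ℕ) (S : Sylow s G) (τ : G) : Prop where
  mN : τ ∈ cN S
  nA : τ ∉ cA S
  pw : τ ^ u ∈ cA S
  up : ∃ k, τ ^ u ^ k = 1

omit [Finite G] [Fact s.Prime] in
theorem le_cen_iff {S : Sylow s G} {g : G} : (S : Subgroup G) ≤ 𝐂[g] ↔ g ∈ cA S :=
  ⟨fun h => mem_centralizer_iff.2 fun x hx => (mem_cen.1 (h hx)).eq,
    fun h x hx => mem_cen.2 (mem_centralizer_iff.1 h x hx)⟩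

theorem eq_of_le {S S' : Sylow s G} (h : (S' : Subgroup G) ≤ cN S) : S' = S := by
  have h1 : IsPGroup s ↥((S' : Subgroup G) ⊔ (S : Subgroup G)) :=
    S'.isPGroup'.to_sup_of_normal_right' S.isPGroup' h
  have e1 := S'.is_maximal' h1 le_sup_left
  have e2 := S.is_maximal' h1 le_sup_right
  exact Sylow.ext (e1.symm.trans e2)

theorem ncop (hp : u.Prime) (hu : u ∣ a) {g : G} (h1 : g ≠ 1) {k : ℕ} (hk : g ^ u ^ k = 1) :
    ¬ (Nat.card 𝐂[g]).Coprime a := fun h => by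
  have d : u ∣ orderOf g := by
    obtain ⟨j, -, hj⟩ := (Nat.dvd_prime_pow hp).1 (orderOf_dvd_of_pow_eq_one hk)
    rcases j with _ | j
    · exact absurd (orderOf_eq_one_iff.1 (by simpa using hj)) h1
    · rw [hj]; exact dvd_pow_self _ j.succ_ne_zero
  have := Nat.dvd_gcd (d.trans (Subgroup.orderOf_dvd_natCard _ (self_mem_cen g))) hu
  rw [h] at this
  exact hp.one_lt.ne' (Nat.dvd_one.1 this)

theorem cm (H : K4 G a a' u s) {S : Sylow s G} {x y : G} (hx : x ∈ cA S) (hy : y ∈ cA S) : x * y = y * x :=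
  (mem_cen.1 (H.comm S y hy hx)).eq

omit [Finite G] [Fact s.Prime] in
theorem cj {S : Sylow s G} {n x : G} (hn : n ∈ cN S) (hx : x ∈ cA S) : n * x * n⁻¹ ∈ cA S := by
  refine mem_centralizer_iff.2 fun h hh => ?_
  have h1 : n⁻¹ * h * n⁻¹⁻¹ ∈ (S : Subgroup G) := (mem_normalizer_iff.1 (inv_mem hn) h).1 hh
  have h2 := mem_centralizer_iff.1 hx _ h1
  calc h * (n * x * n⁻¹) = n * (n⁻¹ * h * n⁻¹⁻¹ * x) * n⁻¹ := by group
    _ = n * x * n⁻¹ * h := by rw [h2]; group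

/-- a `u`-element of `A` with a larger centralizer -/
theorem big (H : K4 G a a' u s) (hu : u ∣ a) {S : Sylow s G} {z τ : G} (hz : z ∈ cA S) (z1 : z ≠ 1) {k : ℕ}
    (hk : z ^ u ^ k = 1) (hτ : τ ∈ 𝐂[z]) (nA : τ ∉ cA S) : Nat.card 𝐂[z] = a := by
  refine (H.size z z1 (ncop H.hu hu z1 hk)).resolve_right fun e => nA ?_
  have := eq_of_le_of_card_ge (H.comm S z hz) (by rw [e, H.cardA S])
  exact this.ge hτ

theorem Out.ne_one {S : Sylow s G} {τ : G} (o : Out u S τ) : τ ≠ 1 := fun e => o.nA (e ▸ one_mem _)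

variable (hN : ∀ S : Sylow s G, ∀ v ∈ centralizer ((S : Subgroup G) : Set G), Nat.card 𝐂[v] = a →
      𝐂[v] = normalizer ((S : Subgroup G) : Set G))
include hN

theorem partA (H : K4 G a a' u s) (hu : u ∣ a) {S : Sylow s G} {τ : G} (o : Out u S τ) :
    ∃ S' : Sylow s G, τ ∈ cA S' ∧ 𝐂[τ] = cN S' := by
  obtain ⟨k, hk⟩ := o.up
  have nc := ncop H.hu hu o.ne_one hk
  obtain ⟨S', hS'⟩ := H.exS τ o.ne_one nc
  have tA := le_cen_iff.1 hS'
  refine ⟨S', tA, hN S' τ tA ((H.size τ o.ne_one nc).resolve_right fun e => o.nA ?_)⟩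
  have e1 := eq_of_le_of_card_ge (H.comm S' τ tA) (by rw [e, H.cardA S'])
  obtain ⟨y, yA, oy, yN⟩ := H.exy S
  have y1 : y ≠ 1 := fun e => H.hu.one_lt.ne (by rw [← oy, e, orderOf_one])
  have yc : 𝐂[y] = cN S :=
    hN S y yA (big H hu yA y1 (k := 1) (by rw [pow_one, ← oy, pow_orderOf_eq_one]) (yN o.mN) o.nA)
  have y' : y ∈ cA S' := e1.ge (mem_cen_comm.1 (yN o.mN))
  have := eq_of_le (yc ▸ le_cen_iff.2 y')
  exact this ▸ tA

theorem partB (H : K4 G a a' u s) (hu : u ∣ a) {S : Sylow s G} {τ t : G} (o : Out u S τ) (tA : t ∈ cA S)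
    {k : ℕ} (hk : t ^ u ^ k = 1) (tc : 𝐂[t] = cA S) :
    ∃ v ∈ cA S, ∃ z ∈ cA S, z ≠ 1 ∧ z ^ u = 1 ∧ 𝐂[z] = cN S ∧ v * τ * v⁻¹ = z * τ := by
  haveI := Fact.mk H.hu
  have dA : ∀ v ∈ cA S, v * τ * v⁻¹ * τ⁻¹ ∈ cA S := fun v hv => by
    have := mul_mem hv (cj o.mN (inv_mem hv))
    simpa only [mul_assoc] using this
  let D : Subgroup G :=
    { carrier := {w | ∃ v ∈ cA S, (∃ n, v ^ u ^ n = 1) ∧ w = v * τ * v⁻¹ * τ⁻¹}
      one_mem' := ⟨1, one_mem _, ⟨0, by simp⟩, by simp⟩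
      mul_mem' := by
        rintro _ _ ⟨v, hv, ⟨n, hn⟩, rfl⟩ ⟨w, hw, ⟨m, hm⟩, rfl⟩
        have c : Commute v w := cm H hv hw
        refine ⟨v * w, mul_mem hv hw, ⟨n + m, ?_⟩, ?_⟩
        · rw [c.mul_pow, pow_add, pow_mul, hn, one_pow, mul_comm (u ^ n), pow_mul, hm, one_pow, one_mul]
        · have e1 := cm H (cj o.mN (inv_mem hv)) (dA w hw)
          calc v * τ * v⁻¹ * τ⁻¹ * (w * τ * w⁻¹ * τ⁻¹)
              = v * (τ * v⁻¹ * τ⁻¹ * (w * τ * w⁻¹ * τ⁻¹)) := by group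
            _ = v * w * τ * (v * w)⁻¹ * τ⁻¹ := by rw [e1]; group
      inv_mem' := by
        rintro _ ⟨v, hv, ⟨n, hn⟩, rfl⟩
        refine ⟨v⁻¹, inv_mem hv, ⟨n, by rw [inv_pow, hn, inv_one]⟩, ?_⟩
        have e1 := cm H (cj o.mN hv) (inv_mem hv)
        calc (v * τ * v⁻¹ * τ⁻¹)⁻¹ = τ * v * τ⁻¹ * v⁻¹ := by group
          _ = v⁻¹ * τ * v⁻¹⁻¹ * τ⁻¹ := by rw [e1]; group }
  have pD : IsPGroup u D := by
    rintro ⟨_, v, hv, ⟨n, hn⟩, rfl⟩
    refine ⟨n, Subtype.ext ?_⟩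
    have c : Commute v (τ * v⁻¹ * τ⁻¹) := cm H hv (cj o.mN (inv_mem hv))
    have e : v * τ * v⁻¹ * τ⁻¹ = v * (τ * v⁻¹ * τ⁻¹) := by group
    show (v * τ * v⁻¹ * τ⁻¹) ^ u ^ n = 1
    rw [e, c.mul_pow, hn, conj_pow, inv_pow, hn]; group
  obtain ⟨k', hk'⟩ := o.up
  have nD : zpowers τ ≤ normalizer (D : Set G) := by
    refine zpowers_le.2 (mem_normalizer_fintype ?_)
    rintro _ ⟨v, hv, ⟨n, hn⟩, rfl⟩
    exact ⟨τ * v * τ⁻¹, cj o.mN hv, ⟨n, by rw [conj_pow, hn]; group⟩, by group⟩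
  have D1 : D ≠ ⊥ := fun e => by
    have : t * τ * t⁻¹ * τ⁻¹ ∈ D := ⟨t, tA, ⟨k, hk⟩, rfl⟩
    rw [e, mem_bot] at this
    refine o.nA (tc.le (mem_cen'.2 ?_))
    exact mul_inv_eq_iff_eq_mul.1 (mul_inv_eq_one.1 this)
  have := CL.inf_centralizer_ne_bot_of_isPGroup pD (isPGroup_zpowers hk') nD D1
  obtain ⟨⟨z, ⟨v, hv, ⟨n, hn⟩, e⟩, zc⟩, z1⟩ := ne_bot_iff_exists_ne_one.1 this
  have z1' : z ≠ 1 := fun e => z1 (Subtype.ext e)
  have c : Commute z τ := (mem_centralizer_iff.1 zc τ (mem_zpowers τ)).symm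
  have zA : z ∈ cA S := e ▸ dA v hv
  have e2 : v * τ * v⁻¹ = z * τ := by rw [e]; group
  have zu : z ^ u = 1 := by
    have h1 : (v * τ * v⁻¹) ^ u = z ^ u * τ ^ u := by rw [e2, c.mul_pow]
    rw [conj_pow, cm H hv o.pw, mul_inv_cancel_right] at h1
    exact (mul_eq_right.1 h1.symm)
  exact ⟨v, hv, z, zA, z1', zu, hN S z zA (big H hu zA z1' (k := 1) (by rwa [pow_one]) (mem_cen'.2 c) o.nA), e2⟩

omit hN in
theorem partC {S S' : Sylow s G} {τ z : G} (o : Out u S τ) (tA : τ ∈ cA S') (tc : 𝐂[τ] = cN S')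
    (hN : ∀ v ∈ cA S', Nat.card 𝐂[v] = Nat.card 𝐂[τ] → 𝐂[v] = cN S')
    (eq : Nat.card (cN S) = Nat.card (cN S')) (zu : z ^ u = 1) (zc : 𝐂[z] = cN S) : Out u S' z := by
  refine ⟨tc.le (mem_cen_comm.1 (zc.ge o.mN)), fun zA => o.nA ?_, by rw [zu]; exact one_mem _, 1, by rwa [pow_one]⟩
  have e := hN z zA (by rw [zc, tc, eq])
  have : S' = S := eq_of_le (by rw [← zc, e]; exact le_normalizer)
  exact this ▸ tA

omit [Finite G] hN in
theorem card_cN [Finite G] (S S' : Sylow s G) : Nat.card (cN S) = Nat.card (cN S') := by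
  have h1 := S.card_eq_index_normalizer
  have h2 := S'.card_eq_index_normalizer
  have h3 := (cN S).card_mul_index
  have h4 := (cN S').card_mul_index
  have : (cN S).index = (cN S').index := h1.symm.trans h2
  rw [this, ← h4] at h3
  exact Nat.eq_of_mul_eq_mul_right (Nat.pos_of_ne_zero index_ne_zero_of_finite) h3

theorem partD (H : K4 G a a' u s) (hu : u ∣ a) {S S' : Sylow s G} {τ z w : G} (o : Out u S τ) (tA : τ ∈ cA S')
    (tc : 𝐂[τ] = cN S') (zA : z ∈ cA S) (zu : z ^ u = 1) (zc : 𝐂[z] = cN S) (wA : w ∈ cA S) (w1 : w ≠ 1)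
    (wu : w ^ u = 1) (wc : 𝐂[w] = cN S) : z ∈ zpowers w := by
  haveI := Fact.mk H.hu
  let T : Subgroup G :=
    { carrier := {e | e ∈ cA S ∧ e ^ u = 1 ∧ cN S ≤ 𝐂[e]}
      one_mem' := ⟨one_mem _, one_pow _, fun g _ => mem_cen.2 (Commute.one_right g)⟩
      mul_mem' := by
        rintro x y ⟨x1, x2, x3⟩ ⟨y1, y2, y3⟩
        have c : Commute x y := cm H x1 y1
        exact ⟨mul_mem x1 y1, by rw [c.mul_pow, x2, y2, one_mul],
          fun g hg => mem_cen.2 ((mem_cen.1 (x3 hg)).mul_right (mem_cen.1 (y3 hg)))⟩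
      inv_mem' := by
        rintro x ⟨x1, x2, x3⟩
        exact ⟨inv_mem x1, by rw [inv_pow, x2, inv_one], fun g hg => mem_cen.2 (mem_cen.1 (x3 hg)).inv_right⟩ }
  have pT : IsPGroup u T := fun e => ⟨1, Subtype.ext (by simpa using e.2.2.1)⟩
  have u2 : u ≠ 2 := fun e => by
    have := H.odd.of_dvd_nat hu
    rw [e] at this
    exact absurd this (by decide)
  have ca : Nat.card 𝐂[τ] = a := by
    rw [tc, card_cN S' S, ← wc]
    exact big H hu wA w1 (k := 1) (by rwa [pow_one]) (wc.ge o.mN) o.nA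
  have cy : IsCyclic T := by
    refine CL.NSol.isCyclic_of_fpf u2 pT (H.ne S') (fun e he => tc.le (mem_cen_comm.1 (he.2.2 o.mN)))
      fun e he e1 v hv c => ?_
    by_contra v1
    have ec : 𝐂[e] = cN S :=
      hN S e he.1 (big H hu he.1 e1 (k := 1) (by rw [pow_one]; exact he.2.1) (he.2.2 o.mN) o.nA)
    have oe := partC o tA tc (fun x hx hc => hN S' x hx (hc.trans ca)) (card_cN S S') he.2.1 ec
    obtain ⟨n, hn⟩ := S'.isPGroup' ⟨v, hv⟩
    have hn' : v ^ s ^ n = 1 := congrArg Subtype.val hn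
    have co : (orderOf v).Coprime u :=
      Nat.Coprime.coprime_dvd_left (orderOf_dvd_of_pow_eq_one hn')
        (Nat.Coprime.pow_left _ ((Nat.coprime_primes H.hs H.hu).2 H.su))
    exact oe.nA ((H.cen S' v (H.le S' hv) v1 co).le (mem_cen'.2 c))
  obtain ⟨g, hg⟩ := cy.exists_generator
  have cT : Nat.card T ∣ u := by
    rw [← orderOf_eq_card_of_forall_mem_zpowers hg]
    exact orderOf_dvd_of_pow_eq_one (Subtype.ext (by simpa using g.2.2.1))
  have wT : w ∈ T := ⟨wA, wu, wc.ge⟩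
  have ow : orderOf w = u := orderOf_eq_prime wu w1
  have := eq_of_le_of_card_ge (zpowers_le.2 wT) (by
    rw [Nat.card_zpowers, ow]; exact Nat.le_of_dvd H.hu.pos cT)
  exact this.ge ⟨zA, zu, zc.ge⟩

end KAl

open KAl

/- STUB KAl (~170 lines). For a Sylow S: A_S = C(S), N_S = N(S), |N_S| = a (exy, hN), t0 is conjugate into every
A_S (exS, Sylow conjugacy) with C = A_S. Call τ OUTER for S if τ ∈ N_S \ A_S is a u-element with τ ^ u ∈ A_S.
(a) τ outer: |C(τ)| = a (else S' ≤ C(τ) = A_S' ∋ y, so S' ≤ C(y) = N_S, S' = S, τ ∈ A_S); so C(τ) = N_S' for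
S' ≤ C(τ), and S' ≠ S. (b) τ outer: there is v ∈ A_S with z = ⁅v, τ⁆ ≠ 1, z ∈ A_S commuting with τ, z ^ u = 1
(u-group U0⟨τ⟩, U0 Sylow u of A_S, t0 ∉ C(τ)); C(z) > A_S so C(z) = N_S; v ^ i τ v ^ (-i) = z ^ i τ. (c) if τ is
outer for S with C(τ) = N_S' and z ∈ A_S has order u and C(z) = N_S then z is outer for S' (z ∈ A_S' would give
N_S = N_S', S = S'), and two such z generate the same group (⟨z1, z2⟩ meets A_S' trivially, so acts without
fixed points on S', is cyclic). Now τ (ext), z from (b), z outer for S', τ' from (b) for (S', z), τ' outer for S,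
(b) and (c) for (S, τ') give ⟨z⟩ again: z ~ z τ' ~ z⁻¹ τ' ~ z⁻¹, against `nreal`. -/
theorem K4.alpha {a a' u s : ℕ} [Fact s.Prime] (H : K4 G a a' u s) {t₀ : G} (ht1 : t₀ ≠ 1) {k : ℕ}
    (hk : t₀ ^ u ^ k = 1) (hu : u ∣ a) (ht : Nat.card 𝐂[t₀] ≠ a)
    (hN : ∀ S : Sylow s G, ∀ v ∈ centralizer ((S : Subgroup G) : Set G), Nat.card 𝐂[v] = a →
      𝐂[v] = normalizer ((S : Subgroup G) : Set G)) : False := by
  have ext : ∀ S : Sylow s G, ∃ t ∈ cA S, t ^ u ^ k = 1 ∧ 𝐂[t] = cA S := fun S => by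
    have nc := ncop H.hu hu ht1 hk
    obtain ⟨S₀, h0⟩ := H.exS t₀ ht1 nc
    have c0 := (H.size t₀ ht1 nc).resolve_left ht
    obtain ⟨g, rfl⟩ := MulAction.exists_smul_eq G S₀ S
    have m : g * t₀ * g⁻¹ ∈ cA (g • S₀) := by
      refine mem_centralizer_iff.2 fun h hh => ?_
      obtain ⟨x, hx, rfl⟩ := hh
      have := (mem_cen.1 (h0 hx)).eq
      show g * x * g⁻¹ * (g * t₀ * g⁻¹) = g * t₀ * g⁻¹ * (g * x * g⁻¹)
      calc _ = g * (x * t₀) * g⁻¹ := by group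
        _ = _ := by rw [this]; group
    refine ⟨_, m, by rw [conj_pow, hk]; group, (eq_of_le_of_card_ge (H.comm _ _ m) ?_).symm⟩
    have h1 := (𝐂[g * t₀ * g⁻¹]).card_mul_index
    have h2 := (𝐂[t₀]).card_mul_index
    rw [index_cen_conj, ← h2] at h1
    rw [H.cardA, ← c0]
    exact (Nat.eq_of_mul_eq_mul_right (Nat.pos_of_ne_zero index_ne_zero_of_finite) h1).le
  obtain ⟨S⟩ : Nonempty (Sylow s G) := inferInstance
  obtain ⟨τ, t1, t2, t3, t4⟩ := H.ext S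
  have o : Out u S τ := ⟨t1, t2, t3, t4⟩
  obtain ⟨t, tA, tk, tc⟩ := ext S
  obtain ⟨-, -, z, zA, z1, zu, zc, -⟩ := partB hN H hu o tA tk tc
  obtain ⟨S', τA, τc⟩ := partA hN H hu o
  have ca : Nat.card (cN S) = a := by
    rw [← zc]; exact big H hu zA z1 (k := 1) (by rwa [pow_one]) (zc.ge o.mN) o.nA
  have oz : Out u S' z :=
    partC o τA τc (fun x hx hc => hN S' x hx (by rw [hc, τc, card_cN S' S, ca])) (card_cN S S') zu zc
  obtain ⟨t', tA', tk', tc'⟩ := ext S'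
  obtain ⟨v', vA', σ, σA, σ1, σu, σc, e1⟩ := partB hN H hu oz tA' tk' tc'
  have oσ : Out u S σ :=
    partC oz zA zc (fun x hx hc => hN S x hx (by rw [hc, zc, ca])) (card_cN S' S) σu σc
  obtain ⟨v, vA, w, wA, w1, wu, wc, e2⟩ := partB hN H hu oσ tA tk tc
  have zw := partD hN H hu oσ σA σc zA zu zc wA w1 wu wc
  obtain ⟨i, hi⟩ := mem_powers_iff_mem_zpowers.2 (inv_mem (mul_mem zw zw))
  have hi' : w ^ i = (z * z)⁻¹ := hi
  have it : ∀ j : ℕ, v ^ j * σ * (v ^ j)⁻¹ = w ^ j * σ := fun j => by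
    induction j with
    | zero => simp
    | succ j ih =>
      have c : v * w ^ j = w ^ j * v := cm H vA (pow_mem wA j)
      calc v ^ (j + 1) * σ * (v ^ (j + 1))⁻¹ = v * (v ^ j * σ * (v ^ j)⁻¹) * v⁻¹ := by rw [pow_succ']; group
        _ = (v * w ^ j) * σ * v⁻¹ := by rw [ih]; group
        _ = w ^ j * (v * σ * v⁻¹) := by rw [c]; group
        _ = w ^ (j + 1) * σ := by rw [e2, pow_succ]; group
  have cσ : σ * z = z * σ := (mem_cen.1 (zc.ge oσ.mN)).eq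
  have cv : v' * σ = σ * v' := cm H vA' σA
  have cz : v ^ i * z = z * v ^ i := cm H (pow_mem vA i) zA
  refine H.nreal z z1 (ncop H.hu hu z1 (k := 1) (by rwa [pow_one])) (isConj_iff.2 ⟨v' * v ^ i * v', ?_⟩)
  have a1 : v ^ i * (σ * z) * (v ^ i)⁻¹ = z⁻¹ * σ := by
    calc v ^ i * (σ * z) * (v ^ i)⁻¹ = (v ^ i * z) * σ * (v ^ i)⁻¹ := by rw [cσ]; group
      _ = z * (v ^ i * σ * (v ^ i)⁻¹) := by rw [cz]; group
      _ = z⁻¹ * σ := by rw [it, hi']; group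
  calc v' * v ^ i * v' * z * (v' * v ^ i * v')⁻¹
      = v' * (v ^ i * (v' * z * v'⁻¹) * (v ^ i)⁻¹) * v'⁻¹ := by group
    _ = (v' * z * v'⁻¹)⁻¹ * (v' * σ) * v'⁻¹ := by rw [e1, a1, ← e1]; group
    _ = z⁻¹ := by rw [cv, e1]; group

end CL.I5
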