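import Mathlib
import Cfsg.Agent.PERM.I5.Defs
import Cfsg.Agent.S3946
import Cfsg.Agent.SOLV.Fitting
import Cfsg.Agent.TECH.Conj

set_option autoImplicit false

namespace CL.I5

open Subgroup Cfsg CL.CS CL.Ito

variable {G : Type*} [Group G] [Finite G]

/-- Otherwise `τ` induces a splitting automorphism of prime order on `V S`. -/
theorem exists_pow_ne_one {u s : ℕ} (hu : u.Prime) (hs : s.Prime) (hsu : s ≠ u) {V S : Subgroup G}
    (hV : IsPGroup u V) (hS : IsPGroup s S) (hSV : S ≤ normalizer (V : Set G)) {τ : G}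
    (hτV : τ ∈ normalizer (V : Set G)) (hτS : τ ∈ normalizer (S : Set G)) (hτ : τ ^ u = 1)
    (hf : ∀ h ∈ S, Commute h τ → h = 1) (hne : ¬ S ≤ centralizer (V : Set G)) :
    ∃ w ∈ V, (w * τ) ^ u ≠ 1 := by
  by_contra! hall
  have := Fact.mk hu
  have := Fact.mk hs
  have hK : τ ∈ normalizer ((V ⊔ S : Subgroup G) : Set G) :=
    CL.MSS.le_normalizer_sup (zpowers_le.2 hτV) (zpowers_le.2 hτS) (mem_zpowers τ)
  let f : S → S := fun l => ⟨l * (τ * (l : G)⁻¹ * τ⁻¹), mul_mem l.2 ((mem_normalizer_iff.1 hτS _).1 (inv_mem l.2))⟩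
  have hb : Function.Surjective f := Finite.injective_iff_surjective.1 fun a b hab => by
    have h3 : (a : G) * (τ * (a : G)⁻¹ * τ⁻¹) = b * (τ * (b : G)⁻¹ * τ⁻¹) := congrArg Subtype.val hab
    refine Subtype.ext (inv_mul_eq_one.1 (hf _ (mul_mem (inv_mem a.2) b.2) ?_))
    rw [commute_iff_eq]
    calc (a : G)⁻¹ * b * τ = (a : G)⁻¹ * (b * (τ * (b : G)⁻¹ * τ⁻¹)) * τ * b := by group
      _ = _ := by rw [← h3]; group
  have h1 : ∀ x ∈ V ⊔ S, (x * τ) ^ u = 1 := fun x hx => by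
    obtain ⟨w, hw, l, hl, rfl⟩ := (CL.MSS.mem_sup_of_normalizes_left hSV).1 hx
    obtain ⟨m, hm⟩ := hb ⟨l, hl⟩
    have e : l = m * (τ * (m : G)⁻¹ * τ⁻¹) := (congrArg Subtype.val hm).symm
    have e2 : w * l * τ = m * ((m : G)⁻¹ * w * m * τ) * (m : G)⁻¹ := by rw [e]; group
    rw [e2, conj_pow, hall _ ((mem_normalizer_iff''.1 (hSV m.2) w).1 hw)]
    group
  let α := (V ⊔ S).normalizerMonoidHom ⟨τ, hK⟩
  have hα : ∀ (i : ℕ) (x : (V ⊔ S : Subgroup G)), ((α ^ i) x : G) = τ ^ i * x * (τ ^ i)⁻¹ := fun i x => by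
    rw [← map_pow]; rfl
  have ho : orderOf α = u := orderOf_eq_prime (by
    rw [← map_pow, show (⟨τ, hK⟩ : normalizer ((V ⊔ S : Subgroup G) : Set G)) ^ u = 1 from Subtype.ext hτ, map_one])
    fun e => hne fun l hl => by
      have := hα 1 ⟨l, mem_sup_right hl⟩
      rw [e, one_pow, pow_one, MulAut.one_apply, eq_mul_inv_iff_mul_eq] at this
      rw [hf l hl this]
      exact one_mem _
  have key : ∀ (x : (V ⊔ S : Subgroup G)) (n : ℕ),
      ((((List.range n).map fun i : ℕ => (α ^ i) x).prod : (V ⊔ S : Subgroup G)) : G) * τ ^ n = (x * τ) ^ n := by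
    intro x n
    induction n with
    | zero => simp
    | succ n ih =>
      rw [List.range_succ, List.map_append, List.prod_append, pow_succ (x * τ : G), ← ih]
      simp [hα, pow_succ, mul_assoc]
  have hn := Cfsg.Agent.S3946.result α (ho ▸ hu) fun x => Subtype.ext (by
    have := key x u
    rw [h1 x x.2, hτ, mul_one] at this
    rw [ho, this]; rfl)
  exact hne (CL.le_centralizer_of_coprime_of_le_nilpotent hn le_sup_right le_sup_left
    (IsPGroup.coprime_card_of_ne s u hsu S V hS hV))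

end CL.I5
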