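import Mathlib
import Cfsg.Agent.PERM.I5.Defs
import Cfsg.Agent.TECH.SylIn
import Cfsg.Agent.FGS.NSol1

set_option autoImplicit false
set_option linter.unusedSectionVars false

namespace CL.I5

open Subgroup Cfsg CL.CS CL.Ito CL.MSS

variable {G : Type*} [Group G] [Finite G]

namespace KB2

theorem mid {A X K : Subgroup G} {u : ℕ} (hu : u.Prime) (h1 : A ≤ X) (h2 : X ≤ K) (e : A.relIndex K ∣ u) :
    X ≤ A ∨ K ≤ X := by
  rw [← relIndex_mul_relIndex A X K h1 h2] at e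
  rcases (Nat.dvd_prime hu).1 ((dvd_mul_right _ _).trans e) with h | h
  · exact .inl (relIndex_eq_one.1 h)
  · rw [h] at e
    exact .inr (relIndex_eq_one.1 (Nat.dvd_one.1 ((Nat.mul_dvd_mul_iff_left hu.pos).1 (by rwa [mul_one]))))

theorem card_mul (A K : Subgroup G) : Nat.card (A ⊓ K : Subgroup G) * A.relIndex K = Nat.card K := by
  rw [← inf_relIndex_right, relIndex, ← Nat.card_congr (subgroupOfEquivOfLe (inf_le_right : A ⊓ K ≤ K)).toEquiv,
    card_mul_index]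

theorem ab {B P : Subgroup G} {u : ℕ} (hu : u.Prime) (h1 : B ≤ P) (e : B.relIndex P ∣ u)
    (c : P ≤ centralizer (B : Set G)) : P ≤ centralizer (P : Set G) := by
  by_cases h : P ≤ B
  · exact c.trans (centralizer_le h)
  obtain ⟨w, hw, nw⟩ := SetLike.not_le_iff_exists.1 h
  have l := (mid hu (le_sup_left : B ≤ B ⊔ zpowers w) (sup_le h1 (zpowers_le.2 hw)) e).resolve_left
    fun h => nw (h (mem_sup_right (mem_zpowers w)))
  have k : ∀ q ∈ P, w ∈ 𝐂[q] → P ≤ 𝐂[q] := fun q hq h =>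
    l.trans (sup_le (fun b hb => mem_centralizer_singleton_iff.2 (c hq b hb)) (zpowers_le.2 h))
  exact fun p hp q hq => mem_centralizer_singleton_iff.1
    (k p hp (mem_cen_comm.1 (k w hw (self_mem_cen w) hp)) hq)

variable {a a' u s : ℕ} [Fact s.Prime] [Fact u.Prime]

local notation "𝐀" S:max => centralizer (((S : Sylow s G) : Subgroup G) : Set G)
local notation "𝐍" S:max => normalizer (((S : Sylow s G) : Subgroup G) : Set G)

theorem AN (S : Sylow s G) : 𝐀 S ≤ 𝐍 S := centralizer_le_normalizer _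

theorem nA (H : K4 G a a' u s) (S : Sylow s G) : normalizer (𝐀 S : Set G) ≤ 𝐍 S := fun g hg =>
  mem_normalizer_of_cj_le ((sylIn_top S).le_of_normalizes (isPGroup_cj g S.isPGroup') le_top
    ((cj_le_of_mem_normalizer (H.le S) hg).trans (AN S)))

theorem nB (H : K4 G a a' u s) (S : Sylow s G) {B : Subgroup G} (hB : SylIn u B (𝐀 S)) :
    normalizer (𝐀 S : Set G) ≤ normalizer (B : Set G) := fun g hg => by
  obtain ⟨x, hx, e⟩ := hB.exists_conj (hB.cj_of_mem_normalizer hg)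
  rw [mem_normalizer_iff_cj, ← e]
  exact cj_eq_of_mem_centralizer fun b hb => mem_centralizer_singleton_iff.1 (H.comm S x hx (hB.le hb))

theorem ua (H : K4 G a a' u s) : u ∣ a := by
  obtain ⟨k, hk, e⟩ := H.pow
  exact e ▸ (dvd_pow_self u hk.ne').mul_left _

theorem nd (H : K4 G a a' u s) {K : Subgroup G} (hK : Nat.card K = a) : ¬ u ∣ K.index := fun h => by
  have := H.hall
  rw [← K.card_mul_index, hK, Nat.mul_div_cancel_left _ (hK ▸ Nat.card_pos)] at this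
  exact H.hu.ne_one (Nat.eq_one_of_dvd_coprimes this (ua H) h)

theorem ix (H : K4 G a a' u s) (hE : ∀ (t : G) (k : ℕ), t ^ u ^ k = 1 → t ^ u = 1) (S : Sylow s G) (P : Sylow u G)
    (hP : (P : Subgroup G) ≤ 𝐍 S) : (𝐀 S).relIndex (𝐍 S) = u ∧ (𝐀 S).relIndex P = u := by
  have u2 : u ≠ 2 := fun e => absurd (H.odd.of_dvd_nat (ua H)) (by rw [e]; decide)
  have hB := (sylIn_sylow P hP).inf_normal_of_le (normalizer_le_normalizer_centralizer _) (AN S)
  have nB' : 𝐍 S ≤ normalizer ((P ⊓ 𝐀 S : Subgroup G) : Set G) := (normalizer_le_normalizer_centralizer _).trans (nB H S hB)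
  have := (normal_subgroupOf_iff_le_normalizer (inf_le_right.trans (AN S))).2 nB'
  let π := QuotientGroup.mk' ((P ⊓ 𝐀 S : Subgroup G).subgroupOf (𝐍 S))
  have n2 : (((S : Subgroup G).subgroupOf (𝐍 S)).map π).Normal := Normal.map inferInstance π (QuotientGroup.mk'_surjective _)
  have one : ∀ x ∈ (S : Subgroup G), x ∈ (P : Subgroup G) → x = 1 := fun x h1 h2 =>
    (IsPGroup.disjoint_of_ne s u H.su _ _ S.isPGroup' P.isPGroup').le_bot ⟨h1, h2⟩
  have cy := NSol.isCyclic_of_fpf u2 (T := ((P : Subgroup G).subgroupOf (𝐍 S)).map π)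
    (P := ((S : Subgroup G).subgroupOf (𝐍 S)).map π) ((isPGroup_subgroupOf P.isPGroup' _).map π) (fun e => H.ne S (by
      refine eq_bot_iff.2 fun x hx => one x hx ?_
      have : π ⟨x, le_normalizer hx⟩ = 1 := e.le ⟨_, hx, rfl⟩
      exact ((QuotientGroup.eq_one_iff _).1 this).1)) le_normalizer_of_normal (by
    rintro _ ⟨p, hp, rfl⟩ ne _ ⟨x, hx, rfl⟩ c
    by_contra x1
    have e : π (p * x * p⁻¹ * x⁻¹) = 1 := by
      rw [map_mul, map_mul, map_mul, map_inv, map_inv, ← c.eq]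
      group
    have e1 := one _ (mul_mem ((mem_normalizer_iff.1 p.2 x).1 hx) (inv_mem hx)) ((QuotientGroup.eq_one_iff _).1 e).1
    obtain ⟨k, hk⟩ := isPGroup_iff_forall_mem.1 S.isPGroup' x hx
    have e2 := H.cen S x (H.le S hx) (fun h => x1 (by rw [show x = 1 from Subtype.ext h, map_one]))
      (Nat.Coprime.coprime_dvd_left (orderOf_dvd_of_pow_eq_one hk)
        (((Nat.coprime_primes H.hs H.hu).2 H.su).pow_left k))
    refine ne ((QuotientGroup.eq_one_iff _).2 ⟨hp, ?_⟩)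
    rw [← e2]
    exact mem_centralizer_singleton_iff.2 (mul_inv_eq_iff_eq_mul.1 (mul_inv_eq_one.1 e1)))
  have d1 : (𝐀 S).relIndex P ∣ u := by
    have e : Nat.card (((P : Subgroup G).subgroupOf (𝐍 S)).map π) = (𝐀 S).relIndex P := by
      rw [← relIndex_ker, QuotientGroup.ker_mk', relIndex_subgroupOf hP, inf_relIndex_left]
    rw [← e, ← IsCyclic.exponent_eq_card]
    refine Monoid.exponent_dvd_of_forall_pow_eq_one ?_
    rintro ⟨_, p, hp, rfl⟩
    obtain ⟨k, hk⟩ := isPGroup_iff_forall_mem.1 P.isPGroup' p hp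
    refine Subtype.ext ?_
    rw [coe_pow, ← map_pow, show p ^ u = 1 from Subtype.ext (hE _ k hk), map_one, coe_one]
  obtain ⟨j, j0, e⟩ := H.idx S
  have e1 := relIndex_mul_relIndex (𝐀 S ⊓ P) P _ inf_le_right hP
  have e2 := relIndex_dvd_of_le_left (𝐍 S) (inf_le_left : 𝐀 S ⊓ P ≤ 𝐀 S)
  rw [e, ← e1, inf_relIndex_right] at e2
  have d2 := ((H.hu.coprime_iff_not_dvd.2 (sylIn_sylow P hP).not_dvd_relIndex).pow_left j).dvd_of_dvd_mul_right e2
  exact ⟨Nat.dvd_antisymm (e ▸ d2.trans d1) (e ▸ dvd_pow_self u j0.ne'), Nat.dvd_antisymm d1 ((dvd_pow_self u j0.ne').trans d2)⟩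

theorem idxK (S : Sylow s G) (hN : Nat.card (𝐍 S) = a) {K : Subgroup G} (h : 𝐀 S ≤ K) (hK : Nat.card K = a) :
    (𝐀 S).relIndex K = (𝐀 S).relIndex (𝐍 S) := by
  have e1 := card_mul (𝐀 S) K
  have e2 := card_mul (𝐀 S) (𝐍 S)
  rw [inf_eq_left.2 h, hK] at e1
  rw [inf_eq_left.2 (AN S), hN] at e2
  exact Nat.eq_of_mul_eq_mul_left Nat.card_pos (e1.trans e2.symm)

theorem abel (H : K4 G a a' u s) (hB : ∀ (t : G) (k : ℕ), t ≠ 1 → t ^ u ^ k = 1 → Nat.card 𝐂[t] = a)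
    (hE : ∀ (t : G) (k : ℕ), t ^ u ^ k = 1 → t ^ u = 1) (S : Sylow s G) (hN : Nat.card (𝐍 S) = a) (P : Sylow u G)
    (hP : (P : Subgroup G) ≤ 𝐍 S) : (P : Subgroup G) ≤ centralizer ((P : Subgroup G) : Set G) := by
  by_contra na
  have sB := (sylIn_sylow P hP).inf_normal_of_le (normalizer_le_normalizer_centralizer _) (AN S)
  obtain ⟨i1, i2⟩ := ix H hE S P hP
  refine na (ab H.hu (inf_le_left : (P : Subgroup G) ⊓ 𝐀 S ≤ P) (by rw [inf_relIndex_left, i2]) fun p hp v hv => ?_)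
  by_cases v1 : v = 1
  · rw [v1, one_mul, mul_one]
  obtain ⟨k, hk⟩ := isPGroup_iff_forall_mem.1 P.isPGroup' v hv.1
  have cK := hB v k v1 hk
  have AK := H.comm S v hv.2
  have iK := (idxK S hN AK cK).trans i1
  obtain ⟨P', l1, l2⟩ := exists_sylow_le_of_not_dvd_index' (nd H cK) sB.pgroup (sB.le.trans AK)
  have AB : 𝐀 S ≤ centralizer ((P ⊓ 𝐀 S : Subgroup G) : Set G) := fun x hx b hb =>
    mem_centralizer_singleton_iff.1 (H.comm S x hx hb.2)
  have e : (P' : Subgroup G) ⊓ 𝐀 S = (P : Subgroup G) ⊓ 𝐀 S := sB.max _ (P'.isPGroup'.to_le inf_le_left) (le_inf l1 inf_le_right) inf_le_right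
  have i3 : ((P : Subgroup G) ⊓ 𝐀 S).relIndex P' ∣ u := by
    obtain ⟨m, hm⟩ := P'.isPGroup'.index ((𝐀 S).subgroupOf P')
    have := relIndex_le_of_le_right (H := 𝐀 S) l2 index_ne_zero_of_finite
    rw [← e, inf_relIndex_left, relIndex, hm]
    rw [iK, relIndex, hm] at this
    have := (Nat.pow_le_pow_iff_right H.hu.one_lt).1 (this.trans_eq (pow_one u).symm)
    exact (pow_dvd_pow u this).trans (pow_one u).dvd
  have n1 : ¬ (P' : Subgroup G) ≤ centralizer ((P ⊓ 𝐀 S : Subgroup G) : Set G) := fun h => na (by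
    obtain ⟨g, rfl⟩ := MulAction.exists_smul_eq G P' P
    rw [sylow_coe_smul, ← cj_centralizer]
    exact cj_mono g (ab H.hu l1 i3 h))
  have n2 : (P' : Subgroup G) ≤ normalizer ((P ⊓ 𝐀 S : Subgroup G) : Set G) := by
    have lt := lt_inf_normalizer_of_lt P'.isPGroup' (lt_of_le_of_ne l1 fun h => n1 (h.ge.trans (inf_le_right.trans AB)))
    exact ((mid H.hu lt.le inf_le_left i3).resolve_left lt.not_ge).trans inf_le_right
  have n3 := ((mid H.hu (le_sup_left : 𝐀 S ≤ 𝐀 S ⊔ P') (sup_le AK l2) iK.dvd).resolve_left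
    fun h => n1 ((le_sup_right.trans h).trans AB)).trans (sup_le (AB.trans (centralizer_le_normalizer _)) n2)
  have n4 := (le_inf AK AB).antisymm ((mid H.hu (le_inf AK AB) inf_le_left iK.dvd).resolve_right
    fun h => n1 (l2.trans (h.trans inf_le_right)))
  have n5 : 𝐂[v] ≤ 𝐍 S := le_trans (n4 ▸ le_normalizer_inf le_normalizer (le_normalizer_centralizer n3)) (nA H S)
  exact (mem_centralizer_singleton_iff.1 ((eq_of_le_of_card_ge n5 (hN.trans cK.symm).le).ge (hP hp))).symm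

theorem cv (H : K4 G a a' u s) (hB : ∀ (t : G) (k : ℕ), t ≠ 1 → t ^ u ^ k = 1 → Nat.card 𝐂[t] = a)
    (hE : ∀ (t : G) (k : ℕ), t ^ u ^ k = 1 → t ^ u = 1) (S : Sylow s G) (hN : Nat.card (𝐍 S) = a) {v : G} {k : ℕ}
    (hv : v ∈ 𝐀 S) (v1 : v ≠ 1) (hk : v ^ u ^ k = 1) : 𝐂[v] = 𝐍 S := by
  obtain ⟨P, l1, l2⟩ := exists_sylow_le_of_not_dvd_index' (nd H hN) (MSS.isPGroup_zpowers hk) (zpowers_le.2 (AN S hv))
  obtain ⟨i1, i2⟩ := ix H hE S P l2
  refine (eq_of_le_of_card_ge ?_ ((hB v k v1 hk).trans hN.symm).le).symm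
  refine ((mid H.hu (le_sup_left : 𝐀 S ≤ 𝐀 S ⊔ P) (sup_le (AN S) l2) i1.dvd).resolve_left fun h => ?_).trans
    (sup_le (H.comm S v hv) fun p hp => mem_centralizer_singleton_iff.2 (abel H hB hE S hN P l2 (l1 (mem_zpowers v)) p hp))
  exact H.hu.ne_one (i2.symm.trans (relIndex_eq_one.2 (le_sup_right.trans h)))

end KB2

open KB2 in
/- A = C(S), N = N(S) of order a (all S, conjugacy), U Sylow u of N (Sylow in G),
U0 = U ⊓ A. [N : A] = u: N / A has exponent u and elements of N \ A have no fixed point ≠ 1 on S (`cen`), so no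
subgroup u × u. So a = a' u. v ∈ U0, v ≠ 1, K = C(v) ≥ A of index u: U0 is normal in K, X = C_K(U0) is A or K;
X = A gives K ≤ N(A) ≤ N, K = N; X = K makes the Sylow u-subgroups abelian, N = A U ≤ C(v). So C(v) = N, U0 is
central in N, U is abelian. Every τ ∈ U, τ ≠ 1 lies in A_S' for S' ≤ C(τ), C(τ) = N_S' ≥ U. For τ ∈ U \ U0,
U0 ⊓ A_S' = 1 (else N = N_S'), so |U0| = u, |U| = u². ⟨τ⟩ = the Sylow u-subgroup of A_S' is conjugate to U0,
by an element of N(U) (U, U^g Sylow in N_S'). So N(U) is transitive on the u + 1 subgroups of order u of U;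
u + 1 is even, against oddN. -/
theorem K4.beta {a a' u s : ℕ} [Fact s.Prime] (H : K4 G a a' u s)
    (hB : ∀ (t : G) (k : ℕ), t ≠ 1 → t ^ u ^ k = 1 → Nat.card 𝐂[t] = a)
    (hE : ∀ (t : G) (k : ℕ), t ^ u ^ k = 1 → t ^ u = 1) (S : Sylow s G)
    (hN : Nat.card (normalizer ((S : Subgroup G) : Set G)) = a) : False := by
  have := Fact.mk H.hu
  have a1 : ¬ a.Coprime a := fun h => H.hu.ne_one (Nat.dvd_one.1 ((Nat.coprime_self a).1 h ▸ ua H))
  obtain ⟨P, hP⟩ := exists_sylow_le_of_not_dvd_index (nd H hN)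
  have hab := abel H hB hE S hN P hP
  have pw := isPGroup_iff_forall_mem.1 P.isPGroup'
  obtain ⟨B, eB⟩ : ∃ B : Subgroup G, B = centralizer ((S : Subgroup G) : Set G) ⊓ P := ⟨_, rfl⟩
  obtain ⟨N, eN⟩ : ∃ N : Subgroup G, N = normalizer ((S : Subgroup G) : Set G) := ⟨_, rfl⟩
  obtain ⟨L, eL⟩ : ∃ L : Subgroup G, L = normalizer ((P : Subgroup G) : Set G) := ⟨_, rfl⟩
  have cB : ∀ v ∈ B, v ≠ 1 → 𝐂[v] = N := fun v hv v1 => by
    rw [eB] at hv
    obtain ⟨k, hk⟩ := pw v hv.2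
    exact eN ▸ cv H hB hE S hN hv.1 v1 hk
  have nN : normalizer (N : Set G) = N := by rw [eN]; exact S.normalizer_normalizer
  have BP : B ≤ P := eB ▸ inf_le_right
  have c1 : Nat.card B * u = Nat.card P := by rw [eB, ← card_mul (centralizer ((S : Subgroup G) : Set G)) P, (ix H hE S P hP).2]
  have c2 : u ≤ Nat.card B := by
    obtain ⟨y, hy, o, hn⟩ := H.exy S
    have y1 : y ^ u ^ 1 = 1 := by rw [pow_one, ← o, pow_orderOf_eq_one]
    rw [← o, ← Nat.card_zpowers, eB]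
    exact card_le_of_le (le_inf (zpowers_le.2 hy) ((sylIn_top P).le_of_normalized (MSS.isPGroup_zpowers y1) le_top
      ((hP.trans hn).trans ((cen_zpowers y).ge.trans (centralizer_le_normalizer _)))))
  let f : (L ⧸ N.subgroupOf L) × {v : B // v ≠ 1} → {t : (P : Subgroup G) // t ≠ 1} := fun x =>
    ⟨⟨x.1.out * x.2.1 * (x.1.out : G)⁻¹, (mem_normalizer_iff.1 (eL ▸ x.1.out.2) _).1 (BP x.2.1.2)⟩, fun e =>
      x.2.2 (Subtype.ext (conj_eq_one_iff.1 (congrArg Subtype.val e)))⟩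
  have fi : Function.Injective f := by
    rintro ⟨q, v, v1⟩ ⟨q', v', v1'⟩ e
    have e1 : (q.out : G) * v * (q.out : G)⁻¹ = q'.out * v' * (q'.out : G)⁻¹ := congrArg (fun t : {t : (P : Subgroup G) // t ≠ 1} => (t.1 : G)) e
    have e2 : ((q.out : G)⁻¹ * q'.out) * v' * ((q.out : G)⁻¹ * q'.out)⁻¹ = v := by
      rw [mul_inv_rev, inv_inv, mul_assoc, mul_assoc, ← mul_assoc (v' : G), ← mul_assoc (q'.out : G), ← mul_assoc (q'.out : G),
        ← e1]
      group
    have e3 : (q.out : G)⁻¹ * q'.out ∈ N := by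
      have := cj_centralizer_singleton ((q.out : G)⁻¹ * q'.out) (v' : G)
      rw [e2, cB v v.2 fun h => v1 (Subtype.ext h), cB v' v'.2 fun h => v1' (Subtype.ext h), ← mem_normalizer_iff_cj, nN] at this
      exact this
    have e4 : q = q' := by
      rw [← q.out_eq, ← q'.out_eq]
      exact QuotientGroup.eq.2 e3
    subst e4
    exact Prod.ext rfl (Subtype.ext (Subtype.ext (mul_left_cancel (mul_right_cancel e1))))
  have fs : Function.Surjective f := by
    rintro ⟨⟨t, ht⟩, t1⟩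
    have t1' : t ≠ 1 := fun h => t1 (Subtype.ext h)
    obtain ⟨k, hk⟩ := pw t ht
    obtain ⟨S', hS⟩ := H.exS t t1' (by rwa [hB t k t1' hk])
    obtain ⟨g, rfl⟩ := MulAction.exists_smul_eq G S S'
    have hN' : Nat.card (normalizer (((g • S : Sylow s G) : Subgroup G) : Set G)) = a := by
      rw [sylow_coe_smul, ← cj_normalizer, card_cj, hN]
    have e := cv H hB hE (g • S) hN' (le_cen_iff.1 hS) t1' hk
    obtain ⟨n, hn, e1⟩ := (sylIn_sylow (g • P) (H := 𝐂[t]) (by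
      rw [e, sylow_coe_smul, sylow_coe_smul, ← cj_normalizer]
      exact cj_mono g hP)).exists_conj (sylIn_sylow P (le_cen_iff.2 (hab ht)))
    rw [sylow_coe_smul, ← cj_mul, ← mem_normalizer_iff_cj, ← eL] at e1
    have m : (n * g)⁻¹ * t * (n * g) ∈ B := by
      rw [eB]
      refine ⟨mem_cj.1 ?_, (mem_normalizer_iff''.1 (eL ▸ e1) t).1 ht⟩
      rw [cj_centralizer, cj_mul, ← sylow_coe_smul, cj_eq_of_mem_normalizer (e ▸ hn)]
      exact le_cen_iff.1 hS
    have m1 : (n * g)⁻¹ * t * (n * g) ≠ 1 := fun h => t1' (by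
      rw [← conj_eq_one_iff (a := (n * g)⁻¹), inv_inv, h])
    obtain ⟨⟨z, hz⟩, e2⟩ := QuotientGroup.mk_out_eq_mul (N.subgroupOf L) ⟨n * g, e1⟩
    refine ⟨⟨QuotientGroup.mk ⟨n * g, e1⟩, ⟨_, m⟩, fun h => m1 (congrArg Subtype.val h)⟩, Subtype.ext (Subtype.ext ?_)⟩
    have c : (z : G) * ((n * g)⁻¹ * t * (n * g)) = (n * g)⁻¹ * t * (n * g) * z :=
      mem_centralizer_singleton_iff.1 ((cB _ m m1).ge hz)
    show ((QuotientGroup.mk (⟨n * g, e1⟩ : L) : L ⧸ N.subgroupOf L).out : G) * ((n * g)⁻¹ * t * (n * g)) *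
      ((QuotientGroup.mk (⟨n * g, e1⟩ : L) : L ⧸ N.subgroupOf L).out : G)⁻¹ = t
    rw [e2, coe_mul, mul_assoc (n * g), c]
    group
  have c3 := Nat.card_eq_of_bijective f ⟨fi, fs⟩
  have sub : ∀ X : Subgroup G, Nat.card {v : X // v ≠ 1} + 1 = Nat.card X := fun X => by
    classical
    rw [← Finite.card_option]
    exact Nat.card_congr (Equiv.optionSubtypeNe 1)
  have o : Odd (Nat.card (L ⧸ N.subgroupOf L)) := (eL ▸ H.oddN P (fun e => by
    rw [e, card_bot] at c1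
    exact H.hu.ne_one (Nat.eq_one_of_mul_eq_one_left c1)) (hN ▸ card_dvd_of_le hP) : Odd (Nat.card L)).of_dvd_nat
      (card_quotient_dvd_card _)
  have ou := H.odd.of_dvd_nat (ua H)
  rw [Nat.card_prod] at c3
  have s1 := sub B
  have s2 := sub P
  have u1 := H.hu.one_lt
  rw [← c3, ← c1, ← s1] at s2
  rw [← s1] at c2
  generalize Nat.card (L ⧸ N.subgroupOf L) = m at o s2
  generalize Nat.card {v : B // v ≠ 1} = w at s2 c2
  obtain ⟨i, rfl⟩ := o
  obtain ⟨j, rfl⟩ := ou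
  rcases le_or_gt i j with l | l
  · nlinarith
  · nlinarith

end CL.I5
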