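import Mathlib
import Cfsg.Agent.PERM.I5.Defs
import Cfsg.Agent.SOLV.OddOrderCor
import Cfsg.Agent.SOLV.CoprimeSylow
import Cfsg.Agent.SOLV.Fitting

set_option autoImplicit false

namespace CL.I5

open Subgroup Cfsg CL.CS CL.Ito
open scoped Pointwise

variable {G : Type*} [Group G] [Finite G]

theorem K4.dich {a a' u s : ℕ} [Fact s.Prime] (H : K4 G a a' u s) (S : Sylow s G) {v : G}
    (hv : v ∈ centralizer ((S : Subgroup G) : Set G)) (ha : Nat.card 𝐂[v] = a) :
    𝐂[v] = normalizer ((S : Subgroup G) : Set G) ∨ pPrimeCore u 𝐂[v] = ⊥ := by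
  refine or_iff_not_imp_right.2 fun h0 => ?_
  have AK := H.comm S v hv
  obtain ⟨k, hk0, hk⟩ := H.pow
  have hA := H.cardA S
  have a'0 : 0 < a' := hA ▸ Nat.card_pos
  have hidx : ((centralizer ((S : Subgroup G) : Set G)).subgroupOf 𝐂[v]).index = u ^ k := by
    have := (centralizer ((S : Subgroup G) : Set G)).subgroupOf 𝐂[v] |>.card_mul_index
    rw [Nat.card_congr (subgroupOfEquivOfLe AK).toEquiv, hA, ha, hk] at this
    exact Nat.eq_of_mul_eq_mul_left a'0 this
  have hc := coprime_card_pPrimeCore u 𝐂[v]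
  have OA : pPrimeCore u 𝐂[v] ≤ (centralizer ((S : Subgroup G) : Set G)).subgroupOf 𝐂[v] := by
    rw [← relIndex_eq_one]
    exact Nat.eq_one_of_dvd_coprimes (hc.pow_right k) (relIndex_dvd_card _ _)
      (hidx ▸ relIndex_dvd_index_of_normal_right _ _)
  obtain ⟨h, h1⟩ := ne_bot_iff_exists_ne_one.1 h0
  have key : ∀ x : pPrimeCore u 𝐂[v], x ≠ 1 →
      𝐂[((x : 𝐂[v]) : G)] = centralizer ((S : Subgroup G) : Set G) := fun x x1 =>
    H.cen S _ (OA x.2) (fun e => x1 (Subtype.ext (Subtype.ext e))) (by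
      rw [orderOf_coe, orderOf_coe]
      exact Nat.Coprime.coprime_dvd_left (orderOf_dvd_natCard x) hc)
  have KN : 𝐂[v] ≤ normalizer ((S : Subgroup G) : Set G) := by
    intro g hg
    have hn : (pPrimeCore u 𝐂[v]).Normal := inferInstance
    have e1 := key h h1
    have e2 := key ⟨⟨g, hg⟩ * h * (⟨g, hg⟩)⁻¹, hn.conj_mem _ h.2 _⟩ (fun e => h1 (Subtype.ext (by
      simpa using congrArg Subtype.val e)))
    change 𝐂[g * ((h : 𝐂[v]) : G) * g⁻¹] = _ at e2
    rw [cen_conj, e1] at e2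
    have hle : MulAut.conj g • (S : Subgroup G) ≤ S := by
      have p1 : IsPGroup s (MulAut.conj g • (S : Subgroup G) : Subgroup G) := (g • S).2
      have p2 := p1.inf_normalizer_sylow S
      have p3 : MulAut.conj g • (S : Subgroup G) ≤ normalizer ((S : Subgroup G) : Set G) :=
        ((pointwise_smul_le_pointwise_smul_iff.2 (H.le S)).trans e2.le).trans
          (centralizer_le_normalizer _)
      exact ((le_inf le_rfl p3).trans p2.le).trans inf_le_right
    exact Sylow.smul_eq_iff_mem_normalizer.1 (Sylow.ext (S.3 (g • S).2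
      (((g • S).3 S.2 hle).le)))
  obtain ⟨j, -, hj⟩ := H.idx S
  have hN : Nat.card (normalizer ((S : Subgroup G) : Set G)) = a' * u ^ j := by
    have := (centralizer ((S : Subgroup G) : Set G)).subgroupOf
      (normalizer ((S : Subgroup G) : Set G)) |>.card_mul_index
    rw [Nat.card_congr (subgroupOfEquivOfLe (centralizer_le_normalizer _)).toEquiv, hA] at this
    rw [← this, ← hj]; rfl
  have hd : Nat.card (normalizer ((S : Subgroup G) : Set G)) ∣ a := by
    have h1 := card_subgroup_dvd_card (normalizer ((S : Subgroup G) : Set G))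
    rw [← Nat.mul_div_cancel' H.dvd] at h1
    refine Nat.Coprime.dvd_of_dvd_mul_right ?_ h1
    rw [hN]
    exact Nat.Coprime.mul_left (H.hall.coprime_dvd_left ⟨_, hk⟩)
      ((H.hall.coprime_dvd_left (hk ▸ (dvd_pow_self u hk0.ne').mul_left a')).pow_left j)
  exact eq_of_le_of_card_ge KN (ha ▸ Nat.le_of_dvd (ha ▸ Nat.card_pos) hd)

theorem K4.large {a a' u s : ℕ} [Fact s.Prime] (H : K4 G a a' u s) (S : Sylow s G) {v : G}
    (hv : v ∈ centralizer ((S : Subgroup G) : Set G)) (ha : Nat.card 𝐂[v] = a)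
    (h0 : pPrimeCore u 𝐂[v] = ⊥) {t : G} (ht : t ∈ centralizer ((S : Subgroup G) : Set G))
    (ht1 : t ≠ 1) {k : ℕ} (hk : t ^ u ^ k = 1) : Nat.card 𝐂[t] = a := by
  have := Fact.mk H.hu
  have AK := H.comm S v hv
  have At := H.comm S t ht
  have hs : s ∣ Nat.card (S : Subgroup G) := by
    obtain ⟨n, hn⟩ := S.2.exists_card_eq
    rcases n with _ | n
    · exact absurd (card_eq_one.1 hn) (H.ne S)
    · exact hn ▸ dvd_pow_self s n.succ_ne_zero
  have cS : (Nat.card (S : Subgroup G)).Coprime u := by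
    obtain ⟨n, hn⟩ := S.2.exists_card_eq
    rw [hn]; exact ((Nat.coprime_primes H.hs H.hu).2 H.su).pow_left n
  refine (H.size t ht1 fun c => H.hs.one_lt.ne' (Nat.eq_one_of_dvd_coprimes c
    (hs.trans (card_dvd_of_le ((H.le S).trans At))) H.sa)).resolve_right fun e => H.ne S ?_
  have eA : centralizer ((S : Subgroup G) : Set G) = 𝐂[t] :=
    eq_of_le_of_card_ge At (by rw [e, H.cardA S])
  have : Group.IsSolvable 𝐂[v] := isSolvable_of_odd _ (ha ▸ H.odd)
  have KV : 𝐂[v] ≤ normalizer (((pCore u 𝐂[v]).map (𝐂[v]).subtype : Subgroup G) : Set G) :=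
    le_normalizer.trans (normalizer_le_normalizer_map_pCore _)
  have h1 := thompson_p_times_q (p := u) (zpowers t) (S : Subgroup G) ((pCore u 𝐂[v]).map (𝐂[v]).subtype)
    (isPGroup_zpowers hk) cS (isPGroup_map_pCore _) (zpowers_le.2 ht)
    ((zpowers_le.2 (AK ht)).trans KV) (((H.le S).trans AK).trans KV)
    (by rw [cen_zpowers, eA]; exact inf_le_right)
  have h2 : (S : Subgroup G) ≤ (pCore u 𝐂[v]).map (𝐂[v]).subtype := fun x hx =>
    ⟨⟨x, AK (H.le S hx)⟩, centralizer_pCore_le_of_isSolvable h0 fun y hy =>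
      Subtype.ext (h1 ⟨y, hy, rfl⟩ x hx).symm, rfl⟩
  obtain ⟨n, hn⟩ := (isPGroup_map_pCore (p := u) (𝐂[v]).subtype).exists_card_eq
  exact card_eq_one.1 (Nat.eq_one_of_dvd_coprimes (cS.pow_right n) dvd_rfl (hn ▸ card_dvd_of_le h2))

end CL.I5
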