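import Mathlib
import Cfsg.Agent.PERM.I5.Defs
import Cfsg.Agent.TECH.Amb
import Cfsg.Agent.SOLV.OddOrderCor
import Cfsg.Agent.FGS.NilpBasic

set_option autoImplicit false

namespace CL.I5

open Subgroup Cfsg CL.CS CL.Ito

variable {G : Type*} [Group G] [Finite G]

namespace KE

set_option linter.unusedSectionVars false

open CL.MSS
open scoped commutatorElement

variable {a a' u s : ℕ}

theorem a'_dvd (H : KS G a a' u s) : a' ∣ a := by
  obtain ⟨k, -, e⟩ := H.pow
  exact ⟨_, e⟩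

theorem card_cen_dvd (H : KS G a a' u s) {y : G} (hy : y ≠ 1) (hd : orderOf y ∣ a) :
    Nat.card 𝐂[y] ∣ a := by
  have h1 : orderOf y ∣ Nat.card 𝐂[y] :=
    Subgroup.orderOf_dvd_natCard _ (mem_centralizer_singleton_iff.2 rfl)
  rcases H.size y hy (fun hc => hy (orderOf_eq_one_iff.1 (Nat.eq_one_of_dvd_coprimes hc h1 hd)))
    with e | e
  · exact e ▸ dvd_rfl
  · exact e ▸ a'_dvd H

theorem ord_dvd (H : KS G a a' u s) {y z : G} (hy : y ≠ 1) (hd : orderOf y ∣ a) (hz : z ∈ 𝐂[y]) :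
    orderOf z ∣ a := (Subgroup.orderOf_dvd_natCard _ hz).trans (card_cen_dvd H hy hd)

theorem dvd_of_primes (H : KS G a a' u s) {n : ℕ} (hn : n ∣ Nat.card G)
    (h : ∀ q : ℕ, q.Prime → q ∣ n → q ∣ a) : n ∣ a := by
  rw [← Nat.mul_div_cancel' H.dvd] at hn
  refine Nat.Coprime.dvd_of_dvd_mul_right ?_ hn
  exact Nat.Coprime.symm (Nat.coprime_of_dvd fun q hq h1 h2 =>
    hq.one_lt.ne' (Nat.eq_one_of_dvd_coprimes H.hall (h q hq h2) h1))

theorem relIndex_sup_dvd {A M : Subgroup G} (h : M ≤ normalizer (A : Set G)) :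
    A.relIndex (A ⊔ M) ∣ Nat.card M := by
  have hN : (A.subgroupOf (A ⊔ M)).Normal :=
    (normal_subgroupOf_iff_le_normalizer le_sup_left).2 (sup_le Subgroup.le_normalizer h)
  have h1 := relIndex_sup_left (M.subgroupOf (A ⊔ M)) (A.subgroupOf (A ⊔ M))
  rw [← subgroupOf_sup le_sup_left le_sup_right, relIndex_subgroupOf le_rfl,
    relIndex_subgroupOf le_sup_right] at h1
  exact h1 ▸ relIndex_dvd_card A M

/-- Sylow subgroups of abelian subgroups are characteristic -/
theorem norm_le {p : ℕ} {U A : Subgroup G} (hU : SylIn p U A) (hA : ∀ g ∈ A, A ≤ 𝐂[g]) :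
    normalizer (A : Set G) ≤ normalizer (U : Set G) :=
  le_normalizer_of_cj_le fun x hx => by
    have h1 : x •ᶜ U ≤ A := cj_le_of_mem_normalizer hU.le hx
    refine hU.le_of_normalizes (isPGroup_cj x hU.pgroup) h1 (h1.trans ?_)
    exact (le_centralizer_iff.1 fun y hy => mem_centralizer_iff.2 fun z hz =>
      (mem_centralizer_singleton_iff.1 (hA y (hU.le hy) hz))).trans (centralizer_le_normalizer _)

variable [Fact s.Prime]

theorem cardA_dvd (H : K3 G a a' u s) (S : Sylow s G) :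
    Nat.card (centralizer ((S : Subgroup G) : Set G)) ∣ a := H.cardA S ▸ a'_dvd H.toKS

/-- a subgroup of order dividing `a` above `S`, normalized by an element of prime order prime
to `a`, centralizes `S` -/
theorem le_cen (H : K3 G a a' u s) (S : Sylow s G) {X : Subgroup G} (hS : (S : Subgroup G) ≤ X)
    (hX : Nat.card X ∣ a) {e : G} (he : (orderOf e).Prime) (hea : ¬ orderOf e ∣ a)
    (hn : e ∈ normalizer (X : Set G)) : X ≤ centralizer ((S : Subgroup G) : Set G) := by
  have hnil : Group.IsNilpotent X := CL.BG.prime_Frobenius_sol_kernel_nil (zpowers_le.2 hn)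
    (CL.isSolvable_of_odd _ (H.odd.of_dvd_nat hX)) (by rwa [Nat.card_zpowers])
    (eq_bot_iff.2 fun y hy => by
      by_contra h1
      exact hea (ord_dvd H.toKS h1 ((Subgroup.orderOf_dvd_natCard _ hy.1).trans hX)
        (mem_centralizer_singleton_iff.2 (hy.2 e (mem_zpowers e)))))
  refine le_of_oU_le_of_sylIn_le (sylIn_sylow S hS) (oU_le_iff.2 fun x hx hc y hy => ?_) (H.le S)
  obtain ⟨k, hk⟩ := isPGroup_iff_forall_mem.1 S.isPGroup' y hy
  exact (CL.FGS.commute_of_mem_nilpotent_of_coprime X hnil hx (hS hy)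
    ((hc.pow_right k).coprime_dvd_right (orderOf_dvd_of_pow_eq_one hk))).symm

theorem not_le [IsSimpleGroup G] (hG : ¬ IsMulCommutative G) (H : K3 G a a' u s) (S : Sylow s G) :
    ¬ normalizer ((S : Subgroup G) : Set G) ≤ centralizer ((S : Subgroup G) : Set G) := fun h => by
  have hc := MonoidHom.ker_transferSylow_isComplement' S h
  rcases (MonoidHom.normal_ker (MonoidHom.transferSylow S h)).eq_bot_or_eq_top with e | e
  · rw [e, isComplement'_bot_left] at hc
    exact hG ⟨⟨fun x y => H.le S (hc ▸ mem_top y) x (hc ▸ mem_top x)⟩⟩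
  · rw [e, isComplement'_top_left] at hc
    exact H.ne S hc

theorem u_dvd (H : K3 G a a' u s) (S : Sylow s G) :
    u ∣ Nat.card (centralizer ((S : Subgroup G) : Set G)) := by
  obtain ⟨y, hy, e⟩ := H.exB
  obtain ⟨S', hS'⟩ := H.exS y hy (fun hc => H.hs.one_lt.ne'
    (Nat.eq_one_of_dvd_coprimes hc (e ▸ H.sa) H.sa))
  have h1 : y ∈ centralizer ((S' : Subgroup G) : Set G) :=
    fun z hz => mem_centralizer_singleton_iff.1 (hS' hz)
  have h2 : u ∣ orderOf y := by
    by_contra h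
    exact H.nB y hy ((Nat.Prime.coprime_iff_not_dvd H.hu).2 h).symm e
  rw [H.cardA S, ← H.cardA S']
  exact h2.trans (Subgroup.orderOf_dvd_natCard _ h1)

theorem index_eq (H : K3 G a a' u s) (S : Sylow s G) : ∃ k, 0 < k ∧
    (centralizer ((S : Subgroup G) : Set G)).index = u ^ k * (Nat.card G / a) := by
  obtain ⟨k, hk, e⟩ := H.pow
  refine ⟨k, hk, Nat.eq_of_mul_eq_mul_left (Nat.card_pos (α := centralizer ((S : Subgroup G) : Set G))) ?_⟩
  rw [card_mul_index, H.cardA S, ← mul_assoc, ← e, Nat.mul_div_cancel' H.dvd]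

theorem eq_u (H : K3 G a a' u s) (S : Sylow s G) {r : ℕ} (hr : r.Prime)
    (hd : r ∣ (centralizer ((S : Subgroup G) : Set G)).relIndex
      (normalizer ((S : Subgroup G) : Set G))) : r = u := by
  by_contra hru
  have : Fact r.Prime := ⟨hr⟩
  have : Fact u.Prime := ⟨H.hu⟩
  set A := centralizer ((S : Subgroup G) : Set G) with hA
  set N := normalizer ((S : Subgroup G) : Set G) with hN
  have AN : A ≤ N := centralizer_le_normalizer _
  have nA : N ≤ normalizer (A : Set G) := normalizer_le_normalizer_centralizer _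
  have SA : (S : Subgroup G) ≤ A := H.le S
  obtain ⟨k, hk, ek⟩ := index_eq H S
  have ra : ¬ r ∣ a := fun h => by
    rcases (Nat.Prime.dvd_mul hr).1 (ek ▸ hd.trans (relIndex_dvd_index_of_le AN)) with h1 | h1
    · exact hru ((Nat.prime_dvd_prime_iff_eq hr H.hu).1 (hr.dvd_of_dvd_pow h1))
    · exact hr.one_lt.ne' (Nat.eq_one_of_dvd_coprimes H.hall h h1)
  obtain ⟨⟨e, eN⟩, he⟩ := exists_prime_orderOf_dvd_card' r (hd.trans (relIndex_dvd_card A N))
  rw [← orderOf_coe] at he
  have key : ∀ X : Subgroup G, (S : Subgroup G) ≤ X → Nat.card X ∣ a →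
      N ≤ normalizer (X : Set G) → X ≤ A := fun X h1 h2 h3 =>
    le_cen H S h1 h2 (e := e) (he.symm ▸ hr) (he.symm ▸ ra) (h3 eN)
  -- `u` divides `[N : A]`
  have ud : u ∣ A.relIndex N := by
    obtain ⟨U, hU⟩ := exists_sylIn u A
    have nU := nA.trans (norm_le hU (H.comm S))
    obtain ⟨⟨v, hv⟩, hv1⟩ := ne_bot_iff_exists_ne_one.1 (hU.ne_bot (u_dvd H S))
    have AC : A ≤ centralizer (U : Set G) := fun x hx y hy =>
      mem_centralizer_singleton_iff.1 (H.comm S x hx (hU.le hy))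
    have CA : centralizer (U : Set G) = A := le_antisymm (key _ (SA.trans AC)
      ((card_dvd_of_le (centralizer_le (Set.singleton_subset_iff.2 hv))).trans
        (card_cen_dvd H.toKS (fun h => hv1 (Subtype.ext h))
          ((Subgroup.orderOf_dvd_natCard _ (hU.le hv)).trans (cardA_dvd H S))))
      (le_normalizer_centralizer nU)) AC
    by_contra hnd
    have h1 : SylIn u U N := sylIn_of_not_dvd_relIndex hU.pgroup (hU.le.trans AN) (by
      rw [← relIndex_mul_relIndex U A N hU.le AN]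
      exact fun h => ((Nat.Prime.dvd_mul H.hu).1 h).elim hU.not_dvd_relIndex hnd)
    have h2 : SylIn u U ⊤ := h1.of_normalizer_le le_top (inf_le_right.trans
      ((normalizer_le_normalizer_centralizer U).trans
        (CA.symm ▸ norm_le (sylIn_sylow S SA) (H.comm S))))
    refine h2.not_dvd_relIndex ?_
    rw [relIndex_top_right]
    exact ((dvd_pow_self u hk.ne').mul_right _).trans (ek ▸ index_dvd_of_le hU.le)
  have hNA : ¬ N ≤ A := fun h => H.hu.one_lt.ne' (Nat.dvd_one.1 (relIndex_eq_one.2 h ▸ ud))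
  -- a minimal normal section
  have hsol : Group.IsSolvable N := CL.isSolvable_of_odd _
    (H.oddN S (H.ne S) ((card_dvd_of_le SA).trans (cardA_dvd H S)))
  obtain ⟨D, ⟨DN, nD, DA⟩, hmin⟩ := exists_minimal_of_wellFoundedLT
    (fun D : Subgroup G => D ≤ N ∧ N ≤ normalizer (D : Set G) ∧ ¬ D ≤ A)
    ⟨N, le_rfl, le_normalizer, hNA⟩
  have hD' : ⁅D, D⁆ ≤ A := by
    by_contra h
    have h1 := hmin (y := ⁅D, D⁆) ⟨(commutator_le_self D).trans DN,
      le_normalizer_commutator nD nD, h⟩ (commutator_le_self D)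
    have h2 : D.subgroupOf N ≠ ⊥ := fun e => DA (by
      rw [subgroupOf_eq_bot, disjoint_iff, inf_of_le_left DN] at e; exact e ▸ bot_le)
    refine (Group.IsSolvable.commutator_lt_of_ne_bot h2).not_ge ?_
    rw [← map_le_map_iff_of_injective N.subtype_injective, map_commutator,
      map_subgroupOf_eq_of_le DN]
    exact h1
  obtain ⟨t, ht, htd⟩ := Nat.exists_prime_and_dvd (mt relIndex_eq_one.1 DA)
  have : Fact t.Prime := ⟨ht⟩
  obtain ⟨T, hT⟩ := exists_sylIn t D
  have TA : ¬ T ≤ A := fun h => hT.not_dvd_relIndex (htd.trans (relIndex_dvd_of_le_left D h))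
  have TN : T ≤ N := hT.le.trans DN
  have nP : N ≤ normalizer ((A ⊔ T : Subgroup G) : Set G) := le_normalizer_of_cj_le fun n hn => by
    obtain ⟨x, hx, e⟩ := hT.exists_conj (hT.cj_of_mem_normalizer (nD hn))
    rw [cj_sup, ← e, cj_eq_of_mem_normalizer (nA hn)]
    refine sup_le le_sup_left (cj_le_iff_forall.2 fun y hy => ?_)
    have h1 := mul_mem (mem_sup_left (T := T) (hD' (commutator_mem_commutator hx (hT.le hy))))
      (mem_sup_right hy)
    rwa [commutatorElement_def, inv_mul_cancel_right] at h1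
  by_cases hta : t ∣ a
  · refine TA (le_sup_right.trans (key (A ⊔ T) (SA.trans le_sup_left)
      (dvd_of_primes H.toKS (card_subgroup_dvd_card _) fun q hq hqd => ?_) nP))
    by_cases hqt : q = t
    · exact hqt ▸ hta
    have : Fact q.Prime := ⟨hq⟩
    obtain ⟨⟨x, hx⟩, ho⟩ := exists_prime_orderOf_dvd_card' q hqd
    rw [← orderOf_coe] at ho
    have h1 := oU_le_of_le_sup hT.pgroup (TN.trans nA) le_rfl
      (mem_oU hx (ho.symm ▸ (Nat.coprime_primes hq ht).2 hqt))
    exact ho ▸ (Subgroup.orderOf_dvd_natCard _ h1).trans (cardA_dvd H S)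
  have DP : D ≤ A ⊔ T := (hmin (y := D ⊓ (A ⊔ T)) ⟨inf_le_left.trans DN, le_normalizer_inf nD nP,
    fun h => TA ((le_inf hT.le le_sup_right).trans h)⟩ inf_le_left).trans inf_le_right
  set M := N ⊓ normalizer (T : Set G) with hM
  have TM : T ≤ M := le_inf TN le_normalizer
  have eN' : A ⊔ M = N := le_antisymm (sup_le AN inf_le_left)
    ((hT.frattini_sup DN nD).ge.trans (sup_le (DP.trans (sup_le_sup_left TM A)) le_sup_right))
  have T1 : ∀ y ∈ T, orderOf y ∣ a → y = 1 := fun y hy h => by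
    obtain ⟨j, hj⟩ := isPGroup_iff_forall_mem.1 hT.pgroup y hy
    exact orderOf_eq_one_iff.1 (Nat.eq_one_of_dvd_coprimes
      (((Nat.Prime.coprime_iff_not_dvd ht).2 hta).pow_left j) (orderOf_dvd_of_pow_eq_one hj) h)
  have Tb : T ≠ ⊥ := fun e => TA (e ▸ bot_le)
  have reg : ∀ x : G, x ≠ 1 → orderOf x ∣ a → T ⊓ 𝐂[x] = ⊥ := fun x hx h =>
    eq_bot_iff.2 fun y hy => T1 y hy.1 (ord_dvd H.toKS hx h hy.2)
  have AM : ∀ x ∈ M, x ≠ 1 → x ∉ A := fun x hx h1 h2 => by
    refine Tb (eq_bot_iff.2 ((reg x h1 ((Subgroup.orderOf_dvd_natCard _ h2).trans (cardA_dvd H S))).le.trans'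
      (le_inf le_rfl fun y hy => ?_)))
    have h3 : x * y * x⁻¹ * y⁻¹ ∈ T := mul_mem (conj_mem_of_normalizes le_rfl hx.2 hy) (inv_mem hy)
    have h4 : x * y * x⁻¹ * y⁻¹ ∈ A := by
      have := mul_mem h2 (conj_mem_of_normalizes nA (TN hy) (inv_mem h2))
      simpa only [mul_assoc] using this
    have h5 := T1 _ h3 ((Subgroup.orderOf_dvd_natCard _ h4).trans (cardA_dvd H S))
    rw [mul_inv_eq_one, mul_inv_eq_iff_eq_mul] at h5
    exact mem_centralizer_singleton_iff.2 h5.symm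
  have fix : ∀ x ∈ M, x ≠ 1 → (S : Subgroup G) ⊓ 𝐂[x] = ⊥ := fun x hx h1 =>
    eq_bot_iff.2 fun h hh => by
      by_contra h2
      obtain ⟨j, hj⟩ := isPGroup_iff_forall_mem.1 S.isPGroup' h hh.1
      exact AM x hx h1 ((H.cen S h (SA hh.1) h2 ((((Nat.coprime_primes H.hs H.hu).2 H.su).pow_left
        j).coprime_dvd_left (orderOf_dvd_of_pow_eq_one hj))).le
        (mem_centralizer_singleton_iff.2 (mem_centralizer_singleton_iff.1 hh.2).symm))
  obtain ⟨⟨τ, τM⟩, hτ⟩ := exists_prime_orderOf_dvd_card' u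
    (ud.trans (eN' ▸ relIndex_sup_dvd (inf_le_left.trans nA : M ≤ _)))
  rw [← orderOf_coe] at hτ
  have τ1 : τ ≠ 1 := fun e => H.hu.one_lt.ne' (by rw [← hτ]; exact orderOf_eq_one_iff.2 e)
  have ua : u ∣ a := (u_dvd H S).trans (cardA_dvd H S)
  have : IsMulCommutative (S : Subgroup G) := le_centralizer_iff_isMulCommutative.1 SA
  obtain ⟨i, hi⟩ := hT.pgroup.exists_card_eq
  obtain ⟨j, hj⟩ := S.isPGroup'.exists_card_eq
  refine no_frobenius (F := M) (W := S) (K := T) (R := zpowers τ) inf_le_left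
    (fun x hx h1 => (fix x hx h1).symm ▸ bot_le)
    (fun h => H.ne S (eq_bot_iff.2 ((fix τ τM τ1).le.trans' (le_inf le_rfl
      (h.trans (centralizer_le (Set.singleton_subset_iff.2 τM)))))))
    TM (zpowers_le.2 τM) ?_ Tb (zpowers_ne_bot.2 τ1) (zpowers_le.2 τM.2)
    fun x hx h1 => reg x h1 (((orderOf_dvd_of_mem_zpowers hx).trans hτ.dvd).trans ua)
  rw [hi, hj]
  exact Nat.Coprime.pow _ _ ((Nat.coprime_primes ht H.hs).2 fun e => hta (e ▸ H.sa))

end KE

theorem K3.k4 [IsSimpleGroup G] (hG : ¬ IsMulCommutative G) {a a' u s : ℕ} [Fact s.Prime]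
    (H : K3 G a a' u s) : K4 G a a' u s := by
  have : Fact u.Prime := ⟨H.hu⟩
  have idx : ∀ S : Sylow s G, ∃ j, 0 < j ∧ (centralizer ((S : Subgroup G) : Set G)).relIndex
      (normalizer ((S : Subgroup G) : Set G)) = u ^ j := fun S => by
    have h1 := Nat.eq_prime_pow_of_unique_prime_dvd (p := u) index_ne_zero_of_finite
      fun {r} hr hd => KE.eq_u H S hr hd
    refine ⟨_, Nat.pos_of_ne_zero fun e => KE.not_le hG H S ?_, h1⟩
    rw [e, pow_zero] at h1
    exact relIndex_eq_one.1 h1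
  have res : ∀ S : Sylow s G, ∀ x ∈ normalizer ((S : Subgroup G) : Set G),
      ∃ k : ℕ, x ^ u ^ k ∈ centralizer ((S : Subgroup G) : Set G) := fun S x hx => by
    obtain ⟨j, -, e⟩ := idx S
    have := normal_subgroupOf_of_le_normalizer
      (CL.MSS.normalizer_le_normalizer_centralizer (S : Subgroup G))
    exact ⟨j, e ▸ pow_index_mem (H := (centralizer ((S : Subgroup G) : Set G)).subgroupOf _) ⟨x, hx⟩⟩
  refine ⟨H, idx, fun S => ?_, fun S => ?_⟩
  · obtain ⟨U, hU⟩ := CL.MSS.exists_sylIn u (centralizer ((S : Subgroup G) : Set G))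
    obtain ⟨V, hV⟩ := CL.MSS.exists_sylIn u (normalizer ((S : Subgroup G) : Set G))
    have h1 := CL.MSS.inf_centralizer_ne_bot hV.pgroup hU.pgroup (hV.le.trans
      ((CL.MSS.normalizer_le_normalizer_centralizer _).trans (KE.norm_le hU (H.comm S))))
      (hU.ne_bot (KE.u_dvd H S))
    obtain ⟨⟨y, hy⟩, ho⟩ := exists_prime_orderOf_dvd_card' u
      (CL.MSS.dvd_card_of_isPGroup_le (hU.pgroup.to_le inf_le_left) h1 le_rfl)
    rw [← orderOf_coe] at ho
    exact ⟨y, hU.le hy.1, ho, CL.MSS.le_of_oU_le_of_sylIn_le hV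
      ((CL.MSS.oU_le_of_pow (res S)).trans (H.comm S y (hU.le hy.1)))
      fun z hz => mem_centralizer_singleton_iff.2 (hy.2 z hz)⟩
  · classical
    obtain ⟨V, hV⟩ := CL.MSS.exists_sylIn u (normalizer ((S : Subgroup G) : Set G))
    obtain ⟨x, hx, hxA⟩ := SetLike.not_le_iff_exists.1 fun h => KE.not_le hG H S
      (CL.MSS.le_of_oU_le_of_sylIn_le hV (CL.MSS.oU_le_of_pow (res S)) h)
    obtain ⟨k, hk⟩ := CL.MSS.isPGroup_iff_forall_mem.1 hV.pgroup x hx
    have hex := res S x (hV.le hx)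
    have h0 : Nat.find hex ≠ 0 := fun e => hxA (by
      have := Nat.find_spec hex
      rwa [e, pow_zero, pow_one] at this)
    obtain ⟨m, hm⟩ := Nat.exists_eq_succ_of_ne_zero h0
    refine ⟨x ^ u ^ m, pow_mem (hV.le hx) _, Nat.find_min hex (by omega), ?_, k, ?_⟩
    · have := Nat.find_spec hex
      rwa [hm, pow_succ, pow_mul] at this
    · rw [← pow_mul, mul_comm, pow_mul, hk, one_pow]

end CL.I5
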