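import Mathlib
import Cfsg.Agent.PERM.I5.Defs

set_option autoImplicit false

namespace CL.I5

open Subgroup Cfsg CL.CS CL.Ito

variable {G : Type*} [Group G] [Finite G]

/-- If `t ^ u ≠ 1`, every `u`-element of `K = C(t)` is central in `K`, so a Sylow `u`-subgroup of `K`
lies in `A = C(S) ≤ K`, against `|K : A| = u ^ k`. -/
theorem K4.exp {a a' u s : ℕ} [Fact s.Prime] (H : K4 G a a' u s)
    (hB : ∀ (t : G) (k : ℕ), t ≠ 1 → t ^ u ^ k = 1 → Nat.card 𝐂[t] = a) (t : G) (k : ℕ)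
    (hk : t ^ u ^ k = 1) : t ^ u = 1 := by
  by_contra hne
  haveI : Fact u.Prime := ⟨H.hu⟩
  have ht1 : t ≠ 1 := fun e => hne (by rw [e, one_pow])
  have mem : ∀ x y : G, y ∈ 𝐂[x] ↔ y * x = x * y := fun x y => mem_centralizer_singleton_iff
  have eqc : ∀ (x : G) (m n : ℕ), x ^ u ^ m = 1 → x ^ n ≠ 1 → 𝐂[x] = 𝐂[x ^ n] := by
    intro x m n hx hn
    have x1 : x ≠ 1 := fun e => hn (by rw [e, one_pow])
    refine Subgroup.eq_of_le_of_card_ge (cen_le_cen_pow x n) ?_
    rw [hB x m x1 hx, hB (x ^ n) m hn (by rw [← pow_mul, mul_comm, pow_mul, hx, one_pow])]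
  have k0 : k ≠ 0 := by
    rintro rfl
    exact ht1 (by simpa using hk)
  -- elements of order `u` are central in `K`
  have st1 : ∀ w ∈ 𝐂[t], w ^ u = 1 → 𝐂[t] ≤ 𝐂[w] := by
    intro w hw hwu g hg
    have c : Commute t w := ((mem _ _).1 hw).symm
    have e1 : (t * w) ^ u = t ^ u := by rw [c.mul_pow, hwu, mul_one]
    have e2 : (t * w) ^ u ^ k = 1 := by
      obtain ⟨j, rfl⟩ := Nat.exists_eq_succ_of_ne_zero k0
      rw [c.mul_pow, hk, one_mul, pow_succ', pow_mul, hwu, one_pow]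
    have e3 : 𝐂[t * w] = 𝐂[t] := by
      rw [eqc (t * w) k u e2 (by rw [e1]; exact hne), e1, ← eqc t k u hk hne]
    have g2 : g ∈ 𝐂[t * w] := e3 ▸ hg
    rw [mem] at hg g2 ⊢
    have : t * (g * w) = t * (w * g) := by
      rw [← mul_assoc, ← hg, mul_assoc, g2, mul_assoc]
    exact mul_left_cancel this
  -- all `u`-elements are central in `K`
  have st2 : ∀ (m : ℕ), ∀ w ∈ 𝐂[t], w ^ u ^ m = 1 → 𝐂[t] ≤ 𝐂[w] := by
    intro m
    induction m with
    | zero =>
      intro w _ hw g _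
      have : w = 1 := by simpa using hw
      rw [mem, this, mul_one, one_mul]
    | succ m ih =>
      intro w hw hwm
      by_cases h1 : w ^ u = 1
      · exact st1 w hw h1
      · rw [eqc w (m + 1) u hwm h1]
        exact ih (w ^ u) (pow_mem hw u) (by rw [← pow_mul, ← pow_succ', hwm])
  have cK : Nat.card 𝐂[t] = a := hB t k ht1 hk
  have hs : s.Prime := Fact.out
  obtain ⟨S, hS⟩ := H.exS t ht1 (by
    rw [cK]
    intro hc
    have : s ∣ 1 := by
      have := Nat.dvd_gcd H.sa H.sa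
      rwa [hc.gcd_eq_one] at this
    exact hs.one_lt.ne' (Nat.dvd_one.1 this))
  have tA : t ∈ centralizer ((S : Subgroup G) : Set G) := by
    rw [mem_centralizer_iff]
    intro y hy
    exact (mem _ _).1 (hS hy)
  have AK : centralizer ((S : Subgroup G) : Set G) ≤ 𝐂[t] := H.comm S t tA
  obtain ⟨U⟩ : Nonempty (Sylow u 𝐂[t]) := inferInstance
  have UA : (U : Subgroup 𝐂[t]) ≤ (centralizer ((S : Subgroup G) : Set G)).subgroupOf 𝐂[t] := by
    intro w hw
    obtain ⟨m, hm⟩ := U.isPGroup' ⟨w, hw⟩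
    have hm' : (w : G) ^ u ^ m = 1 := by
      have := congrArg (fun z : (U : Subgroup 𝐂[t]) => ((z : 𝐂[t]) : G)) hm
      simpa using this
    rw [mem_subgroupOf, mem_centralizer_iff]
    intro y hy
    exact (mem _ _).1 (st2 m w w.2 hm' (hS hy))
  have hd := index_dvd_of_le UA
  obtain ⟨j, hj, ea⟩ := H.pow
  have e1 := card_mul_index ((centralizer ((S : Subgroup G) : Set G)).subgroupOf 𝐂[t])
  rw [Nat.card_congr (subgroupOfEquivOfLe AK).toEquiv, H.cardA S, cK] at e1
  have a0 : 0 < a' := by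
    rw [← H.cardA S]
    exact Nat.card_pos
  have e2 : ((centralizer ((S : Subgroup G) : Set G)).subgroupOf 𝐂[t]).index = u ^ j :=
    Nat.eq_of_mul_eq_mul_left a0 (e1.trans ea)
  rw [e2] at hd
  exact U.not_dvd_index ((dvd_pow_self u hj.ne').trans hd)

end CL.I5
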