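import Mathlib
import Cfsg.Agent.PERM.I5.Defs

set_option autoImplicit false

namespace CL.I5

open Subgroup Cfsg CL.CS CL.Ito

variable {G : Type*} [Group G] [Finite G]

theorem LemK.cz {r : ℕ} [Fact r.Prime] {R : Subgroup G} (hR : IsPGroup r R) (h1 : R ≠ ⊥) :
    ∃ z ∈ R, z ≠ 1 ∧ R ≤ 𝐂[z] ∧ ∃ k, z ^ r ^ k = 1 := by
  have := (nontrivial_iff_ne_bot R).2 h1
  have := hR.center_nontrivial
  obtain ⟨⟨⟨z, hz⟩, hc⟩, hz1⟩ := exists_ne (1 : center R)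
  obtain ⟨k, hk⟩ := hR ⟨z, hz⟩
  exact ⟨z, hz, fun e => hz1 (Subtype.ext (Subtype.ext e)),
    fun w hw => mem_cen.2 (congrArg Subtype.val (mem_center_iff.1 hc ⟨w, hw⟩)), k,
    congrArg Subtype.val hk⟩

theorem LemK.cop {r s j k : ℕ} (hr : r.Prime) (hs : s.Prime) (h : r ≠ s) {g z : G}
    (hg : g ^ s ^ j = 1) (hz : z ^ r ^ k = 1) : (orderOf g).Coprime (orderOf z) :=
  Nat.Coprime.coprime_dvd_left (orderOf_dvd_of_pow_eq_one hg) (Nat.Coprime.coprime_dvd_right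
    (orderOf_dvd_of_pow_eq_one hz) (Nat.Coprime.pow j k ((Nat.coprime_primes hs hr).2 h.symm)))

theorem lemK [IsSimpleGroup G] (hG : ¬ IsMulCommutative G) {x y : G} (H : TH x y)
    (h : ∀ g : G, 𝐂[g] < 𝐂[y] → (𝐂[x]).index ∣ (𝐂[g]).index) :
    ∀ v ∈ 𝐂[y], v ≠ 1 → 𝐂[v] = 𝐂[y] := by
  have hd : ∀ g : G, g ≠ 1 → 𝐂[y] ≤ 𝐂[g] → 𝐂[g] = 𝐂[y] := fun g hg le =>
    (eq_of_le_of_index_eq le (H.heady g hg (index_dvd_of_le le)).symm).symm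
  have nc : ∀ g : G, g ≠ 1 → 𝐂[g] = 𝐂[y] → g ∉ 𝐂[x] := fun g hg e hx =>
    not_commute_of_coprime hG H.hx hg (e ▸ H.co) (mem_cen'.1 hx)
  have s1 : ∀ r : ℕ, r.Prime → r ∣ (𝐂[x]).index →
      ∃ z : G, z ≠ 1 ∧ (∃ k, z ^ r ^ k = 1) ∧ 𝐂[z] = 𝐂[y] := fun r hr ra => by
    have := Fact.mk hr
    obtain ⟨y0, -, hq, e0⟩ := exists_prime_cen H.hy H.heady
    have y1 : y0 ^ orderOf y0 ^ 1 = 1 := by rw [pow_one, pow_orderOf_eq_one]
    by_cases rq : r = orderOf y0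
    · exact ⟨y0, fun e => hq.one_lt.ne' (orderOf_eq_one_iff.2 e), ⟨1, rq ▸ y1⟩, e0⟩
    obtain ⟨R, hR⟩ := exists_sylow_le_of_not_dvd_index (p := r) (H := 𝐂[y]) fun hb =>
      hr.one_lt.ne' (Nat.eq_one_of_dvd_coprimes H.co ra hb)
    obtain ⟨z, zR, z1, Rz, k, zk⟩ := LemK.cz R.isPGroup'
      (R.ne_bot_of_dvd_card (ra.trans (index_dvd_card _)))
    refine ⟨z, z1, ⟨k, zk⟩, hd z z1 ?_⟩
    have e := cen_mul_of_coprime (mem_cen.1 (e0.ge (hR zR))) (LemK.cop hq hr (Ne.symm rq) zk y1)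
    rw [e0] at e
    by_contra hn
    have := h (z * y0) (e ▸ lt_of_le_of_ne inf_le_right fun e' => hn (e'.ge.trans inf_le_left))
    exact not_dvd_index_of_sylow_le (e.ge.trans' (le_inf Rz hR)) (ra.trans this)
  have s2 : ∀ (g : G) (s j : ℕ), s.Prime → g ∈ 𝐂[y] → g ^ s ^ j = 1 → ¬ 𝐂[y] ≤ 𝐂[g] →
      Nat.card ↥(𝐂[g] ⊓ 𝐂[y]) ∣ Nat.card ↥(𝐂[x] ⊓ 𝐂[y]) := fun g s j hs gK gj hn => by
    obtain ⟨r, hr, rs, ra⟩ := exists_prime_dvd_index hG H.hx s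
    obtain ⟨z, -, ⟨k, zk⟩, e0⟩ := s1 r hr ra
    have e := cen_mul_of_coprime (mem_cen.1 (e0.ge gK)) (LemK.cop hr hs rs gj zk)
    rw [e0] at e
    have h1 := h (g * z) (e ▸ lt_of_le_of_ne inf_le_right fun e' => hn (e'.ge.trans inf_le_left))
    rw [e] at h1
    obtain ⟨c, hc⟩ := H.co.mul_dvd_of_dvd_of_dvd h1 (index_dvd_of_le inf_le_right)
    rw [← index_inf_of_coprime_index _ _ H.co] at hc
    have h2 := card_mul_index (𝐂[g] ⊓ 𝐂[y])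
    rw [hc, ← card_mul_index (𝐂[x] ⊓ 𝐂[y]), mul_comm _ c, ← mul_assoc] at h2
    exact ⟨c, (Nat.eq_of_mul_eq_mul_right (Nat.pos_of_ne_zero FiniteIndex.index_ne_zero) h2).symm⟩
  have s3 : ∀ (g : G) (s j : ℕ), s.Prime → g ∈ 𝐂[y] → g ^ s ^ j = 1 → 𝐂[y] ≤ 𝐂[g] :=
    fun g s j hs gK gj => by
    by_contra hn
    obtain ⟨r, hr, -, ra⟩ := exists_prime_dvd_index hG H.hx s
    have := Fact.mk hr
    obtain ⟨z, z1, ⟨k, zk⟩, e0⟩ := s1 r hr ra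
    have zK : z ∈ 𝐂[y] := e0.le (self_mem_cen z)
    have rz : r ∣ orderOf z := by
      obtain ⟨i, -, hi⟩ := (Nat.dvd_prime_pow hr).1 (orderOf_dvd_of_pow_eq_one zk)
      rcases i with _ | i
      · exact absurd (orderOf_eq_one_iff.1 hi) z1
      · exact hi ▸ dvd_pow_self r i.succ_ne_zero
    have rD : r ∣ Nat.card ↥(𝐂[x] ⊓ 𝐂[y]) := (rz.trans (orderOf_dvd_natCard _
      (show z ∈ 𝐂[g] ⊓ 𝐂[y] from ⟨mem_cen_comm.1 (e0.ge gK), zK⟩))).trans (s2 g s j hs gK gj hn)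
    obtain ⟨E0⟩ : Nonempty (Sylow r ↥(𝐂[x] ⊓ 𝐂[y])) := inferInstance
    set E := (E0 : Subgroup ↥(𝐂[x] ⊓ 𝐂[y])).map (𝐂[x] ⊓ 𝐂[y]).subtype with hE
    have pE : IsPGroup r E := E0.isPGroup'.map _
    have ED : E ≤ 𝐂[x] ⊓ 𝐂[y] := map_subtype_le _
    have cE : Nat.card E = r ^ (Nat.card ↥(𝐂[x] ⊓ 𝐂[y])).factorization r := by
      rw [hE, card_map_of_injective (subtype_injective _), E0.card_eq_multiplicity]
    obtain ⟨w, wE, w1, Ew, i, wi⟩ := LemK.cz pE fun e =>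
      E0.ne_bot_of_dvd_card rD ((map_eq_bot_iff_of_injective _ (subtype_injective _)).1 e)
    have h1 := s2 w r i hr (ED wE).2 wi fun le => nc w w1 (hd w w1 le) (ED wE).1
    have pF : IsPGroup r ↥(E ⊔ zpowers z) := pE.to_sup_of_normal_right' (isPGroup_zpowers zk)
      ((ED.trans (inf_le_right.trans (e0.ge.trans (cen_zpowers z).ge))).trans
        (centralizer_le_normalizer _))
    obtain ⟨m, hm⟩ := pF.exists_card_eq
    have h2 : r ^ m ∣ Nat.card ↥(𝐂[x] ⊓ 𝐂[y]) := hm ▸ (card_dvd_of_le (sup_le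
      (le_inf Ew (ED.trans inf_le_right))
      (zpowers_le.2 ⟨mem_cen_comm.1 (e0.ge (ED wE).2), zK⟩))).trans h1
    have h3 := eq_of_le_of_card_ge (le_sup_left : E ≤ E ⊔ zpowers z) (by
      rw [hm, cE]
      exact Nat.pow_le_pow_right hr.pos ((hr.pow_dvd_iff_le_factorization Nat.card_pos.ne').1 h2))
    exact nc z z1 e0 (ED (h3.ge (le_sup_right (a := E) (mem_zpowers z)))).1
  refine fun v vK v1 => hd v v1 fun w wK => mem_cen_comm.1 (mem_of_forall_primePow_mem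
    fun u hu q j hq uj => mem_cen_comm.1 (s3 u q j hq (zpowers_le.2 vK hu) uj wK))

end CL.I5
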