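import Mathlib
import Cfsg.Agent.PERM.I5.Defs
import Cfsg.Agent.SOLV.OddOrderCor

set_option autoImplicit false
set_option linter.unusedSectionVars false

namespace CL.I5

open Subgroup Cfsg CL.CS CL.Ito

variable {G : Type*} [Group G] [Finite G]

namespace Nil

variable {a a' u s : ℕ}

theorem pos (H : KS G a a' u s) : 0 < a := H.odd.pos

theorem lt (H : KS G a a' u s) : a' < a := by
  obtain ⟨k, hk, e⟩ := H.pow
  have h0 := pos H
  have h1 : 0 < a' := Nat.pos_of_ne_zero fun h => by rw [h, zero_mul] at e; omega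
  have h2 : 1 < u ^ k := Nat.one_lt_pow hk.ne' H.hu.one_lt
  nlinarith

theorem ua (H : KS G a a' u s) : u ∣ a := by
  obtain ⟨k, hk, e⟩ := H.pow
  exact e ▸ (dvd_pow_self u hk.ne').mul_left _

theorem not_dvd_index (H : KS G a a' u s) {K : Subgroup G} (hK : Nat.card K = a) {p : ℕ}
    (hp : p.Prime) (hd : p ∣ a) : ¬ p ∣ K.index := fun h => by
  have e : Nat.card G / a = K.index := by
    rw [← K.card_mul_index, hK, Nat.mul_div_cancel_left _ (pos H)]
  exact hp.one_lt.ne' (Nat.eq_one_of_dvd_coprimes H.hall hd (e ▸ h))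

theorem dvd_index (H : KS G a a' u s) {K : Subgroup G} (hK : Nat.card K = a') : u ∣ K.index := by
  obtain ⟨k, hk, e⟩ := H.pow
  obtain ⟨m, hm⟩ := H.dvd
  have h1 : 0 < a' := hK ▸ Nat.card_pos
  have : K.index = u ^ k * m := Nat.eq_of_mul_eq_mul_left h1 (by
    rw [← mul_assoc, ← e, ← hm, ← hK, card_mul_index])
  exact this ▸ (dvd_pow_self u hk.ne').mul_right _

theorem size' (H : KS G a a' u s) {K : Subgroup G} (hK : Nat.card K = a) {g x : G} (hg : g ≠ 1)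
    (hx : x ≠ 1) (hxK : x ∈ K) (hc : x ∈ 𝐂[g]) : Nat.card 𝐂[g] = a ∨ Nat.card 𝐂[g] = a' :=
  H.size g hg fun h => hx (orderOf_eq_one_iff.1 (Nat.eq_one_of_dvd_coprimes h
    (orderOf_dvd_natCard _ hc) (hK ▸ orderOf_dvd_natCard _ hxK)))

theorem eq_of_le (H : KS G a a' u s) {K : Subgroup G} (hK : Nat.card K = a) {g : G} (hg : g ≠ 1)
    (hgK : g ∈ K) (hle : K ≤ 𝐂[g]) : 𝐂[g] = K := by
  have h1 := card_le_of_le hle
  have h2 := lt H
  rcases size' H hK hg hg hgK (self_mem_cen g) with e | e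
  · exact (eq_of_le_of_card_ge hle (by omega)).symm
  · omega

theorem size_inf (H : KS G a a' u s) {h g : G} (h1 : h ≠ 1) (ha : Nat.card 𝐂[h] = a)
    (hg : g ∈ 𝐂[h]) (co : (orderOf g).Coprime (orderOf h)) :
    Nat.card ↥(𝐂[g] ⊓ 𝐂[h]) = a ∨ Nat.card ↥(𝐂[g] ⊓ 𝐂[h]) = a' := by
  have hc := mem_cen.1 hg
  rw [← cen_mul_of_coprime hc co]
  refine size' H ha (fun e => h1 ?_) h1 (self_mem_cen h) (mem_cen.2 (hc.symm.mul_right (.refl h)))
  rw [eq_inv_of_mul_eq_one_left e, orderOf_inv, Nat.coprime_self] at co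
  exact orderOf_eq_one_iff.1 co

omit [Finite G] in
theorem cop {x y : G} {p q j k : ℕ} (hp : p.Prime) (hq : q.Prime) (hpq : p ≠ q) (hx : x ^ p ^ j = 1)
    (hy : y ^ q ^ k = 1) : (orderOf x).Coprime (orderOf y) :=
  (Nat.Coprime.pow j k ((Nat.coprime_primes hp hq).2 hpq)).coprime_dvd_left
    (orderOf_dvd_of_pow_eq_one hx) |>.coprime_dvd_right (orderOf_dvd_of_pow_eq_one hy)

theorem exists_cent {p : ℕ} [Fact p.Prime] (P : Sylow p G) (hd : p ∣ Nat.card G) :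
    ∃ z ∈ (P : Subgroup G), z ≠ 1 ∧ (P : Subgroup G) ≤ 𝐂[z] := by
  have : Nontrivial (P : Subgroup G) := (nontrivial_iff_ne_bot _).2 (P.ne_bot_of_dvd_card hd)
  have : Nontrivial (center (P : Subgroup G)) := P.2.center_nontrivial
  obtain ⟨⟨z, hz⟩, h1⟩ := exists_ne (1 : center (P : Subgroup G))
  refine ⟨z, z.2, fun e => h1 (Subtype.ext (Subtype.ext e)), fun y hy => mem_cen.2 ?_⟩
  exact congrArg Subtype.val (mem_center_iff.1 hz ⟨y, hy⟩)

/-- elements central in a Sylow `u`-subgroup of `K = C(h)` have centralizer `K` -/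
theorem cen_z (H : KS G a a' u s) {h : G} (h1 : h ≠ 1) (hu : (orderOf h).Coprime u)
    (ha : Nat.card 𝐂[h] = a) [Fact u.Prime] {U : Sylow u G} (hU : (U : Subgroup G) ≤ 𝐂[h]) {z : G}
    (hz : z ∈ (U : Subgroup G)) (z1 : z ≠ 1) (hc : (U : Subgroup G) ≤ 𝐂[z]) : 𝐂[z] = 𝐂[h] := by
  obtain ⟨k, hk⟩ := U.2 ⟨z, hz⟩
  have hk' : z ^ u ^ k = 1 := congrArg Subtype.val hk
  rcases size_inf H h1 ha (hU hz) (((hu.pow_right k).coprime_dvd_right
    (orderOf_dvd_of_pow_eq_one hk')).symm) with e | e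
  · exact eq_of_le H ha z1 (hU hz)
      ((eq_of_le_of_card_ge (inf_le_right : 𝐂[z] ⊓ 𝐂[h] ≤ 𝐂[h]) (by omega)).ge.trans inf_le_left)
  · exact absurd (dvd_index H e) (not_dvd_index_of_sylow_le (le_inf hc hU))

/-- all `w`-elements of `K`, `w ≠ u`, are central in `K` -/
theorem central (H : KS G a a' u s) {h : G} (h1 : h ≠ 1) (hu : (orderOf h).Coprime u)
    (ha : Nat.card 𝐂[h] = a) (w : ℕ) (y : 𝐂[h]) (j : ℕ) (hw : w.Prime) (hwu : w ≠ u)
    (hy : y ^ w ^ j = 1) : y ∈ center 𝐂[h] := by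
  have := Fact.mk H.hu
  obtain ⟨U, hU⟩ := exists_sylow_le_of_not_dvd_index (not_dvd_index H ha H.hu (ua H))
  obtain ⟨z, hz, z1, hc⟩ := exists_cent U ((ua H).trans H.dvd)
  have ez := cen_z H h1 hu ha hU hz z1 hc
  obtain ⟨i, hi⟩ := U.2 ⟨z, hz⟩
  have hi' : z ^ u ^ i = 1 := congrArg Subtype.val hi
  obtain ⟨q, hq, hd⟩ := Nat.exists_prime_and_dvd (mt orderOf_eq_one_iff.1 h1)
  have o := orderOf_pow_orderOf_div (orderOf_pos h).ne' hd
  have h0 : h ^ (orderOf h / q) ≠ 1 := fun e => hq.one_lt.ne' (by rw [← o, e, orderOf_one])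
  have eh := eq_of_le H ha h0 (pow_mem (self_mem_cen h) _) (cen_le_cen_pow h _)
  have hq1 : (h ^ (orderOf h / q)) ^ q ^ 1 = 1 := by
    rw [pow_one]; exact orderOf_dvd_iff_pow_eq_one.1 o.dvd
  have qu : q ≠ u := fun e => hq.one_lt.ne' (Nat.eq_one_of_dvd_coprimes hu hd e.dvd)
  obtain ⟨k, hk, e⟩ := H.pow
  have := isSolvable_of_odd 𝐂[h] (ha ▸ H.odd)
  have key : ∀ (r : ℕ) (x : 𝐂[h]) (l : ℕ), r.Prime → x ^ r ^ l = 1 → x ∉ center 𝐂[h] →
      (𝐂[x]).index = u ^ k := by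
    intro r x l hr hx hZ
    have hx' : (x : G) ^ r ^ l = 1 := congrArg Subtype.val hx
    have hs : Nat.card ↥(𝐂[(x : G)] ⊓ 𝐂[h]) = a ∨ Nat.card ↥(𝐂[(x : G)] ⊓ 𝐂[h]) = a' := by
      by_cases hrq : r = q
      · have := size_inf H z1 (ez ▸ ha) (ez.ge x.2) (cop hr H.hu (hrq ▸ qu) hx' hi')
        rwa [ez] at this
      · have := size_inf H h0 (eh ▸ ha) (eh.ge x.2) (cop hr hq hrq hx' hq1)
        rwa [eh] at this
    rw [← card_cen_subgroup] at hs
    have hm := (𝐂[x]).card_mul_index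
    rw [ha] at hm
    rcases hs with f | f
    · rw [f] at hm
      exact absurd (index_cen_eq_one_iff.1 (Nat.eq_of_mul_eq_mul_left (pos H) (by omega))) hZ
    · exact Nat.eq_of_mul_eq_mul_left (f ▸ Nat.card_pos : 0 < a') (by rw [← e, ← hm, f])
  obtain ⟨u0, hu0, hall⟩ := exists_prime_of_isSolvable key
  by_contra hZ
  obtain rfl : w = u0 := by_contra fun f => hZ (hall w y j hw f hy)
  obtain ⟨m, hm⟩ := index_eq_pow_of_forall (u := w) (H := 𝐂[y]) fun w' y' k' h1 h2 h3 =>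
    center_le_cen _ (hall w' y' k' h1 h2 h3)
  rw [key w y j hw hy hZ] at hm
  exact hwu ((Nat.prime_dvd_prime_iff_eq H.hu hw).1
    (H.hu.dvd_of_dvd_pow (hm ▸ dvd_pow_self u hk.ne'))).symm

end Nil

open Nil in
theorem KS.nilpotent {a a' u s : ℕ} (H : KS G a a' u s) {h : G} (h1 : h ≠ 1)
    (hu : (orderOf h).Coprime u) (ha : Nat.card 𝐂[h] = a) :
    ∃ K : Subgroup G, Nat.card K = a ∧ Group.IsNilpotent K ∧ (∀ k ∈ K, k ≠ 1 → 𝐂[k] ≤ K) ∧
      IsTISubset (K : Set G) := by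
  have := Fact.mk H.hu
  have := Fact.mk H.hs
  have cen : ∀ (w : ℕ) (y : G) (j : ℕ), w.Prime → w ≠ u → y ^ w ^ j = 1 → y ∈ 𝐂[h] → y ≠ 1 →
      𝐂[y] = 𝐂[h] := fun w y j hw hwu hy hK y1 => eq_of_le H ha y1 hK fun x hx => mem_cen.2
    (congrArg Subtype.val (mem_center_iff.1
      (central H h1 hu ha w ⟨y, hK⟩ j hw hwu (Subtype.ext hy)) ⟨x, hx⟩))
  obtain ⟨L, hL⟩ := exists_sylow_le_of_not_dvd_index (not_dvd_index H ha H.hs H.sa)
  obtain ⟨l, hl, l1, -⟩ := exists_cent L (H.sa.trans H.dvd)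
  obtain ⟨i, hi⟩ := L.2 ⟨l, hl⟩
  have hi' : l ^ s ^ i = 1 := congrArg Subtype.val hi
  have el := cen s l i H.hs H.su hi' (hL hl) l1
  have cj : ∀ g : G, g * l * g⁻¹ ∈ 𝐂[h] → 𝐂[g * l * g⁻¹] = 𝐂[h] := fun g hg =>
    cen s _ i H.hs H.su (by rw [conj_pow, hi']; simp) hg (by simpa using l1)
  have main : ∀ v ∈ 𝐂[h], v ≠ 1 → 𝐂[v] ≤ 𝐂[h] := by
    intro v hv v1
    by_cases hp : ∃ p : ℕ, p.Prime ∧ p ≠ u ∧ p ∣ orderOf v
    · obtain ⟨p, hp, hpu, hd⟩ := hp
      have o := orderOf_pow_orderOf_div (orderOf_pos v).ne' hd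
      exact (cen_le_cen_pow v (orderOf v / p)).trans (cen p _ 1 hp hpu
        (by rw [pow_one]; exact orderOf_dvd_iff_pow_eq_one.1 o.dvd) (pow_mem hv _) fun e => hp.one_lt.ne' (by rw [← o, e, orderOf_one])).le
    have o := Nat.eq_prime_pow_of_unique_prime_dvd (p := u) (orderOf_pos v).ne'
      fun {d} h1 h2 => by_contra fun e => hp ⟨d, h1, e, h2⟩
    have hv' := pow_orderOf_eq_one v
    rw [o] at hv'
    rcases size' H ha v1 v1 hv (self_mem_cen v) with e | e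
    · obtain ⟨U', h2, h3⟩ := exists_sylow_le_of_not_dvd_index' (not_dvd_index H e H.hu (ua H))
        (isPGroup_zpowers hv') (zpowers_le_cen v)
      obtain ⟨U, hU⟩ := exists_sylow_le_of_not_dvd_index (not_dvd_index H ha H.hu (ua H))
      obtain ⟨g, rfl⟩ := MulAction.exists_smul_eq G U' U
      have e1 : 𝐂[g * v * g⁻¹] = 𝐂[h] := cen_z H h1 hu ha hU
        (smul_mem_pointwise_smul v (MulAut.conj g) _ (h2 (mem_zpowers v))) (by simpa using v1)
        (by rw [cen_conj]; exact pointwise_smul_le_pointwise_smul_iff.2 h3)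
      have e2 := cj g (by
        rw [← e1, cen_conj]
        exact smul_mem_pointwise_smul l (MulAut.conj g) _ (mem_cen_comm.1 (el.ge hv)))
      rw [← e1, cen_conj, cen_conj] at e2
      exact (pointwise_smul_le_pointwise_smul_iff.1 e2.ge).trans el.le
    · have h2 := size_inf H l1 (el ▸ ha) (el.ge hv) (cop H.hu H.hs H.su.symm hv' hi')
      have h3 := card_le_of_le (inf_le_left : 𝐂[v] ⊓ 𝐂[l] ≤ 𝐂[v])
      have h4 := lt H
      exact ((eq_of_le_of_card_ge (inf_le_left : 𝐂[v] ⊓ 𝐂[l] ≤ 𝐂[v]) (by omega)).ge.trans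
        inf_le_right).trans el.le
  refine ⟨𝐂[h], ha, ?_, main, fun g hg x hx hgx => by_contra fun x1 => hg ?_⟩
  · obtain ⟨m, hm⟩ := index_eq_pow_of_forall (u := u) (H := center 𝐂[h]) (central H h1 hu ha)
    have : IsPGroup u (𝐂[h] ⧸ center 𝐂[h]) := .of_card hm
    exact Group.of_quotient_center_nilpotent this.isNilpotent
  · have e := cj g (main _ hgx (by simpa using x1) (by
      rw [cen_conj]
      exact smul_mem_pointwise_smul l (MulAut.conj g) _ (mem_cen_comm.1 (el.ge hx))))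
    rw [cen_conj, el] at e
    exact conj_smul_eq_iff_mem_normalizer.1 e

end CL.I5
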