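import Mathlib
import Cfsg.Agent.PERM.I5.Defs

set_option autoImplicit false
set_option linter.unusedSectionVars false

namespace CL.I5

open Subgroup Cfsg CL.CS CL.Ito

variable {G : Type*} [Group G] [Finite G]

namespace Rl

/-- a `p`-element is conjugate into a subgroup of index prime to `p` -/
theorem conj_mem {p : ℕ} (hp : p.Prime) {K : Subgroup G} (h : ¬ p ∣ K.index) {u : G} (hu : u ^ p = 1) :
    ∃ g : G, g * u * g⁻¹ ∈ K := by
  have := Fact.mk hp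
  obtain ⟨P, hP⟩ := exists_sylow_le_of_not_dvd_index h
  obtain ⟨Q, hQ⟩ := (IsPGroup.of_card_dvd_pow (G := zpowers u) (p := p) (n := 1)
    (by rw [Nat.card_zpowers, pow_one]; exact orderOf_dvd_of_pow_eq_one hu)).exists_le_sylow
  obtain ⟨g, rfl⟩ := MulAction.exists_smul_eq G Q P
  exact ⟨g, hP (smul_mem_pointwise_smul _ (MulAut.conj g) _ (hQ (mem_zpowers u)))⟩

theorem eq_one {K L : Subgroup G} (h : (Nat.card K).Coprime (Nat.card L)) {k : G} (a : k ∈ K) (b : k ∈ L) : k = 1 :=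
  disjoint_def.1 (disjoint_of_coprime_natCard h) a b

theorem sq {K : Subgroup G} (h : Odd (Nat.card K)) {k : G} (a : k ∈ K) (e : k * k = 1) : k = 1 :=
  orderOf_eq_one_iff.1 (Nat.eq_one_of_dvd_coprimes (Nat.coprime_two_left.2 h)
    (orderOf_dvd_of_pow_eq_one (by rwa [pow_two])) (K.orderOf_dvd_natCard a))

variable {a : ℕ} (ho : Odd a) (F : ∀ g : G, g ≠ 1 → ¬ (Nat.card 𝐂[g]).Coprime a → Nat.card 𝐂[g] ∣ a)
include ho F

theorem invs {j w : G} (j2 : j * j = 1) (w1 : w ≠ 1) (c : ¬ (Nat.card 𝐂[w]).Coprime a) (e : j * w * j⁻¹ = w⁻¹) :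
    ∀ k ∈ 𝐂[w], j * k * j⁻¹ = k⁻¹ := by
  have d := F w w1 c
  have j1 : j ≠ 1 := by
    rintro rfl
    exact w1 (sq (ho.of_dvd_nat d) (mem_cen.2 (Commute.refl w)) (by simpa [← eq_inv_iff_mul_eq_one] using e))
  have cj : (Nat.card 𝐂[j]).Coprime a := by_contra fun h =>
    j1 (sq (ho.of_dvd_nat (F j j1 h)) (mem_cen.2 (Commute.refl j)) j2)
  let φ : 𝐂[w] →* 𝐂[w] := ((MulAut.conj j).toMonoidHom.comp (𝐂[w]).subtype).codRestrict 𝐂[w] fun k => mem_cen.2 (by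
    have := (mem_cen.1 k.2).conj j
    rw [e] at this
    exact Commute.inv_right_iff.1 this)
  have := MonoidHom.FixedPointFree.coe_eq_inv_of_involutive (φ := φ)
    (fun k hk => Subtype.ext (eq_one (cj.coprime_dvd_right d)
      (mem_cen.2 (mul_inv_eq_iff_eq_mul.1 (congrArg Subtype.val hk)).symm) k.2))
    fun k => Subtype.ext (show j * (j * k * j⁻¹) * j⁻¹ = k by
      rw [show j * (j * k * j⁻¹) * j⁻¹ = j * j * k * (j * j)⁻¹ by group, j2]; simp)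
  exact fun k hk => congrArg Subtype.val (congrFun this ⟨k, hk⟩)

theorem nc {v w : G} (v1 : v ≠ 1) (c : ¬ (Nat.card 𝐂[v]).Coprime a) (hw : w ∈ 𝐂[v]) (w1 : w ≠ 1) :
    ¬ (Nat.card 𝐂[w]).Coprime a := fun h =>
  w1 (eq_one (h.coprime_dvd_right (F v v1 c)) (mem_cen.2 (Commute.refl w)) hw)

theorem cen_eq {j v : G} (j2 : j * j = 1) (v1 : v ≠ 1) (c : ¬ (Nat.card 𝐂[v]).Coprime a) (e : j * v * j⁻¹ = v⁻¹)
    {w : G} (hw : w ∈ 𝐂[v]) (w1 : w ≠ 1) : 𝐂[w] = 𝐂[v] := by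
  have ab : ∀ {w : G}, w ≠ 1 → ¬ (Nat.card 𝐂[w]).Coprime a → j * w * j⁻¹ = w⁻¹ → ∀ l ∈ 𝐂[w], 𝐂[w] ≤ 𝐂[l] :=
    fun {w} w1 c e l hl k hk => mem_cen.2 (inv_injective (by
      have i := invs ho F j2 w1 c e
      rw [← i _ (mul_mem hk hl), mul_inv_rev, ← i k hk, ← i l hl]; group))
  exact le_antisymm (ab w1 (nc ho F v1 c hw w1) (invs ho F j2 v1 c e w hw) v (mem_cen.2 (mem_cen.1 hw).symm))
    (ab v1 c e w hw)

end Rl

open Rl in
/-- a = idx x = |C(y)| odd, b = idx y = |C(x)|. For g ≠ 1, `dv` says |C(g)| ∣ b or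
|C(g)| ∣ a; so if |C(g)| is not prime to a it divides a (odd). v = g⁻¹-inverted: j = g ^ n (n the odd order of
g²) is an involution inverting v. j has no fixed point ≠ 1 in B = C(v), so it inverts B, B is abelian, and the same
holds for w ∈ B, w ≠ 1: C(w) = B. r ∣ |B| prime: B contains a Sylow r-subgroup R of G (Z(R) ≤ C(w) = B,
R ≤ C(z) = B); r ∤ b, so y centralizes a conjugate of R, C(y) is a conjugate of B. One: an involution j' of T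
inverts a conjugate K' of C(y), G = K' C(x), g = k m, j' commutes with x and k x k⁻¹, so
k⁻¹ j' k j'⁻¹ ∈ C(x) ⊓ K' = 1, k⁻² = 1, k = 1. -/
theorem free_of_real {x y : G} (H : TH x y) (hx : Nat.card 𝐂[y] = (𝐂[x]).index)
    (hodd : Odd (𝐂[x]).index) {v : G} (hv : v ≠ 1) (hva : ¬ (Nat.card 𝐂[v]).Coprime (𝐂[x]).index)
    (hr : IsConj v v⁻¹) : (∀ w ∈ 𝐂[y], w ≠ 1 → 𝐂[w] = 𝐂[y]) ∧ One x := by
  have n1 := (𝐂[x]).index_mul_card
  have n2 := (𝐂[y]).index_mul_card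
  have hb : Nat.card 𝐂[x] = (𝐂[y]).index :=
    Nat.eq_of_mul_eq_mul_left hodd.pos (by rw [n1, ← n2, hx, mul_comm])
  have F : ∀ g : G, g ≠ 1 → ¬ (Nat.card 𝐂[g]).Coprime (𝐂[x]).index → Nat.card 𝐂[g] ∣ (𝐂[x]).index := fun g g1 c => by
    have n3 := (𝐂[g]).index_mul_card
    rcases H.dv g g1 with ⟨d, e⟩ | ⟨d, e⟩
    · rw [e, ← n1, mul_assoc, hb] at n3
      exact absurd (H.co.symm.coprime_dvd_left (Dvd.intro_left d (Nat.eq_of_mul_eq_mul_left hodd.pos n3))) c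
    · rw [e, ← n2, mul_assoc, hx] at n3
      exact Dvd.intro_left d (Nat.eq_of_mul_eq_mul_left (Nat.pos_of_ne_zero FiniteIndex.index_ne_zero) n3)
  have oB := hodd.of_dvd_nat (F v hv hva)
  obtain ⟨j, j2, e⟩ : ∃ j : G, j * j = 1 ∧ j * v * j⁻¹ = v⁻¹ := by
    obtain ⟨g, hg⟩ := isConj_iff.1 hr
    have g2 : g * g ∈ 𝐂[v] := mem_cen.2 (mul_inv_eq_iff_eq_mul.1 (by
      rw [show g * g * v * (g * g)⁻¹ = g * (g * v * g⁻¹) * g⁻¹ by group, hg, ← conj_inv, hg, inv_inv]))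
    obtain ⟨n, hn⟩ := oB
    refine ⟨g * (g * g) ^ n, ?_, ?_⟩
    · rw [← pow_two g, ← pow_mul, ← pow_succ', ← pow_add, ← two_mul, pow_mul, pow_two, ← hn]
      exact congrArg Subtype.val (pow_card_eq_one' (x := (⟨_, g2⟩ : 𝐂[v])))
    · rw [mul_inv_rev, ← mul_assoc, mul_assoc g _ v, ((mem_cen.1 g2).pow_left n).eq, ← mul_assoc, mul_inv_cancel_right, hg]
  obtain ⟨r, hr, dr⟩ := Nat.exists_prime_and_dvd (mt orderOf_eq_one_iff.1 hv)
  have o := orderOf_pow_orderOf_div (orderOf_pos v).ne' dr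
  have ra : r ∣ (𝐂[x]).index := dr.trans (((𝐂[v]).orderOf_dvd_natCard (mem_cen.2 (Commute.refl v))).trans (F v hv hva))
  obtain ⟨g, hg⟩ := conj_mem hr (K := 𝐂[y]) (fun d => hr.one_lt.ne' (Nat.eq_one_of_dvd_coprimes H.co ra d))
    (orderOf_dvd_iff_pow_eq_one.1 o.dvd)
  have e' : j * v ^ (orderOf v / r) * j⁻¹ = (v ^ (orderOf v / r))⁻¹ := by rw [← conj_pow, e, inv_pow]
  generalize v ^ (orderOf v / r) = u at o hg e'
  have cy : ∀ h : G, Nat.card 𝐂[h * y * h⁻¹] = (𝐂[x]).index ∧ (𝐂[h * y * h⁻¹]).index = (𝐂[y]).index := fun h => by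
    have i : (𝐂[h * y * h⁻¹]).index = (𝐂[y]).index := index_cen_equiv (MulAut.conj h) y
    exact ⟨Nat.eq_of_mul_eq_mul_left (Nat.pos_of_ne_zero FiniteIndex.index_ne_zero)
      (by rw [← i, index_mul_card, i, ← hx, n2]), i⟩
  have c : ¬ (Nat.card 𝐂[y]).Coprime (𝐂[x]).index := fun h =>
    hr.one_lt.ne' (Nat.eq_one_of_dvd_coprimes h (hx ▸ ra) ra)
  have u1 : g * u * g⁻¹ ≠ 1 := fun h => hr.one_lt.ne' (by rw [← o, conj_eq_one_iff.1 h, orderOf_one])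
  have j2' : ∀ h : G, h * j * h⁻¹ * (h * j * h⁻¹) = 1 := fun h => by rw [conj_mul, j2]; simp
  have cu := nc hodd F H.hy c hg u1
  have eu : g * j * g⁻¹ * (g * u * g⁻¹) * (g * j * g⁻¹)⁻¹ = (g * u * g⁻¹)⁻¹ := by rw [conj_inv, conj_inv, ← e']; group
  have yu := mem_cen.2 (mem_cen.1 hg).symm
  have ey := invs hodd F (j2' g) u1 cu eu y yu
  refine ⟨fun w hw w1 => cen_eq hodd F (j2' g) H.hy c ey hw w1, fun T m t1 t2 => ?_⟩
  obtain ⟨h, hh⟩ := conj_mem Nat.prime_two T.not_dvd_index (u := g * j * g⁻¹) (by rw [pow_two, j2'])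
  obtain ⟨k, hk, l, hl, rfl⟩ := exists_mul_eq_of_coprime_index 𝐂[h * y * h⁻¹] 𝐂[x] ((cy h).2 ▸ H.co.symm) m
  have i := invs hodd F (j := h * (g * j * g⁻¹) * h⁻¹) (w := h * y * h⁻¹) (by rw [conj_mul, j2']; simp)
    (mt conj_eq_one_iff.1 H.hy) (by rw [(cy h).1]; rwa [hx] at c) (by rw [conj_inv, conj_inv (a := y), ← ey]; group) k hk
  generalize h * (g * j * g⁻¹) * h⁻¹ = t at hh i
  have q1 := (mem_cen.1 (t2 hh)).conj k⁻¹
  rw [show k⁻¹ * (k * l * x * (k * l)⁻¹) * k⁻¹⁻¹ = l * x * l⁻¹ by group, (mem_cen.1 hl).eq, mul_inv_cancel_right] at q1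
  have q2 := mul_mem (mem_cen.2 q1) (inv_mem (t1 hh))
  rw [show k⁻¹ * t * k⁻¹⁻¹ * t⁻¹ = k⁻¹ * (t * k * t⁻¹) by group, i] at q2
  have q3 := sq ((cy h).1 ▸ hodd) (inv_mem hk) (eq_one (by rw [(cy h).1, hb]; exact H.co) (mul_mem (inv_mem hk) (inv_mem hk)) q2)
  rwa [inv_eq_one.1 q3, one_mul]

end CL.I5
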