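import Mathlib
import Cfsg.Agent.PERM.I5.Defs
import Cfsg.Agent.CHAR.TIFN
import Cfsg.Agent.CHAR.FrobKernel
import Cfsg.Agent.CHAR.BrauerPerm
import Cfsg.Agent.S1534

set_option autoImplicit false

namespace CL.I5

open Subgroup Cfsg CL.CS CL.Ito CL.Char

variable {G : Type*} [Group G] [Finite G]

theorem YCoh.lt [IsSimpleGroup G] (hG : ¬ IsMulCommutative G) {K : Subgroup G}
    (hK1 : K ≠ ⊥) (hnil : Group.IsNilpotent K) (hTI : IsTISubset (K : Set G)) :
    K < normalizer (K : Set G) := by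
  refine lt_of_le_of_ne le_normalizer fun e => ?_
  obtain ⟨M, hM, hmem, hc⟩ := frobenius_kernel K (fun g hg => hTI g (e ▸ hg))
  rcases hM.eq_bot_or_eq_top with h | h
  · have hK : K = ⊤ := by
      have := hc.sup_eq_top
      rwa [h, bot_sup_eq] at this
    subst hK
    have : Group.IsNilpotent G := nilpotent_of_mulEquiv (topEquiv (G := G))
    exact hG ⟨⟨IsSimpleGroup.comm_iff_isSolvable.2 inferInstance⟩⟩
  · have := hc.disjoint
    rw [h, top_disjoint] at this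
    exact hK1 this

theorem YCoh.odd {K : Subgroup G} (hK1 : K ≠ ⊥) (hC : ∀ k ∈ K, k ≠ 1 → 𝐂[k] ≤ K)
    (hodd : Odd (Nat.card K)) (hnr : ∀ k ∈ K, k ≠ 1 → ¬ IsConj k k⁻¹) :
    Odd (Nat.card (normalizer (K : Set G))) := by
  rw [← Nat.not_even_iff_odd, even_iff_two_dvd]
  intro h2
  obtain ⟨j, hj⟩ := exists_prime_orderOf_dvd_card' 2 h2
  have hjo : orderOf (j : G) = 2 := by rw [orderOf_coe, hj]
  have hjj : (j : G) * j = 1 := by rw [← sq, ← hjo, pow_orderOf_eq_one]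
  have hji : (j : G)⁻¹ = j := inv_eq_of_mul_eq_one_right hjj
  obtain ⟨k, hk, hk1⟩ := (ne_bot_iff_exists_ne_one.1 hK1).imp
    (fun (k : K) (h : k ≠ 1) => (⟨k.2, fun e => h (Subtype.ext e)⟩ : (k : G) ∈ K ∧ (k : G) ≠ 1))
  have hm : (k : G)⁻¹ * (j * k * (j : G)⁻¹) ∈ K :=
    K.mul_mem (K.inv_mem hk) ((mem_normalizer_iff.1 j.2 _).1 hk)
  refine hnr _ hm (fun e => ?_) (isConj_iff.2 ⟨j, ?_⟩)
  · have hjK : (j : G) ∈ K := hC _ hk hk1 (mem_centralizer_singleton_iff.2 (by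
      have : (j : G) * k * (j : G)⁻¹ = k := (inv_mul_eq_one.1 e).symm
      exact mul_inv_eq_iff_eq_mul.1 this))
    have := orderOf_dvd_natCard K hjK
    rw [hjo] at this
    exact (Nat.not_even_iff_odd.2 hodd) (even_iff_two_dvd.2 this)
  · have : (j : G) * ((k : G)⁻¹ * (j * k * (j : G)⁻¹)) * (j : G)⁻¹ =
        j * (k : G)⁻¹ * (j : G)⁻¹ * ((j * j) * k * ((j : G) * j)⁻¹) := by group
    rw [this, hjj]
    group

theorem const_of_real [Fintype G] [IsSimpleGroup G] (hG : ¬ IsMulCommutative G) {K : Subgroup G}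
    (hK1 : K ≠ ⊥) (hnil : Group.IsNilpotent K) (hC : ∀ k ∈ K, k ≠ 1 → 𝐂[k] ≤ K)
    (hTI : IsTISubset (K : Set G)) (hodd : Odd (Nat.card K))
    (hnr : ∀ k ∈ K, k ≠ 1 → ¬ IsConj k k⁻¹) {ψ : G → ℂ} (hψ : IsIrrCharacter G ψ)
    (hr : ∀ g, (starRingEnd ℂ) (ψ g) = ψ g) : ∀ k ∈ K, ∀ l ∈ K, k ≠ 1 → l ≠ 1 → ψ k = ψ l := by
  classical
  have hlt := YCoh.lt hG hK1 hnil hTI
  have hN := YCoh.odd hK1 hC hodd hnr
  let _ : Fintype (normalizer (K : Set G)) := Fintype.ofFinite _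
  rcases Cfsg.Agent.S1534.result K hK1 hnil hTI hlt hC with ⟨-, h, -⟩ | ⟨h, -⟩ | ⟨-, star, h1, h2⟩
  · have := Odd.of_dvd_nat hN (index_dvd_card (K.subgroupOf (normalizer (K : Set G))))
    rw [h] at hodd
    exact absurd hodd (Nat.not_odd_iff_even.2 this.add_one)
  · rcases Nat.eq_zero_or_pos ((Nat.card G).factorization 2) with e | e
    · rw [e, pow_zero] at h
      exact absurd (eq_bot_of_card_eq K h) hK1
    · rw [h] at hodd
      exact absurd hodd (Nat.not_odd_iff_even.2 (even_two.pow_of_ne_zero e.ne'))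
  have D : TIFNData (normalizer (K : Set G)) K _ star :=
    ⟨le_normalizer, normal_in_normalizer, hTI, hC, fun _ => Iff.rfl, h1, h2⟩
  intro k hk l hl hk1 hl1
  refine D.const_of_orth hψ.isClassFunction (fun χ hχ => ?_) hk hl hk1 hl1
  obtain ⟨hi, x, hx, hx'⟩ := id hχ
  obtain ⟨d, -, hd⟩ := hi.exists_pos_degree
  have e1 : (starRingEnd ℂ) (χ 1) = χ 1 := by rw [hd, map_natCast]
  have hξ := (D.mem (fun g => (starRingEnd ℂ) (χ g))).2
    ⟨hi.conj, x, hx, fun e => hx' ((starRingEnd ℂ).injective e)⟩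
  have hne : (fun g => (starRingEnd ℂ) (χ g)) ≠ χ :=
    hi.conj_ne_of_odd hN (fun e => hx' (by rw [e]))
  have hres := D.inner_res hχ hξ hψ.isClassFunction
  obtain ⟨t, ht⟩ := (hψ.isCharacter.res (normalizer (K : Set G))).exists_nat_inner hi.isCharacter
  have e2 : classInner (fun x : normalizer (K : Set G) => ψ x)
      (fun g => (starRingEnd ℂ) (χ g)) = t := by
    have := classInner_conj_conj (fun x : normalizer (K : Set G) => ψ x) χ
    simp only [hr] at this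
    rw [this, ht, map_natCast]
  rw [e2, ht, e1, sub_self, ← mul_sub] at hres
  have e3 := sub_eq_zero.1 ((mul_eq_zero.1 hres.symm).resolve_left hi.one_ne_zero)
  have e4 := (D.inner hχ hξ).trans (hi.inner_of_ne hi.conj hne.symm)
  rcases (D.isGen hχ).irr_or_neg_irr (by rw [D.inner hχ hχ, hi.inner_self]) with h | h
  · by_cases e : ψ = star χ
    · rw [e3, e, e4]
    · exact hψ.inner_of_ne h e
  · by_cases e : ψ = -star χ
    · rw [e3, e, classInner_neg_left, e4, neg_zero]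
    · have := hψ.inner_of_ne h e
      rwa [classInner_neg_right, neg_eq_zero] at this

end CL.I5
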