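import Mathlib
import Cfsg.Agent.PERM.I5.Defs
import Cfsg.Agent.CHAR.FS
import Cfsg.Agent.CHAR.IndMap
import Cfsg.Agent.CHAR.IndRep
import Cfsg.Agent.CHAR.Constit
import Cfsg.Agent.CHAR.Quot

set_option autoImplicit false

namespace CL.I5

open Subgroup Cfsg CL.CS CL.Ito

variable {G : Type*} [Group G] [Finite G]

/- STUB YReal (~80 lines). π = Ind_M^G 1. |M| π(g) = #{u | u⁻¹ g u ∈ M} (card_mul_indFun_one), so
π(g²) ≥ π(g), strictly for an involution j (M is core-free), Σ π(g) = |G|. If every constituent ≠ 1 were non-real,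
its Frobenius-Schur indicator vanishes and Σ π(g²) = |G| (π, 1) = |G|. -/
theorem exists_real_constituent [Fintype G] [IsSimpleGroup G] (hG : ¬ IsMulCommutative G)
    {M : Subgroup G} [Fintype M] (hM : M ≠ ⊤) :
    ∃ ψ : G → ℂ, IsIrrCharacter G ψ ∧ (ψ ≠ fun _ => 1) ∧ (∀ g, (starRingEnd ℂ) (ψ g) = ψ g) ∧
      classInner (indFun M fun _ => (1 : ℂ)) ψ ≠ 0 := by
  classical
  by_contra hn
  obtain ⟨n, h1, h2⟩ := (CL.Char.isCharacter_one (G := M)).ind.exists_nat_coeffs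
  have c0 : (Nat.card G : ℂ) ≠ 0 := Nat.cast_ne_zero.2 Nat.card_pos.ne'
  have e : ∑ g, indFun M (fun _ => (1 : ℂ)) (g * g) = ∑ g, indFun M (fun _ => (1 : ℂ)) g := by
    rw [h2]
    simp only [Finset.sum_apply, Pi.smul_apply, smul_eq_mul]
    rw [Finset.sum_comm, Finset.sum_comm (s := Finset.univ (α := G))]
    refine Finset.sum_congr rfl fun χ _ => ?_
    rw [← Finset.mul_sum, ← Finset.mul_sum]
    by_cases k : classInner (indFun M fun _ => (1 : ℂ)) χ = 0
    · rw [← h1, k, zero_mul, zero_mul]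
    by_cases k1 : (χ : G → ℂ) = fun _ => 1
    · simp only [k1]
    have k2 : ∃ g, ((χ : G → ℂ) g).im ≠ 0 := by
      by_contra k3
      exact hn ⟨χ, χ.2, k1, fun g => Complex.conj_eq_iff_im.2 (by_contra fun k4 => k3 ⟨g, k4⟩), k⟩
    have k5 := χ.2.fsInd_eq_zero_of_not_real k2
    rw [CL.Char.fsInd_def, mul_eq_zero, inv_eq_zero] at k5
    rw [k5.resolve_left c0, χ.2.sum_eq_zero k1]
  have e' : ∑ g : G, Nat.card {x : G // x⁻¹ * g * x ∈ M} = ∑ g : G, Nat.card {x : G // x⁻¹ * (g * g) * x ∈ M} := by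
    apply Nat.cast_injective (R := ℂ)
    simp only [Nat.cast_sum, ← CL.Char.card_mul_indFun_one, ← Finset.mul_sum, e]
  have sub : ∀ g : G, {x : G | x⁻¹ * g * x ∈ M} ⊆ {x : G | x⁻¹ * (g * g) * x ∈ M} := fun g x hx => by
    have := M.mul_mem hx hx
    rwa [show x⁻¹ * g * x * (x⁻¹ * g * x) = x⁻¹ * (g * g) * x by group] at this
  have eq := (Finset.sum_eq_sum_iff_of_le fun g _ => Nat.card_mono (Set.toFinite _) (sub g)).1 e'
  have := Fact.mk Nat.prime_two
  obtain ⟨j, hj⟩ := exists_prime_orderOf_dvd_card' (G := G) 2 (by_contra fun k =>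
    CL.PSL2E.not_solvable_of_simple hG (Cfsg.Agent.S0205.result (Nat.odd_iff.2 (by omega))))
  have jj : j * j = 1 := by rw [← pow_two, ← hj, pow_orderOf_eq_one]
  have s := Set.eq_of_subset_of_ncard_le (sub j) (eq j (Finset.mem_univ j)).ge
  have hc : j ∈ M.normalCore := fun x => by
    have : x⁻¹ ∈ {x : G | x⁻¹ * j * x ∈ M} := s.ge (by simp [jj])
    simpa using this
  rcases M.normalCore_normal.eq_bot_or_eq_top with k | k
  · rw [k, mem_bot] at hc
    simp [hc] at hj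
  · exact hM (top_le_iff.1 (k.ge.trans M.normalCore_le))

end CL.I5
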