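import Mathlib
import Cfsg.Agent.PERM.I5.Defs
import Cfsg.Agent.PERM.Ito11
import Cfsg.Agent.CHAR.PermRank
import Cfsg.Agent.CHAR.TIFN

set_option autoImplicit false

namespace CL.I5

open Subgroup Cfsg CL.CS CL.Ito

variable {G : Type*} [Group G] [Finite G]

open CL.Char MulAction in
/-- A character `π` regular on `K` has the form `1 + ψ` when a constituent `ψ ≠ 1` is constant on `K \ 1`. -/
theorem YTwo.eq_add [Fintype G] {K : Subgroup G} (hK : 1 < Nat.card K) {π ψ : G → ℂ} (h1 : IsCharacter G π)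
    (hπ1 : π 1 = Nat.card K) (hπ0 : ∀ v ∈ K, v ≠ 1 → π v = 0) (h2 : classInner π (fun _ => 1) ≠ 0)
    (hψ : IsIrrCharacter G ψ) (hψ1 : ψ ≠ fun _ => 1) (h0 : classInner π ψ ≠ 0)
    (hc : ∀ k ∈ K, ∀ l ∈ K, k ≠ 1 → l ≠ 1 → ψ k = ψ l) : ∀ g, π g - 1 = ψ g := by
  classical
  have hρ : IsCharacter G (π - (fun _ => 1) - ψ) := (h1.sub_irr isIrrCharacter_one h2).sub_irr hψ (by
    rwa [classInner_sub_left, isIrrCharacter_one.inner_of_ne hψ hψ1.symm, sub_zero])
  have hreg : classInner (fun k : K => π k) (fun _ => 1) = 1 := by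
    rw [classInner_def, Finset.sum_eq_single 1]
    · rw [map_one, mul_one, OneMemClass.coe_one, hπ1, inv_mul_cancel₀ (card_ne_zero K)]
    · intro k _ hk
      rw [hπ0 _ k.2 fun e => hk (Subtype.ext e), zero_mul]
    · simp
  have h4 := (nat_add_eq_zero ((hψ.isCharacter.res K).exists_nat_inner isCharacter_one)
    ((hρ.res K).exists_nat_inner isCharacter_one) (by
      have hsub : ∀ f g : G → ℂ, classInner (fun k : K => (f - g) k) (fun _ => 1) =
          classInner (fun k : K => f k) (fun _ => 1) - classInner (fun k : K => g k) (fun _ => 1) :=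
        fun f g => classInner_sub_left (fun k : K => f k) (fun k : K => g k) _
      rw [hsub, hsub, hreg, isIrrCharacter_one.inner_self]
      ring)).1
  have := Finite.one_lt_card_iff_nontrivial.1 hK
  obtain ⟨k, hk⟩ := exists_ne (1 : K)
  have hk' : ∀ a : K, a ≠ 1 → ψ a = ψ k := fun a ha =>
    hc _ a.2 _ k.2 (fun e => ha (Subtype.ext e)) fun e => hk (Subtype.ext e)
  obtain ⟨n, hn⟩ : ∃ n : ℤ, ψ k = n := exists_int_of_const_off_one (hψ.isCharacter.res K).isGen hk hk'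
  obtain ⟨d, d0, hd⟩ := hψ.exists_pos_degree
  obtain ⟨e, he⟩ := hρ.exists_nat_degree
  rw [classInner_def, mul_eq_zero, ← Finset.add_sum_erase _ _ (Finset.mem_univ 1),
    Finset.sum_congr rfl fun a ha => by rw [hk' a (Finset.ne_of_mem_erase ha), hn]] at h4
  replace h4 := h4.resolve_left (inv_ne_zero (card_ne_zero K))
  obtain ⟨m, hm⟩ : ∃ m, Nat.card K = m + 1 := ⟨_, (Nat.sub_add_cancel hK.le).symm⟩
  simp only [map_one, mul_one, OneMemClass.coe_one, hd, Finset.sum_const, Finset.card_erase_of_mem (Finset.mem_univ _),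
    Finset.card_univ, ← Nat.card_eq_fintype_card, hm, Nat.add_sub_cancel, nsmul_eq_mul] at h4
  simp only [Pi.sub_apply, hπ1, hd, hm, Nat.cast_add, Nat.cast_one, add_sub_cancel_right, sub_eq_iff_eq_add] at he
  have a1 : (d : ℤ) + m * n = 0 := by exact_mod_cast h4
  have a2 : m = e + d := by exact_mod_cast he
  have a3 : e = 0 := by
    have : (m : ℤ) ∣ d := ⟨-n, by linarith⟩
    have := Nat.le_of_dvd d0 (Int.natCast_dvd_natCast.1 this)
    omega
  have := hρ.eq_zero_of_one (by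
    simp only [Pi.sub_apply, hπ1, hd, hm, a2, a3]
    push_cast
    ring)
  exact fun g => sub_eq_zero.1 (congrFun this g)

open CL.Char MulAction in
theorem iso_one_of_const [Fintype G] [IsSimpleGroup G] (hG : ¬ IsMulCommutative G) {K : Subgroup G}
    (hodd : Odd (Nat.card K)) (hco : (Nat.card K).Coprime K.index) {x : G} (hx : x ≠ 1)
    (hxK : (𝐂[x]).index = Nat.card K) [Fintype 𝐂[x]] {ψ : G → ℂ} (hψ : IsIrrCharacter G ψ)
    (hψ1 : ψ ≠ fun _ => 1) (h0 : classInner (indFun 𝐂[x] fun _ => (1 : ℂ)) ψ ≠ 0)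
    (hc : ∀ k ∈ K, ∀ l ∈ K, k ≠ 1 → l ≠ 1 → ψ k = ψ l) : IsIsolated x ∧ One x := by
  classical
  have _ := hodd
  set π := indFun 𝐂[x] fun _ => (1 : ℂ) with hπ
  have h1 : IsCharacter G π := isCharacter_one.ind
  have h2 : classInner π (fun _ => 1) = 1 := by
    rw [hπ, classInner_indFun_left _ _ (isClassFunction_const 1)]
    exact isIrrCharacter_one.inner_self
  have hz : x ∉ center G := fun h4 => hG ⟨⟨mul_comm_of_simple_of_mem_center hx h4⟩⟩
  have hK : 1 < Nat.card K := hxK ▸ one_lt_index_cen_iff.2 hz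
  have hM : Nat.card 𝐂[x] = K.index := Nat.eq_of_mul_eq_mul_right (zero_lt_one.trans hK) (by
    rw [← hxK, card_mul_index, hxK, index_mul_card])
  have hπ1 : π 1 = Nat.card K := by rw [hπ, indFun_one, hxK, mul_one]
  have key := YTwo.eq_add hK h1 hπ1 (fun v hv v1 => indFun_eq_zero_of_not_conj _ _ _ fun g hg => v1 (by
    have e := hM ▸ (𝐂[x]).orderOf_dvd_natCard hg
    rw [show g⁻¹ * v * g = MulAut.conj g⁻¹ v by simp, MulEquiv.orderOf_eq] at e
    exact orderOf_eq_one_iff.1 (Nat.eq_one_of_dvd_coprimes hco (K.orderOf_dvd_natCard hv) e)))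
    (h2.trans_ne one_ne_zero) hψ hψ1 h0 hc
  refine ⟨fun h hh => ?_, fun T g t1 t2 => by_contra fun hg => ?_⟩
  · have h3 : π x = 1 := sub_eq_zero.1 ((key x).trans ((hψ.eq_zero_or_norm_eq x (by
      have e := key 1
      rw [hπ1, hψ.apply_one_eq_charDegree, sub_eq_iff_eq_add] at e
      rw [hxK, (by exact_mod_cast e : Nat.card K = charDegree ψ + 1)]
      simp)).resolve_right fun e => by
        have h4 := hψ.mem_charCenter.2 e
        rw [hψ.charCenter_eq_center (hψ.charKer_eq_bot_of_simple hψ1)] at h4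
        exact hz h4))
    have h4 := card_mul_indFun_one 𝐂[x] x
    rw [← hπ, h3, mul_one, Nat.cast_inj] at h4
    let f : 𝐂[x] → {u : G // u⁻¹ * x * u ∈ 𝐂[x]} := fun c =>
      ⟨c, mul_mem (mul_mem (inv_mem c.2) (self_mem_cen x)) c.2⟩
    obtain ⟨c, hc⟩ := ((Nat.bijective_iff_injective_and_card f).2
      ⟨fun a b e => Subtype.ext (congrArg (fun y => y.1) e), h4⟩).2 ⟨h⁻¹, by simpa using mem_cen'.2 hh⟩
    have e : (c : G) = h⁻¹ := congrArg Subtype.val hc
    have : h ∈ 𝐂[x] := inv_mem_iff.1 (e ▸ c.2)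
    rw [(mem_cen.1 this).eq, mul_inv_cancel_right]
  · have : Nontrivial (G ⧸ 𝐂[x]) := Finite.one_lt_card_iff_nontrivial.1 (one_lt_index_cen_iff.2 hz)
    have t := (isIrr_perm_sub_one_iff (G := G) (G ⧸ 𝐂[x])).1 (by
      convert hψ using 2 with u
      rw [← key, hπ, indFun_one_eq_card_fixedBy])
    have ne : ((1 : G) : G ⧸ 𝐂[x]) ≠ (g : G ⧸ 𝐂[x]) := fun e => hg (by simpa using QuotientGroup.eq.1 e)
    have c2 := Set.ncard_pair ne
    have e := IsMultiplyPretransitive.index_of_fixingSubgroup_eq {((1 : G) : G ⧸ 𝐂[x]), (g : G ⧸ 𝐂[x])} (c2 ▸ t)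
    refine not_dvd_index_of_sylow_le (P := T) (H := fixingSubgroup G {((1 : G) : G ⧸ 𝐂[x]), (g : G ⧸ 𝐂[x])})
      (fun u hu => (mem_fixingSubgroup_iff G).2 ?_) (by rw [e, c2]; exact dvd_mul_left _ _)
    rintro _ (rfl | rfl)
    · exact QuotientGroup.eq.2 (by simpa using t1 hu)
    · refine QuotientGroup.eq.2 (mem_cen.2 ?_)
      have := (mem_cen.1 (t2 (inv_mem hu))).eq
      calc (u • g)⁻¹ * g * x = g⁻¹ * (u⁻¹ * (g * x * g⁻¹)) * g := by simp [mul_assoc]
        _ = x * ((u • g)⁻¹ * g) := by rw [this]; simp [mul_assoc]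

end CL.I5
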