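import Mathlib
import Cfsg.Agent.PERM.I5.LemK
import Cfsg.Agent.PERM.I5.DA
import Cfsg.Agent.PERM.I5.DB
import Cfsg.Agent.PERM.I5.DIS
import Cfsg.Agent.PERM.I5.Iso
import Cfsg.Agent.PERM.I5.YReal
import Cfsg.Agent.PERM.I5.YCoh
import Cfsg.Agent.PERM.I5.YTwo
import Cfsg.Agent.PERM.I5.Real
import Cfsg.Agent.PERM.I5.Nil
import Cfsg.Agent.PERM.I5.KA
import Cfsg.Agent.PERM.I5.KE
import Cfsg.Agent.PERM.I5.KD
import Cfsg.Agent.PERM.I5.KAl
import Cfsg.Agent.PERM.I5.KX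
import Cfsg.Agent.PERM.I5.KB1
import Cfsg.Agent.PERM.I5.KB2

/-!
# Simple groups with five non-trivial class sizes and two minimal ones
-/

set_option autoImplicit false

namespace CL.I5

open Subgroup Cfsg CL.CS CL.Ito

variable {G : Type*} [Group G] [Finite G] [IsSimpleGroup G] (hG : ¬ IsMulCommutative G)
include hG

theorem K2.false {a a' u s : ℕ} (H : K2 G a a' u s) : False := by
  have := Fact.mk H.hs
  have := Fact.mk H.hu
  have H4 := H.k3.k4 hG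
  have hua : u ∣ a := by
    obtain ⟨k, hk, e⟩ := H.pow
    exact e ▸ dvd_mul_of_dvd_right (dvd_pow_self u hk.ne') _
  by_cases hB : ∀ (t : G) (k : ℕ), t ≠ 1 → t ^ u ^ k = 1 → Nat.card 𝐂[t] = a
  · have hE := H4.exp hB
    obtain ⟨S⟩ : Nonempty (Sylow s G) := inferInstance
    obtain ⟨y, hy, hyo, hyN⟩ := H4.exy S
    have hy1 : y ≠ 1 := by
      rintro rfl
      exact H.hu.one_lt.ne (by rw [← hyo, orderOf_one])
    have hya := hB y 1 hy1 (by rw [pow_one, ← hyo, pow_orderOf_eq_one])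
    rcases H4.dich S hy hya with e | e
    · exact H4.beta hB hE S (e ▸ hya)
    obtain ⟨τ, hτN, hτA, -, k, hk⟩ := H4.ext S
    have hSK : (S : Subgroup G) ≤ 𝐂[y] := le_normalizer.trans hyN
    have : Group.IsSolvable 𝐂[y] := Cfsg.Agent.S0205.result (hya ▸ H.odd)
    have hS : IsPGroup s ((S : Subgroup G).subgroupOf 𝐂[y]) := S.isPGroup'.comap_subtype
    let τ' : 𝐂[y] := ⟨τ, hyN hτN⟩
    obtain ⟨w, hw, h1⟩ := exists_pow_ne_one (V := pCore u 𝐂[y]) H.hu H.hs H.su (isPGroup_pCore u _) hS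
      le_normalizer_of_normal (τ := τ') (le_normalizer_of_normal (mem_top _))
      (mem_normalizer_iff.2 fun h => mem_normalizer_iff.1 hτN (h : G)) (Subtype.ext (hE τ k hk))
      (fun h hh hc => by_contra fun h1 => hτA (by
        have h2 : (h : G) ≠ 1 := fun e => h1 (Subtype.ext e)
        obtain ⟨j, hj⟩ := pow_eq_one_of_mem_isPGroup S.isPGroup' hh
        rw [← H4.cen S h (H4.le S hh) h2 (coprime_of_pow_of_ne H.hu H.hs H.su hj)]
        exact mem_cen'.2 (hc.map (𝐂[y]).subtype)))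
      (fun h1 => H4.ne S (by
        have h2 := IsPGroup.disjoint_of_ne s u H.su _ _ hS (isPGroup_pCore u 𝐂[y])
        have h3 := h2.eq_bot_of_le (h1.trans (centralizer_pCore_le_of_isSolvable e))
        rwa [subgroupOf_eq_bot, disjoint_iff, inf_eq_left.2 hSK] at h3))
    have h2 : IsPGroup u ↥(zpowers τ' ⊔ pCore u 𝐂[y]) :=
      (isPGroup_zpowers (p := u) (k := k) (Subtype.ext hk)).to_sup_of_normal_right (isPGroup_pCore u _)
    obtain ⟨j, hj⟩ := pow_eq_one_of_mem_isPGroup h2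
      (mul_mem (mem_sup_right hw) (mem_sup_left (mem_zpowers τ')))
    exact h1 (Subtype.ext (hE _ j (congrArg Subtype.val hj)))
  push Not at hB
  obtain ⟨t, k, ht1, hk, ht⟩ := hB
  refine H4.alpha ht1 hk hua ht fun S v hv ha => (H4.dich S hv ha).resolve_right fun e => ht ?_
  obtain ⟨S', hS'⟩ := H4.exS t ht1 fun hc => by
    obtain ⟨j, -, hj⟩ := (Nat.dvd_prime_pow H.hu).1 (orderOf_dvd_of_pow_eq_one hk)
    have h1 : u ∣ orderOf t := hj ▸ dvd_pow_self u (by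
      rintro rfl
      exact ht1 (orderOf_eq_one_iff.1 hj))
    exact H.hu.not_dvd_one (hc ▸ Nat.dvd_gcd (h1.trans (Subgroup.orderOf_dvd_natCard _ (self_mem_cen t))) hua)
  obtain ⟨g, rfl⟩ := MulAction.exists_smul_eq G S' S
  rw [← card_cen_conj g]
  refine H4.large _ hv ha e (le_cen_iff.1 ?_) (by simpa using ht1) (k := k) (by rw [conj_pow, hk]; simp)
  rw [cen_conj]
  exact pointwise_smul_le_pointwise_smul_iff.2 hS'

theorem TH.not_dvd {x y : G} (H : TH x y) : ¬ (𝐂[x]).index ∣ (𝐂[y]).index := fun e =>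
  index_ne_pow hG H.hx Nat.prime_two 0 (Nat.eq_one_of_dvd_coprimes H.co dvd_rfl e).dvd

omit [Group G] [Finite G] [IsSimpleGroup G] hG in
theorem third {a b c d e x y : ℕ} (hx : x = a ∨ x = b ∨ x = c ∨ x = d ∨ x = e)
    (hy : y = a ∨ y = b ∨ y = c ∨ y = d ∨ y = e) (h1 : x ≠ a) (h2 : x ≠ b) (h3 : y ≠ a) (h4 : y ≠ b)
    (h5 : x ≠ y) : ∃ z, ∀ n, (n = a ∨ n = b ∨ n = c ∨ n = d ∨ n = e) →
      n = a ∨ n = b ∨ n = x ∨ n = y ∨ n = z := by
  refine ⟨c + d + e - x - y, fun n hn => ?_⟩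
  omega

theorem TH.exact {x y : G} (H : TH x y) {c d e : ℕ}
    (h5 : ∀ g : G, g ≠ 1 → (𝐂[g]).index = (𝐂[x]).index ∨ (𝐂[g]).index = (𝐂[y]).index ∨
      (𝐂[g]).index = c ∨ (𝐂[g]).index = d ∨ (𝐂[g]).index = e) : Nat.card 𝐂[y] = (𝐂[x]).index := by
  have hZ := center_eq_bot hG
  suffices h : 𝐂[x] ⊓ 𝐂[y] = ⊥ by
    have h3 := index_inf_of_coprime_index _ _ H.co
    rw [h, index_bot, ← card_mul_index 𝐂[y]] at h3
    exact Nat.eq_of_mul_eq_mul_right (index_cen_pos y) h3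
  have key : ∀ {x y : G}, TH x y → (∀ g : G, 𝐂[g] < 𝐂[y] → (𝐂[x]).index ∣ (𝐂[g]).index) →
      𝐂[x] ⊓ 𝐂[y] = ⊥ := fun {x y} H h => eq_bot_iff.2 fun v hv => by_contra fun h1 =>
    not_commute_of_coprime hG H.hx h1 (lemK hG H h v hv.2 h1 ▸ H.co) (mem_cen'.1 hv.1)
  by_cases h1 : ∀ g : G, 𝐂[g] < 𝐂[y] → (𝐂[x]).index ∣ (𝐂[g]).index
  · exact key H h1
  by_cases h2 : ∀ g : G, 𝐂[g] < 𝐂[x] → (𝐂[y]).index ∣ (𝐂[g]).index
  · rw [inf_comm]; exact key H.symm h2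
  push Not at h1 h2
  obtain ⟨v, hv, hv'⟩ := h1
  obtain ⟨w, hw, hw'⟩ := h2
  have h3 := index_dvd_of_le hv.le
  have h4 := index_dvd_of_le hw.le
  obtain ⟨z, hz⟩ := third (h5 w (ne_one_of_le hZ H.hx hw.le)) (h5 v (ne_one_of_le hZ H.hy hv.le))
    (index_ne_of_lt hw) (fun e => hw' e.symm.dvd) (fun e => hv' e.symm.dvd) (index_ne_of_lt hv)
    fun e => hw' (e ▸ h3)
  replace hz := fun g hg => hz _ (h5 g hg)
  by_cases h6 : (𝐂[y]).index ∣ z
  swap
  · exact inf_eq_bot_of_not_dvd hG H hz hw' hv' h6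
  by_cases h7 : (𝐂[x]).index ∣ z
  · exact inf_eq_bot_of_dvd hG H hz hw' h4 hv' h3 h7 h6
  · rw [inf_comm]
    exact inf_eq_bot_of_not_dvd hG H.symm (c := (𝐂[v]).index) (d := (𝐂[w]).index) (e := z)
      (fun g hg => by have := hz g hg; tauto) hv' hw' h7

theorem iso_one_of_nilpotent {K : Subgroup G} (hK1 : K ≠ ⊥) (hnil : Group.IsNilpotent K)
    (hC : ∀ k ∈ K, k ≠ 1 → 𝐂[k] ≤ K) (hTI : IsTISubset (K : Set G)) (hodd : Odd (Nat.card K))
    (hco : (Nat.card K).Coprime K.index) (hnr : ∀ k ∈ K, k ≠ 1 → ¬ IsConj k k⁻¹) {x : G} (hx : x ≠ 1)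
    (hxK : (𝐂[x]).index = Nat.card K) : IsIsolated x ∧ One x := by
  classical
  have := Fintype.ofFinite G
  have := Fintype.ofFinite 𝐂[x]
  obtain ⟨ψ, h1, h2, h3, h4⟩ := exists_real_constituent hG (M := 𝐂[x]) fun e =>
    hx (mem_bot.1 ((center_eq_bot hG).le (cen_eq_top_iff.1 e)))
  exact iso_one_of_const hG hodd hco hx hxK h1 h2 h4 (const_of_real hG hK1 hnil hC hTI hodd hnr h1 h3)

theorem TH.l4_of_odd {x y : G} (H : TH x y) (hodd : Odd (𝐂[x]).index) {c d e : ℕ}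
    (h5 : ∀ g : G, g ≠ 1 → (𝐂[g]).index = (𝐂[x]).index ∨ (𝐂[g]).index = (𝐂[y]).index ∨
      (𝐂[g]).index = c ∨ (𝐂[g]).index = d ∨ (𝐂[g]).index = e) : L4 G := by
  have hZ := center_eq_bot hG
  have hZ' : ∀ {y : G}, y ∉ center G ↔ y ≠ 1 := by simp [hZ]
  have hy := H.exact hG h5
  have hx : Nat.card 𝐂[x] = (𝐂[y]).index :=
    H.symm.exact hG (c := c) (d := d) (e := e) fun g hg => by have := h5 g hg; tauto
  have hxy := H.not_dvd hG
  have hcard : Nat.card G = (𝐂[x]).index * (𝐂[y]).index := by rw [← card_mul_index 𝐂[y], hy]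
  have ha : ∀ {g : G}, (𝐂[x]).index ∣ (𝐂[g]).index → Nat.card 𝐂[g] ∣ (𝐂[y]).index := fun {g} h => by
    obtain ⟨n, hn⟩ := h
    have h1 := card_mul_index 𝐂[g]
    rw [hn, hcard, mul_left_comm] at h1
    exact ⟨n, (Nat.eq_of_mul_eq_mul_left (index_cen_pos x) h1).symm⟩
  have hb : ∀ {g : G}, (𝐂[y]).index ∣ (𝐂[g]).index → Nat.card 𝐂[g] ∣ (𝐂[x]).index := fun {g} h => by
    obtain ⟨n, hn⟩ := h
    have h1 := card_mul_index 𝐂[g]
    rw [hn, hcard, mul_left_comm, mul_comm (𝐂[x]).index] at h1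
    exact ⟨n, (Nat.eq_of_mul_eq_mul_left (index_cen_pos y) h1).symm⟩
  have hev : ∀ g : G, g ≠ 1 → 2 ∣ Nat.card 𝐂[g] → (𝐂[x]).index ∣ (𝐂[g]).index := fun g hg h2 =>
    (H.dv g hg).resolve_right fun e => hodd.not_two_dvd_nat (h2.trans (hb e))
  have hne : ∀ {g : G}, (𝐂[x]).index ∣ (𝐂[g]).index → g ≠ 1 := by
    rintro _ h rfl
    exact index_ne_pow hG H.hx Nat.prime_two 0 (h.trans index_cen_one.dvd)
  by_cases h1 : ∃ c, ∀ g : G, (𝐂[x]).index ∣ (𝐂[g]).index →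
      (𝐂[g]).index = (𝐂[x]).index ∨ (𝐂[g]).index = c
  · obtain ⟨c, h1⟩ := h1
    refine DI.simple hG (c := c) fun t ht => ?_
    have ht1 : t ≠ 1 := by rintro rfl; simp at ht
    have h2 := hev t ht1 (ht ▸ Subgroup.orderOf_dvd_natCard _ (self_mem_cen t))
    refine ⟨fun g hg => (h1 g (h2.trans hg)).imp_left fun e => ?_, fun e g hg h3 => ?_⟩
    · exact (H.headx t ht1 (e ▸ hg)).symm ▸ e
    · have h4 := (h1 t h2).resolve_right e
      rw [h4] at h3 ⊢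
      exact H.headx g hg h3
  exfalso
  push Not at h1
  obtain ⟨v, hv, hv1, -⟩ := h1 0
  obtain ⟨w, hw, hw1, hvw⟩ := h1 (𝐂[v]).index
  obtain ⟨z, hz⟩ := third (h5 v (hne hv)) (h5 w (hne hw)) hv1 (fun e => hxy (e ▸ hv)) hw1
    (fun e => hxy (e ▸ hw)) hvw.symm
  replace hz := fun g hg => hz _ (h5 g hg)
  suffices h : (∀ x' : G, (𝐂[x']).index = (𝐂[x]).index → IsIsolated x') ∧ One x from
    ISO.false hG ⟨H.hx, hodd, hx ▸ H.co, H.headx, hev, h.1, h.2⟩ (c := (𝐂[v]).index)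
      (d := (𝐂[w]).index) (e := z) fun g hg h2 => by
        rcases hz g hg with e | e | e
        exacts [.inl e, (hxy (e ▸ h2)).elim, .inr e]
  by_cases hr : ∃ g : G, g ≠ 1 ∧ ¬ (Nat.card 𝐂[g]).Coprime (𝐂[x]).index ∧ IsConj g g⁻¹
  · obtain ⟨g, hg1, hg2, hg3⟩ := hr
    obtain ⟨h2, h3⟩ := free_of_real H hy hodd hg1 hg2 hg3
    refine ⟨fun x' hx' g hg => ?_, h3⟩
    rw [(mem_cen.1 ((isolated_of_free hG (hne hx'.symm.dvd) H.hy (hx' ▸ H.co) h2).2 g hg.symm)).eq,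
      mul_inv_cancel_right]
  push Not at hr
  have hk : ∀ {K : Subgroup G}, Nat.card K = (𝐂[x]).index → ∀ k ∈ K, k ≠ 1 →
      ¬ (Nat.card 𝐂[k]).Coprime (𝐂[x]).index := fun {K} hK k hk hk1 hc =>
    hk1 (orderOf_eq_one_iff.1 (Nat.eq_one_of_dvd_coprimes hc
      (Subgroup.orderOf_dvd_natCard _ (self_mem_cen k)) (hK ▸ Subgroup.orderOf_dvd_natCard _ hk)))
  suffices h : ∃ K : Subgroup G, Nat.card K = (𝐂[x]).index ∧ Group.IsNilpotent K ∧
      (∀ k ∈ K, k ≠ 1 → 𝐂[k] ≤ K) ∧ IsTISubset (K : Set G) by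
    obtain ⟨K, h1, h2, h3, h4⟩ := h
    have h6 : K.index = (𝐂[y]).index := Nat.eq_of_mul_eq_mul_left (index_cen_pos x) (by
      rw [← hcard, ← h1, card_mul_index])
    have h7 := fun (x' : G) (hx' : (𝐂[x']).index = (𝐂[x]).index) => iso_one_of_nilpotent hG
      (K := K) (by
        rintro rfl
        exact index_ne_pow hG H.hx Nat.prime_two 0 (by rw [← h1, card_bot]; simp))
      h2 h3 h4 (h1 ▸ hodd) (h1 ▸ h6 ▸ H.co) (fun k h0 hk1 => hr k hk1 (hk h1 k h0 hk1))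
      (hne hx'.symm.dvd) (hx'.trans h1.symm)
    exact ⟨fun x' hx' => (h7 x' hx').1, (h7 x rfl).2⟩
  by_cases hf : ∀ g, 𝐂[g] ≤ 𝐂[y] → 𝐂[g] = 𝐂[y]
  · have hB := cen_eq_of_coprime hG H.hx H.hy H.co hf fun g hg hle =>
      (eq_of_le_of_index_eq hle (H.heady g hg (index_dvd_of_le hle)).symm).symm
    have : IsMulCommutative 𝐂[y] := ⟨⟨fun a b => by
      by_cases h0 : (a : G) = 1
      · rw [show a = 1 from Subtype.ext h0, one_mul, mul_one]
      · exact Subtype.ext (mem_cen'.1 ((hB _ a.2 h0).ge b.2))⟩⟩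
    exact ⟨𝐂[y], hy, ⟨1, by
      rw [Subgroup.upperCentralSeries_one]; exact eq_top_iff.2 fun a _ => mem_center_iff.2 fun b => mul_comm' b a⟩,
      fun k h0 h1 => (hB k h0 h1).le, fun g hg t ht h0 =>
      by_contra fun ht1 => hg (mem_normalizer_of_cen hB ht ht1 h0)⟩
  push Not at hf
  obtain ⟨g, hg, hg'⟩ := hf
  have hlt := hg.lt_of_ne hg'
  have h2 : ∀ k : G, k ≠ 1 → (𝐂[y]).index ∣ (𝐂[k]).index →
      (𝐂[k]).index = (𝐂[y]).index ∨ (𝐂[k]).index = z := fun k hk1 h0 => by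
    have h3 : ¬ (𝐂[x]).index ∣ (𝐂[k]).index := fun e => hk1 (orderOf_eq_one_iff.1
      (Nat.eq_one_of_dvd_coprimes H.co ((Subgroup.orderOf_dvd_natCard _ (self_mem_cen k)).trans (hb h0))
        ((Subgroup.orderOf_dvd_natCard _ (self_mem_cen k)).trans (ha e))))
    rcases hz k hk1 with e | e | e | e | e
    exacts [(h3 e.symm.dvd).elim, .inl e, (h3 (e ▸ hv)).elim, (h3 (e ▸ hw)).elim, .inr e]
  have h3 := (h2 g (ne_one_of_le hZ H.hy hg) (index_dvd_of_le hg)).resolve_left (index_ne_of_lt hlt)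
  obtain ⟨-, u, k, hu, hk'⟩ := relIndex_eq_pow hZ hlt (hZ'.2 H.hy)
    (fun z hz e => h3 ▸ h2 z (hZ'.1 hz) e) fun z hz => H.heady z (hZ'.1 hz)
  obtain ⟨s, hs, hsu, hsa⟩ := exists_prime_dvd_index hG H.hx u
  have HK : KS G (𝐂[x]).index (Nat.card 𝐂[g]) u s :=
    { odd := hodd, hu := hu, hs := hs, su := hsu, sa := hsa
      pow := ⟨k, Nat.pos_of_ne_zero (by
          rintro rfl
          exact hlt.not_ge (relIndex_eq_one.1 hk')), by
        rw [← hk', ← hy, ← card_mul_index ((𝐂[g]).subgroupOf 𝐂[y]),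
          Nat.card_congr (subgroupOfEquivOfLe hg).toEquiv]
        rfl⟩
      dvd := index_dvd_card _
      hall := by rw [hcard, Nat.mul_div_cancel_left _ (index_cen_pos x)]; exact H.co
      size := fun t ht h0 => (h2 t ht ((H.dv t ht).resolve_left fun e =>
          h0 (H.co.symm.coprime_dvd_left (ha e)))).imp (fun e => (card_cen_eq e).trans hy)
        fun e => card_cen_eq (e.trans h3.symm)
      exB := ⟨y, H.hy, hy⟩ }
  by_contra h4
  exact K2.false hG { HK with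
    nreal := hr
    nB := fun h h1 hu ha => h4 (HK.nilpotent h1 hu ha) }

theorem TH.l4 {x y : G} (H : TH x y) {c d e : ℕ}
    (h5 : ∀ g : G, g ≠ 1 → (𝐂[g]).index = (𝐂[x]).index ∨ (𝐂[g]).index = (𝐂[y]).index ∨
      (𝐂[g]).index = c ∨ (𝐂[g]).index = d ∨ (𝐂[g]).index = e) : L4 G := by
  by_cases h : Odd (𝐂[x]).index
  · exact H.l4_of_odd hG h h5
  · exact H.symm.l4_of_odd hG (Nat.not_even_iff_odd.1 fun e => Nat.prime_two.not_dvd_one
      (H.co ▸ Nat.dvd_gcd (Nat.not_odd_iff_even.1 h).two_dvd e.two_dvd)) (c := c) (d := d) (e := e)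
      fun g hg => by have := h5 g hg; tauto

/-- coprime class sizes do not occur in `A₇` -/
theorem TH.not_A7 {x y : G} (H : TH x y) (e : G ≃* alternatingGroup (Fin 7)) : False := by
  have : Fact (Nat.Prime 7) := ⟨by norm_num⟩
  have hc : 7 ∣ Nat.card G := by
    rw [Nat.card_congr e.toEquiv, nat_card_alternatingGroup]
    simp [Nat.factorial]
  have key : ∀ {x y : G}, TH x y → ¬ 7 ∣ (𝐂[y]).index → False := fun {x y} H h => by
    obtain ⟨y', -, hp, hy⟩ := exists_prime_cen H.hy H.heady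
    have h7 : ∀ {g : G} {r : ℕ}, r.Prime → r ∣ Nat.card 𝐂[g] → ¬ r ∣ orderOf g →
        orderOf g * r ∈ [1, 2, 3, 4, 5, 6, 7] := fun hr h1 h2 =>
      let ⟨z, hz⟩ := exists_orderOf_mul hr h1 h2
      hz ▸ (e.orderOf_eq z ▸ spec_A7 (e z))
    have h1 : 7 ∣ Nat.card 𝐂[y'] := hy ▸
      ((Nat.Prime.dvd_mul this.out).1 (card_mul_index 𝐂[y] ▸ hc)).resolve_right h
    have h2 : orderOf y' = 7 := by_contra fun h2 => by
      have h3 := h7 this.out h1 fun h3 => h2 ((Nat.prime_dvd_prime_iff_eq this.out hp).1 h3).symm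
      have := hp.two_le
      simp only [List.mem_cons, List.not_mem_nil, or_false] at h3
      omega
    obtain ⟨r, hr, hr7, hd⟩ := exists_prime_dvd_index hG H.hx 7
    have h3 : r ∣ Nat.card 𝐂[y'] := hy ▸
      (hr.dvd_mul.1 (card_mul_index 𝐂[y] ▸ hd.trans (index_dvd_card _))).resolve_right
        fun h3 => hr.not_dvd_one (H.co ▸ Nat.dvd_gcd hd h3)
    have h4 := h7 hr h3 fun h4 => hr7 ((Nat.prime_dvd_prime_iff_eq hr this.out).1 (h2 ▸ h4))
    have := hr.two_le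
    simp only [h2, List.mem_cons, List.not_mem_nil, or_false] at h4
    omega
  by_cases h : 7 ∣ (𝐂[y]).index
  · exact key H.symm fun h' => this.out.not_dvd_one (H.co ▸ Nat.dvd_gcd h' h)
  · exact key H h

end CL.I5
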